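import Groth.Agent.FModLib.MLCore
import Groth.Agent.AmpleVan.AdicMod
import Groth.Agent.ExtShX.PushH
import Groth.Agent.S0002

/-!
# The cohomology of a coherent system on a proper adic system is Mittag-Leffler
-/

set_option linter.style.haveILetI false
set_option backward.isDefEq.respectTransparency false
set_option backward.isDefEq.respectTransparency.types false

universe u

open CategoryTheory CategoryTheory.Limits AlgebraicGeometry TopologicalSpace Opposite
open Groth.Agent.PnCoh.Finite (mapLin deltaLin exists_of_deltaLin_eq_zero)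

attribute [local instance] Groth.Agent.QCoh.hasFiniteBiproducts

noncomputable section

namespace Groth.Agent.FModLib

open Groth.Agent Groth.Agent.AmpleVan

/-- The group structure on cohomology, cached: unfolding it afresh is slow. -/
@[instance_reducible] def hhGroup (X : Scheme.{u}) (M : X.Modules) (n : ℕ) : AddCommGroup (Coh.HH X M n) :=
  inferInstance

attribute [local instance 2000] hhGroup

/-- The module structure on cohomology, cached: unfolding it afresh is slow. -/
@[instance_reducible] def hhMod (A : Type u) [CommRing A] (X : Scheme.{u}) [X.Over (Spec (CommRingCat.of A))]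
    (M : X.Modules) (n : ℕ) : Module A (Coh.HH X M n) :=
  Coh.moduleOver A X M n

attribute [local instance 2000] hhMod

variable {A : Type u} [CommRing A] {X Z : Scheme.{u}} [X.Over (Spec (CommRingCat.of A))]
  [Z.Over (Spec (CommRingCat.of A))]

section Iso

theorem mapLin_id' (N : X.Modules) (p : ℕ) (x : Coh.HH X N p) : mapLin A (𝟙 N) p x = x := by
  show Sheaf.H.map ((QCoh.toAbFunctor X).map (𝟙 N)) p x = x
  rw [CategoryTheory.Functor.map_id]
  exact Sheaf.H.map_id_apply x

theorem mapLin_zero' {N N' : X.Modules} (p : ℕ) (x : Coh.HH X N p) : mapLin A (0 : N ⟶ N') p x = 0 := by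
  show Sheaf.H.map ((QCoh.toAbFunctor X).map 0) p x = 0
  rw [Functor.map_zero]
  show ((Sheaf.functorH _ p).map 0).hom x = 0
  rw [Functor.map_zero]
  rfl

/-- The isomorphism in cohomology induced by an isomorphism of modules. -/
def mapEquiv {N N' : X.Modules} (e : N ≅ N') (p : ℕ) : Coh.HH X N p ≃ₗ[A] Coh.HH X N' p :=
  LinearEquiv.ofLinear (mapLin A e.hom p) (mapLin A e.inv p)
    (LinearMap.ext fun x => ((FFun.mapLin_comp e.inv e.hom p x).trans (FFun.mapLin_congr e.inv_hom_id p x)).trans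
      (mapLin_id' N' p x))
    (LinearMap.ext fun x => ((FFun.mapLin_comp e.hom e.inv p x).trans (FFun.mapLin_congr e.hom_inv_id p x)).trans
      (mapLin_id' N p x))

theorem mapEquiv_apply {N N' : X.Modules} (e : N ≅ N') (p : ℕ) (x : Coh.HH X N p) :
    mapEquiv (A := A) e p x = mapLin A e.hom p x := rfl

end Iso

section Push

variable (i : Z ⟶ X) [IsClosedImmersion i]
  (hi : i ≫ (X ↘ Spec (CommRingCat.of A)) = Z ↘ Spec (CommRingCat.of A))

variable (A) in
/-- Cohomology of a direct image along a closed immersion. -/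
def eHH (N : Z.Modules) (p : ℕ) : Coh.HH Z N p →+ Coh.HH X ((Scheme.Modules.pushforward i).obj N) p :=
  ExtShX.pushHMap (IsClosedImmersion.base_closed i) (Coh.toAb N) p

omit [X.Over (Spec (CommRingCat.of A))] [Z.Over (Spec (CommRingCat.of A))] in
theorem bijective_eHH (N : Z.Modules) (p : ℕ) : Function.Bijective (eHH i N p) :=
  ExtShX.pushHMap_bijective _ p _

theorem eHH_map {N N' : Z.Modules} (φ : N ⟶ N') (p : ℕ) (x : Coh.HH Z N p) :
    eHH i N' p (mapLin A φ p x) = mapLin A ((Scheme.Modules.pushforward i).map φ) p (eHH i N p x) :=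
  ExtShX.pushHMap_natural _ _ p x

include hi in
theorem eHH_smul (N : Z.Modules) (p : ℕ) (b : A) (x : Coh.HH Z N p) :
    eHH i N p (b • x) = b • eHH i N p x := by
  rw [← FFun.mapLin_smulMod, eHH_map, AmpleVan.push_map_smulMod i hi, FFun.mapLin_smulMod]

/-- Cohomology of a direct image along a closed immersion, linearly. -/
def eLin (N : Z.Modules) (p : ℕ) : Coh.HH Z N p ≃ₗ[A] Coh.HH X ((Scheme.Modules.pushforward i).obj N) p :=
  LinearEquiv.ofBijective
    { toFun := eHH i N p, map_add' := map_add _, map_smul' := eHH_smul i hi N p } (bijective_eHH i N p)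

theorem eLin_map {N N' : Z.Modules} (φ : N ⟶ N') (p : ℕ) (x : Coh.HH Z N p) :
    eLin i hi N' p (mapLin A φ p x) = mapLin A ((Scheme.Modules.pushforward i).map φ) p (eLin i hi N p x) :=
  eHH_map i φ p x

theorem eLin_delta {T : ShortComplex Z.Modules} (hT : T.ShortExact)
    (hT' : (T.map (Scheme.Modules.pushforward i)).ShortExact) (p : ℕ) (x : Coh.HH Z T.X₃ p) :
    eLin i hi T.X₁ (p + 1) (deltaLin A hT p x) = deltaLin A hT' p (eLin i hi T.X₃ p x) :=
  ExtShX.pushHMap_connecting (IsClosedImmersion.base_closed i) (QCoh.toAb_shortExact hT)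
    (QCoh.toAb_shortExact hT') p x

end Push

variable {J : Ideal A} {S : AdicSys A J} (M : AdicMod S) (p : ℕ)

/-- The identification of the cohomology of a level with that of its direct image. -/
abbrev eStep (k : ℕ) (N : (S.X k).Modules) (q : ℕ) :
    Coh.HH (S.X k) N q ≃ₗ[A] Coh.HH (S.X (k + 1)) ((Scheme.Modules.pushforward (S.i k)).obj N) q :=
  eLin (S.i k) (S.i_over k) N q

/-- The transitions in cohomology. -/
def trH (k : ℕ) : Coh.HH (S.X (k + 1)) (M.F (k + 1)) p →ₗ[A] Coh.HH (S.X k) (M.F k) p :=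
  (eStep k (M.F k) p).symm.toLinearMap.comp (mapLin A (M.π k) p)

/-- Multiplication one level up in cohomology. -/
def upH (k : ℕ) (a : A) (ha : a ∈ J) : Coh.HH (S.X k) (M.F k) p →ₗ[A] Coh.HH (S.X (k + 1)) (M.F (k + 1)) p :=
  (mapLin A (M.up k a ha) p).comp (eStep k (M.F k) p).toLinearMap

theorem trH_upH (k : ℕ) (a : A) (ha : a ∈ J) (x : Coh.HH (S.X k) (M.F k) p) :
    trH M p k (upH M p k a ha x) = a • x := by
  show (eStep k (M.F k) p).symm (mapLin A (M.π k) p (mapLin A (M.up k a ha) p (eStep k (M.F k) p x))) = _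
  rw [FFun.mapLin_comp, M.up_π, FFun.mapLin_smulMod, ← map_smul (eStep k (M.F k) p), LinearEquiv.symm_apply_apply]

/-- Iterated direct image from the bottom level. -/
def psiJ : ∀ k, ∀ N : (S.X 0).Modules,
    Coh.HH (S.X 0) N (p + 1) ≃ₗ[A] Coh.HH (S.X k) ((Scheme.Modules.pushforward (S.j k)).obj N) (p + 1)
  | 0, N => eLin (S.j 0) (S.j_over 0) N (p + 1)
  | k + 1, N => (psiJ k N).trans ((eStep k _ (p + 1)).trans (mapEquiv ((AdicMod.comp k).app N) (p + 1)))

theorem psiJ_succ (k : ℕ) (N : (S.X 0).Modules) (x : Coh.HH (S.X 0) N (p + 1)) :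
    psiJ p (k + 1) N x = mapLin A ((AdicMod.comp k).hom.app N) (p + 1) (eStep k _ (p + 1) (psiJ p k N x)) := rfl

theorem psiJ_map : ∀ (k : ℕ) {N N' : (S.X 0).Modules} (φ : N ⟶ N') (x : Coh.HH (S.X 0) N (p + 1)),
    psiJ p k N' (mapLin A φ (p + 1) x) =
      mapLin A ((Scheme.Modules.pushforward (S.j k)).map φ) (p + 1) (psiJ p k N x)
  | 0, N, N', φ, x => eLin_map (S.j 0) (S.j_over 0) φ (p + 1) x
  | k + 1, N, N', φ, x => by
    refine (psiJ_succ p k N' _).trans ?_
    refine (congrArg (fun y => mapLin A ((AdicMod.comp k).hom.app N') (p + 1) (eStep k _ (p + 1) y))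
      (psiJ_map k φ x)).trans ?_
    refine (congrArg (mapLin A ((AdicMod.comp k).hom.app N') (p + 1))
      (eLin_map (S.i k) (S.i_over k) _ (p + 1) _)).trans ?_
    refine (FFun.mapLin_comp _ _ _ _).trans ?_
    refine (FFun.mapLin_congr ((AdicMod.comp k).hom.naturality φ) _ _).trans ?_
    refine (FFun.mapLin_comp _ _ _ _).symm.trans ?_
    exact congrArg _ (psiJ_succ p k N x).symm

/-- The defining sequence of a level. -/
theorem ses (k : ℕ) : (ShortComplex.mk (kernel.ι (M.π k)) (M.π k) (kernel.condition _)).ShortExact :=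
  haveI := M.epi_π k
  { exact := ShortComplex.exact_kernel _, mono_f := inferInstance, epi_g := inferInstance }

/-- The cohomology of a graded piece as that of a kernel. -/
def zK (k : ℕ) : Coh.HH (S.X 0) (M.G (k + 1)) (p + 1) ≃ₗ[A] Coh.HH (S.X (k + 1)) (kernel (M.π k)) (p + 1) :=
  (psiJ p (k + 1) (M.G (k + 1))).trans (mapEquiv (M.θ k).symm (p + 1))

/-- The obstruction to lifting one level up. -/
def deltaZ (k : ℕ) : Coh.HH (S.X k) (M.F k) p →ₗ[A] Coh.HH (S.X 0) (M.G (k + 1)) (p + 1) :=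
  (zK M p k).symm.toLinearMap.comp ((deltaLin A (ses M k) p).comp (eStep k (M.F k) p).toLinearMap)

theorem exists_trH_eq (k : ℕ) (x : Coh.HH (S.X k) (M.F k) p) (h : deltaZ M p k x = 0) :
    ∃ y, trH M p k y = x := by
  obtain ⟨y, hy⟩ := exists_of_deltaLin_eq_zero A (ses M k) p ((zK M p k).symm.map_eq_zero_iff.1 h)
  exact ⟨y, (congrArg (eStep k (M.F k) p).symm hy).trans ((eStep k (M.F k) p).symm_apply_apply x)⟩

theorem deltaZ_upH (k : ℕ) (a : A) (ha : a ∈ J) (x : Coh.HH (S.X k) (M.F k) p) :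
    deltaZ M p (k + 1) (upH M p k a ha x) = mapLin A (M.t (k + 1) a ha) (p + 1) (deltaZ M p k x) := by
  haveI := M.epi_π k
  haveI := M.mono_γ (k + 1)
  have hpush : ((ShortComplex.mk (kernel.ι (M.π k)) (M.π k) (kernel.condition _)).map
      (Scheme.Modules.pushforward (S.i (k + 1)))).ShortExact :=
    { exact := ShortComplex.exact_of_f_is_kernel _
        (KernelFork.mapIsLimit _ (kernelIsKernel (M.π k)) (Scheme.Modules.pushforward (S.i (k + 1))))
      mono_f := inferInstanceAs (Mono ((Scheme.Modules.pushforward (S.i (k + 1))).map (kernel.ι (M.π k))))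
      epi_g := epi_push (S.i (k + 1)) (M.coh (k + 1)).1 (M.isQCoh_push k) (M.π k) }
  have hsq : (Scheme.Modules.pushforward (S.i (k + 1))).map (M.π k) ≫
      (Scheme.Modules.pushforward (S.i (k + 1))).map (M.up k a ha) = M.up (k + 1) a ha ≫ M.π (k + 1) := by
    rw [M.up_π, ← Functor.map_comp, M.π_up, AmpleVan.push_map_smulMod (S.i (k + 1)) (S.i_over (k + 1))]
  let mk : (Scheme.Modules.pushforward (S.i (k + 1))).obj (kernel (M.π k)) ⟶ kernel (M.π (k + 1)) :=
    kernel.lift _ ((Scheme.Modules.pushforward (S.i (k + 1))).map (kernel.ι (M.π k)) ≫ M.up (k + 1) a ha) (by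
      rw [Category.assoc, ← hsq, ← Functor.map_comp_assoc, kernel.condition, Functor.map_zero, zero_comp])
  let φ : (ShortComplex.mk (kernel.ι (M.π k)) (M.π k) (kernel.condition _)).map
      (Scheme.Modules.pushforward (S.i (k + 1))) ⟶
      ShortComplex.mk (kernel.ι (M.π (k + 1))) (M.π (k + 1)) (kernel.condition _) :=
    { τ₁ := mk
      τ₂ := M.up (k + 1) a ha
      τ₃ := (Scheme.Modules.pushforward (S.i (k + 1))).map (M.up k a ha)
      comm₁₂ := kernel.lift_ι _ _ _
      comm₂₃ := hsq.symm }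
  have hδ : ∀ y, mapLin A φ.τ₁ (p + 1) (deltaLin A hpush p y) =
      deltaLin A (ses M (k + 1)) p (mapLin A φ.τ₃ p y) := fun y =>
    QCoh.Ab.connecting_naturality (X := (S.X (k + 1 + 1)).toPresheafedSpace.carrier)
      (QCoh.toAb_shortExact hpush) (QCoh.toAb_shortExact (ses M (k + 1)))
      ((QCoh.toAbFunctor _).mapShortComplex.map φ) p y
  have hk : (Scheme.Modules.pushforward (S.i (k + 1))).map (M.θ k).inv ≫ mk =
      (AdicMod.comp (k + 1)).hom.app (M.G (k + 1)) ≫
        (Scheme.Modules.pushforward (S.j (k + 1 + 1))).map (M.t (k + 1) a ha) ≫ (M.θ (k + 1)).inv := by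
    rw [← cancel_mono (kernel.ι (M.π (k + 1)))]
    simp only [Category.assoc, mk, kernel.lift_ι]
    show _ = _ ≫ _ ≫ M.γ (k + 1 + 1)
    rw [M.push_t, Iso.hom_inv_id_app_assoc]
    show _ = (Scheme.Modules.pushforward (S.i (k + 1))).map ((M.θ k).inv ≫ kernel.ι (M.π k)) ≫ _
    rw [Functor.map_comp, Category.assoc]
  let z := deltaZ M p k x
  have hz : deltaLin A (ses M k) p (eStep k (M.F k) p x) =
      mapLin A (M.θ k).inv (p + 1) (psiJ p (k + 1) (M.G (k + 1)) z) :=
    ((zK M p k).apply_symm_apply _).symm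
  have key : deltaLin A (ses M (k + 1)) p (eStep (k + 1) (M.F (k + 1)) p (upH M p k a ha x)) =
      zK M p (k + 1) (mapLin A (M.t (k + 1) a ha) (p + 1) z) := by
    refine (congrArg (deltaLin A (ses M (k + 1)) p)
      (eLin_map (S.i (k + 1)) (S.i_over (k + 1)) (M.up k a ha) p (eStep k (M.F k) p x))).trans ?_
    refine (hδ _).symm.trans ?_
    refine (congrArg (mapLin A φ.τ₁ (p + 1)) ((eLin_delta (S.i (k + 1)) (S.i_over (k + 1)) (ses M k) hpush p
      (eStep k (M.F k) p x)).symm.trans (congrArg (eStep (k + 1) _ (p + 1)) hz))).trans ?_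
    refine (congrArg (mapLin A mk (p + 1)) (eLin_map (S.i (k + 1)) (S.i_over (k + 1)) (M.θ k).inv (p + 1) _)).trans ?_
    show _ = mapLin A (M.θ (k + 1)).inv (p + 1)
      (psiJ p (k + 1 + 1) (M.G (k + 1 + 1)) (mapLin A (M.t (k + 1) a ha) (p + 1) z))
    rw [psiJ_map, psiJ_succ p (k + 1), FFun.mapLin_comp, FFun.mapLin_comp, FFun.mapLin_comp]
    exact FFun.mapLin_congr (hk.trans (Category.assoc _ _ _).symm) _ _
  exact (congrArg (zK M p (k + 1)).symm key).trans ((zK M p (k + 1)).symm_apply_apply _)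

/-- Composite transitions in cohomology. -/
abbrev trsH (d j : ℕ) : Coh.HH (S.X (j + d)) (M.F (j + d)) p →ₗ[A] Coh.HH (S.X j) (M.F j) p :=
  MLCore.trs (W := fun k => Coh.HH (S.X k) (M.F k) p) (trH M p) d j

/-- The images in a fixed level are stationary. -/
theorem exists_range_trsH_eq [IsNoetherianRing A] (hp : IsProper (S.p 0)) (j : ℕ) :
    ∃ r₀, ∀ d, r₀ ≤ d → LinearMap.range (trsH M p d j) = LinearMap.range (trsH M p r₀ j) := by
  classical
  obtain ⟨r, a, hspan⟩ := Submodule.fg_iff_exists_fin_generating_family.1 (IsNoetherian.noetherian J)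
  have haJ : ∀ i, a i ∈ J := fun i => hspan ▸ Submodule.subset_span ⟨i, rfl⟩
  haveI := S.isProper_str₀ hp
  haveI := S.isLocallyNoetherian hp 0
  haveI := S.compactSpace hp 0
  haveI : IsNoetherian (S.X 0) := { __ := ‹IsLocallyNoetherian (S.X 0)›, __ := ‹CompactSpace (S.X 0)› }
  have hfin := fun (N : (S.X 0).Modules) (hN : Coh.IsCoh N) (q : ℕ) => Groth.Agent.S0002.result A (S.X 0) N hN q
  obtain ⟨e, he⟩ := FFun.Gen.exists_genHH hfin (p + 1) (M.sys a haJ) M.isCoh_G 0 (M.genFrom_sys a haJ hspan)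
  let B : ∀ n, Submodule A (Coh.HH (S.X 0) (M.G n) (p + 1))
    | 0 => ⊥
    | n + 1 => LinearMap.range (deltaZ M p n)
  obtain ⟨c, hc⟩ := FFun.Gen.exists_gen_HH_sub (M.sys a haJ) (fun n => hfin _ (M.isCoh_G n) (p + 1)) he B (by
    rintro (_ | n) i x hx
    · rw [(Submodule.mem_bot A).1 hx, map_zero]
      exact zero_mem _
    · obtain ⟨y, rfl⟩ := hx
      exact ⟨upH M p n (a i) (haJ i) y, deltaZ_upH M p n (a i) (haJ i) y⟩)
  refine MLCore.exists_range_eq (W := fun k => Coh.HH (S.X k) (M.F k) p)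
    (Z := fun k => Coh.HH (S.X 0) (M.G (k + 1)) (p + 1)) a haJ (trH M p)
    (fun k i => upH M p k (a i) (haJ i)) (deltaZ M p) (fun k i => mapLin A (M.t (k + 1) (a i) (haJ i)) (p + 1))
    (fun k i => trH_upH M p k (a i) (haJ i)) (fun k i => deltaZ_upH M p k (a i) (haJ i))
    (exists_trH_eq M p) c (fun k hk => hc (k + 1) (by omega)) (fun k b hb x => ?_) j
  refine (FFun.mapLin_smulMod (A := A) _ b p x).symm.trans ?_
  rw [S.smulMod_eq_zero k (M.F k) hb, mapLin_zero']

end Groth.Agent.FModLib
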