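import Groth.Agent.FModLib.Gen
import Mathlib.RingTheory.Filtration

/-!
# Linear systems over the rings of basic opens of a formal scheme
-/

set_option backward.isDefEq.respectTransparency false
set_option backward.isDefEq.respectTransparency.types false
set_option linter.style.haveILetI false

universe u

open CategoryTheory CategoryTheory.Limits AlgebraicGeometry TopologicalSpace Opposite

noncomputable section

namespace Groth.Agent.FModLib

section scheme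

variable {X : Scheme.{u}} {U V : X.Opens} {ι : Type*} [Fintype ι]

theorem exists_pow_mul_eq_res (hU : IsAffineOpen U) (f : Γ(X, U)) (hV : V = X.basicOpen f) (hle : V ≤ U)
    (c : ι → Γ(X, V)) :
    ∃ (N : ℕ) (a : ι → Γ(X, U)), ∀ i,
      X.presheaf.map (homOfLE hle).op f ^ N * c i = X.presheaf.map (homOfLE hle).op (a i) := by
  subst hV
  have hloc := hU.isLocalization_basicOpen f
  have hex : ∀ i, ∃ (N : ℕ) (a : Γ(X, U)),
      X.presheaf.map (homOfLE hle).op f ^ N * c i = X.presheaf.map (homOfLE hle).op a := by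
    intro i
    obtain ⟨⟨a, _, N, rfl⟩, ha⟩ := IsLocalization.surj (Submonoid.powers f) (c i)
    refine ⟨N, a, Eq.trans ?_ ha⟩
    rw [mul_comm]
    exact congrArg (c i * ·) (map_pow (X.presheaf.map (homOfLE hle).op).hom f N).symm
  choose N a ha using hex
  refine ⟨∑ i, N i, fun i => f ^ ((∑ i, N i) - N i) * a i, fun i => ?_⟩
  have hi : N i ≤ ∑ i, N i := Finset.single_le_sum (fun j _ => Nat.zero_le (N j)) (Finset.mem_univ i)
  rw [map_mul, map_pow, ← ha i, ← mul_assoc, ← pow_add, Nat.sub_add_cancel hi]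

theorem exists_pow_mul_eq_zero (hU : IsAffineOpen U) (f : Γ(X, U)) (hV : V = X.basicOpen f) (hle : V ≤ U)
    (a : ι → Γ(X, U)) (ha : ∀ i, X.presheaf.map (homOfLE hle).op (a i) = 0) :
    ∃ N : ℕ, ∀ i, f ^ N * a i = 0 := by
  subst hV
  have hloc := hU.isLocalization_basicOpen f
  have hex : ∀ i, ∃ N : ℕ, f ^ N * a i = 0 := by
    intro i
    obtain ⟨⟨_, N, rfl⟩, hN⟩ := (IsLocalization.map_eq_zero_iff (Submonoid.powers f) Γ(X, X.basicOpen f) (a i)).mp (ha i)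
    exact ⟨N, hN⟩
  choose N hN using hex
  refine ⟨∑ i, N i, fun i => ?_⟩
  have hi : N i ≤ ∑ i, N i := Finset.single_le_sum (fun j _ => Nat.zero_le (N j)) (Finset.mem_univ i)
  rw [← Nat.sub_add_cancel hi, pow_add, mul_assoc, hN, mul_zero]

end scheme

variable {𝔛 : FSch.Sys.{u}} (h𝔛 : 𝔛.IsLocNoethFormal) {U : (𝔛.X 0).Opens} (hU : IsAffineOpen U)
  (r : Rng h𝔛 U)

/-- Restriction to a basic open, coordinatewise. -/
def bres {ι : Type*} (a : ι → Rng h𝔛 U) : ι → Rng h𝔛 (basic h𝔛.1 U r) := fun i =>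
  rres h𝔛 (basic_le h𝔛.1 U r) (a i)

theorem lvU_basic_le (k : ℕ) : 𝔛.lvU h𝔛.1 k (basic h𝔛.1 U r) ≤ 𝔛.lvU h𝔛.1 k U :=
  fun _ hx => basic_le h𝔛.1 U r hx

include hU

theorem isUnit_rres : IsUnit (rres h𝔛 (basic_le h𝔛.1 U r) r) := by
  have hV := isAffineOpen_basic h𝔛.1 hU r
  obtain ⟨-, hC, -⟩ := affRing h𝔛 hV
  set x := rres h𝔛 (basic_le h𝔛.1 U r) r with hx
  have h0 : IsUnit (rproj h𝔛.1 0 (basic h𝔛.1 U r) x) := by
    have key : ∀ (V : (𝔛.X 0).Opens) (hle : V ≤ 𝔛.lvU h𝔛.1 0 U), V = (𝔛.X 0).basicOpen (rproj h𝔛.1 0 U r) →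
        IsUnit ((𝔛.X 0).presheaf.map (homOfLE hle).op (rproj h𝔛.1 0 U r)) := by
      rintro _ hle rfl
      exact RingedSpace.isUnit_res_basicOpen (𝔛.X 0).toLocallyRingedSpace.toRingedSpace _
    rw [hx, rproj_rres]
    exact key _ _ (lvU_basic h𝔛.1 0 U r)
  obtain ⟨w, hw⟩ := h0.exists_right_inv
  obtain ⟨v, rfl⟩ := surjective_rproj h𝔛.1 0 hV w
  have hm : x * v - 1 ∈ RingHom.ker (rproj h𝔛.1 0 (basic h𝔛.1 U r)) := by
    rw [RingHom.mem_ker, map_sub, map_mul, hw, map_one, sub_self]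
  have := Ideal.mem_jacobson_bot.mp ((IsAdicComplete.le_jacobson_bot _) hm) 1
  rw [mul_one, sub_add_cancel] at this
  exact isUnit_of_mul_isUnit_left this

/-- Membership in a restricted submodule can be checked on the levels, up to powers. -/
theorem mem_span_of_levels {ι : Type*} [Fintype ι] (S : Submodule (Rng h𝔛 U) (ι → Rng h𝔛 U))
    (c : ι → Rng h𝔛 (basic h𝔛.1 U r))
    (H : ∀ k, ∃ (N : ℕ) (a : ι → Rng h𝔛 U), a ∈ S ∧ ∀ i,
      rproj h𝔛.1 k (basic h𝔛.1 U r) (rres h𝔛 (basic_le h𝔛.1 U r) r ^ N * c i) =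
        rproj h𝔛.1 k (basic h𝔛.1 U r) (bres h𝔛 r a i)) :
    c ∈ Submodule.span (Rng h𝔛 (basic h𝔛.1 U r)) (bres h𝔛 r '' (S : Set (ι → Rng h𝔛 U))) := by
  classical
  obtain ⟨hN, hC, hK⟩ := affRing h𝔛 (isAffineOpen_basic h𝔛.1 hU r)
  refine mem_of_forall_mem_sup (RingHom.ker (rproj h𝔛.1 0 (basic h𝔛.1 U r))) _ c fun k => ?_
  obtain ⟨N, a, ha, hak⟩ := H k
  obtain ⟨v, hv⟩ := (isUnit_rres h𝔛 hU r).pow N
  refine Submodule.mem_sup.mpr ⟨(↑v⁻¹ : Rng h𝔛 (basic h𝔛.1 U r)) • bres h𝔛 r a,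
    Submodule.smul_mem _ _ (Submodule.subset_span ⟨a, ha, rfl⟩), c - (↑v⁻¹ : Rng h𝔛 (basic h𝔛.1 U r)) • bres h𝔛 r a,
    ?_, add_sub_cancel _ _⟩
  rw [pi_eq_sum_univ' (c - _)]
  refine Submodule.sum_mem _ fun i _ => Submodule.smul_mem_smul ?_ Submodule.mem_top
  rw [← hK k, RingHom.mem_ker, Pi.sub_apply, Pi.smul_apply, smul_eq_mul, map_sub, map_mul, ← hak, ← map_mul,
    ← hv, Units.inv_mul_cancel_left, sub_self]

/-- Numerators on a level. -/
theorem exists_level_num {ι : Type*} [Fintype ι] (k : ℕ) (c : ι → Rng h𝔛 (basic h𝔛.1 U r)) :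
    ∃ (N : ℕ) (a : ι → Rng h𝔛 U), ∀ i,
      rproj h𝔛.1 k (basic h𝔛.1 U r) (rres h𝔛 (basic_le h𝔛.1 U r) r ^ N * c i) =
        rproj h𝔛.1 k (basic h𝔛.1 U r) (bres h𝔛 r a i) := by
  obtain ⟨N, a, ha⟩ := exists_pow_mul_eq_res (isAffineOpen_lvU h𝔛.1 k hU) (rproj h𝔛.1 k U r)
    (lvU_basic h𝔛.1 k U r) (lvU_basic_le h𝔛 r k) (fun i => rproj h𝔛.1 k (basic h𝔛.1 U r) (c i))
  choose a' ha' using fun i => surjective_rproj h𝔛.1 k hU (a i)
  refine ⟨N, a', fun i => ?_⟩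
  rw [map_mul, map_pow, rproj_rres, bres, rproj_rres, ha']
  exact ha i

/-- Vanishing on a level of a basic open. -/
theorem exists_pow_mem_ker {ι : Type*} [Fintype ι] (k : ℕ) (a : ι → Rng h𝔛 U)
    (ha : ∀ i, rproj h𝔛.1 k (basic h𝔛.1 U r) (bres h𝔛 r a i) = 0) :
    ∃ N : ℕ, ∀ i, r ^ N * a i ∈ RingHom.ker (rproj h𝔛.1 k U) := by
  obtain ⟨N, hN⟩ := exists_pow_mul_eq_zero (isAffineOpen_lvU h𝔛.1 k hU) (rproj h𝔛.1 k U r)
    (lvU_basic h𝔛.1 k U r) (lvU_basic_le h𝔛 r k) (fun i => rproj h𝔛.1 k U (a i))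
    (fun i => (rproj_rres h𝔛 k (basic_le h𝔛.1 U r) (a i)).symm.trans (ha i))
  exact ⟨N, fun i => by rw [RingHom.mem_ker, map_mul, map_pow]; exact hN i⟩

theorem bres_pow_mul {ι : Type*} (N : ℕ) (a : ι → Rng h𝔛 U) (i : ι) :
    bres h𝔛 r (fun i => r ^ N * a i) i = rres h𝔛 (basic_le h𝔛.1 U r) r ^ N * bres h𝔛 r a i := by
  simp only [bres, map_mul, map_pow]

/-- Solutions of a linear system on a basic open come from solutions upstairs. -/
theorem solutions_basic {ι κ : Type*} [Fintype ι] [Fintype κ] (M : κ → ι → Rng h𝔛 U)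
    (c : ι → Rng h𝔛 (basic h𝔛.1 U r))
    (hc : ∀ j, ∑ i, bres h𝔛 r (M j) i * c i = 0) :
    c ∈ Submodule.span (Rng h𝔛 (basic h𝔛.1 U r))
      (bres h𝔛 r '' {a : ι → Rng h𝔛 U | ∀ j, ∑ i, M j i * a i = 0}) := by
  classical
  obtain ⟨hN, hC, hK⟩ := affRing h𝔛 hU
  let I := RingHom.ker (rproj h𝔛.1 0 U)
  let L : (ι → Rng h𝔛 U) →ₗ[Rng h𝔛 U] (κ → Rng h𝔛 U) := Fintype.linearCombination (Rng h𝔛 U) (fun i j => M j i)
  have hL : ∀ a j, L a j = ∑ i, M j i * a i := fun a j => by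
    simp only [L, Fintype.linearCombination_apply, Finset.sum_apply, Pi.smul_apply, smul_eq_mul, mul_comm]
  have hS : ({a : ι → Rng h𝔛 U | ∀ j, ∑ i, M j i * a i = 0} : Set (ι → Rng h𝔛 U)) = (LinearMap.ker L : Set _) := by
    ext a
    simp only [Set.mem_setOf_eq, SetLike.mem_coe, LinearMap.mem_ker, funext_iff, hL, Pi.zero_apply]
  rw [hS]
  obtain ⟨n₀, hn₀⟩ := I.exists_pow_inf_eq_pow_smul (LinearMap.range L)
  refine mem_span_of_levels h𝔛 hU r _ c fun k => ?_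
  let j := k + n₀
  obtain ⟨N, a, ha⟩ := exists_level_num h𝔛 hU r j c
  obtain ⟨N', hN'⟩ := exists_pow_mem_ker h𝔛 hU r j (fun l => L a l) fun l => by
    simp only [bres, hL, map_sum, map_mul]
    refine Eq.trans ?_ ((congrArg (fun z => rproj h𝔛.1 j (basic h𝔛.1 U r)
      (rres h𝔛 (basic_le h𝔛.1 U r) r ^ N * z)) (hc l)).trans (by rw [mul_zero, map_zero]))
    rw [Finset.mul_sum, map_sum]
    refine Finset.sum_congr rfl fun i _ => ?_
    rw [mul_left_comm (rres h𝔛 _ r ^ N) _ (c i), map_mul, ha]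
    simp only [bres]
  have hmem : L (fun i => r ^ N' * a i) ∈ I ^ (j + 1) • (⊤ : Submodule (Rng h𝔛 U) (κ → Rng h𝔛 U)) ⊓ LinearMap.range L := by
    refine ⟨?_, LinearMap.mem_range_self _ _⟩
    rw [show (fun i => r ^ N' * a i) = r ^ N' • a from rfl, map_smul, pi_eq_sum_univ' (r ^ N' • L a)]
    refine Submodule.sum_mem _ fun l _ => Submodule.smul_mem_smul ?_ Submodule.mem_top
    rw [← hK j]
    exact hN' l
  rw [hn₀ (j + 1) (by omega)] at hmem
  have hk1 : j + 1 - n₀ = k + 1 := by omega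
  rw [hk1] at hmem
  have hle : I ^ (k + 1) • (I ^ n₀ • (⊤ : Submodule (Rng h𝔛 U) (κ → Rng h𝔛 U)) ⊓ LinearMap.range L) ≤
      Submodule.map L (I ^ (k + 1) • ⊤) := by
    rw [Submodule.map_smul'', Submodule.map_top]
    exact Submodule.smul_mono le_rfl inf_le_right
  obtain ⟨e, he, hee⟩ := hle hmem
  refine ⟨N' + N, (fun i => r ^ N' * a i) - e, ?_, fun i => ?_⟩
  · rw [LinearMap.mem_ker, map_sub, hee, sub_self]
  · have hei : rproj h𝔛.1 k (basic h𝔛.1 U r) (bres h𝔛 r e i) = 0 := by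
      have : e i ∈ I ^ (k + 1) := by
        refine Submodule.smul_induction_on (p := fun z => z i ∈ I ^ (k + 1)) he
          (fun x hx b _ => Ideal.mul_mem_right _ _ hx) (fun x y hx hy => add_mem hx hy)
      rw [← hK k, RingHom.mem_ker] at this
      rw [bres, rproj_rres, this, map_zero]
    have hjk : rproj h𝔛.1 k (basic h𝔛.1 U r) (rres h𝔛 (basic_le h𝔛.1 U r) r ^ N * c i - bres h𝔛 r a i) = 0 := by
      obtain ⟨-, -, hKV⟩ := affRing h𝔛 (isAffineOpen_basic h𝔛.1 hU r)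
      rw [← RingHom.mem_ker, hKV k]
      refine Ideal.pow_le_pow_right (by omega : k + 1 ≤ j + 1) ?_
      rw [← hKV j, RingHom.mem_ker, map_sub, ha, sub_self]
    rw [map_sub, sub_eq_zero] at hjk
    rw [show bres h𝔛 r ((fun i => r ^ N' * a i) - e) i = bres h𝔛 r (fun i => r ^ N' * a i) i - bres h𝔛 r e i from
      map_sub (rres h𝔛 (basic_le h𝔛.1 U r)) _ _, map_sub, hei, sub_zero, bres_pow_mul h𝔛 hU, map_mul _ _ (bres h𝔛 r a i),
      ← hjk, ← map_mul, ← mul_assoc, ← pow_add]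

/-- The kernel of a level projection on a basic open comes from upstairs. -/
theorem ker_rproj_basic (k : ℕ) (c : Rng h𝔛 (basic h𝔛.1 U r))
    (hc : rproj h𝔛.1 k (basic h𝔛.1 U r) c = 0) :
    c ∈ Ideal.span (rres h𝔛 (basic_le h𝔛.1 U r) '' (RingHom.ker (rproj h𝔛.1 k U) : Set (Rng h𝔛 U))) := by
  obtain ⟨-, -, hKV⟩ := affRing h𝔛 (isAffineOpen_basic h𝔛.1 hU r)
  have key := mem_span_of_levels h𝔛 hU r (Submodule.pi Set.univ fun _ : Unit => RingHom.ker (rproj h𝔛.1 k U))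
    (fun _ => c) fun l => by
    obtain ⟨N, a, ha⟩ := exists_level_num h𝔛 hU r (l + k) (fun _ : Unit => c)
    have hlow : ∀ l' ≤ l + k, ∀ i, rproj h𝔛.1 l' (basic h𝔛.1 U r) (rres h𝔛 (basic_le h𝔛.1 U r) r ^ N * c) =
        rproj h𝔛.1 l' (basic h𝔛.1 U r) (bres h𝔛 r a i) := fun l' hl' i => by
      rw [← sub_eq_zero, ← map_sub, ← RingHom.mem_ker, hKV l']
      refine Ideal.pow_le_pow_right (by omega : l' + 1 ≤ l + k + 1) ?_
      rw [← hKV (l + k), RingHom.mem_ker, map_sub, sub_eq_zero]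
      exact ha i
    obtain ⟨N', hN'⟩ := exists_pow_mem_ker h𝔛 hU r k a fun i => by
      rw [← hlow k (by omega) i, map_mul, hc, mul_zero]
    refine ⟨N' + N, fun i => r ^ N' * a i, fun i _ => hN' i, fun i => ?_⟩
    rw [bres_pow_mul h𝔛 hU, pow_add, mul_assoc, map_mul, hlow l (by omega) i, ← map_mul]
  have h2 := Submodule.apply_mem_span_image_of_mem_span
    (LinearMap.proj (R := Rng h𝔛 (basic h𝔛.1 U r)) (φ := fun _ : Unit => Rng h𝔛 (basic h𝔛.1 U r)) ()) key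
  refine Submodule.span_mono ?_ h2
  rintro _ ⟨_, ⟨a, ha, rfl⟩, rfl⟩
  exact ⟨a (), ha () trivial, rfl⟩

end Groth.Agent.FModLib
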