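import Groth.Agent.FModLib.LevelSys
import Groth.Agent.FModLib.Linear

/-!
# Coherent modules on a locally Noetherian formal scheme: kernels, cokernels, extensions
-/

set_option backward.isDefEq.respectTransparency false
set_option backward.isDefEq.respectTransparency.types false
set_option linter.style.haveILetI false

universe u

open CategoryTheory CategoryTheory.Limits AlgebraicGeometry TopologicalSpace Opposite

noncomputable section

namespace Groth.Agent.FModLib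

section general

variable {X : TopCat.{u}} {O : TopCat.Sheaf CommRingCat.{u} X} {F G : ModSite.Mod O}

/-- A module with presentations near every point is of finite presentation. -/
theorem isFinitePresentation_of_isPres
    (h : ∀ x : X, ∃ (U : Opens X) (n m : ℕ) (t : ULift.{u} (Fin n) → ModSite.sect F U)
      (g : ULift.{u} (Fin m) → ULift.{u} (Fin n) → O.obj.obj (op U)), x ∈ U ∧ IsPres F U t g) :
    SheafOfModules.IsFinitePresentation.{u} (R := ModSite.ringSh O) F := by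
  choose U n m t g hxU hP using h
  choose P hPf using fun x => (hP x).exists_presentation
  have hcov : (Opens.grothendieckTopology X).CoversTop U :=
    (_root_.Opens.coversTop_iff _ U).mpr (eq_top_iff.mpr fun x _ => Opens.mem_iSup.mpr ⟨x, hxU x⟩)
  let σ := SheafOfModules.QuasicoherentData.mk (M := F) (↥X) U hcov P
  have hσ : σ.IsFinitePresentation := by constructor; exact hPf
  constructor
  exact ⟨σ, hσ⟩

theorem sect_injective_of_mono (f : F ⟶ G) [Mono f] (U : Opens X) :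
    Function.Injective (f.val.app (op U)) := by
  haveI : Mono ((SheafOfModules.evaluation (ModSite.ringSh O) (op U)).map f) := inferInstance
  exact (ModuleCat.mono_iff_injective _).mp this

theorem mres_zero {U V : Opens X} (e : V ≤ U) : mres F e (0 : ModSite.sect F U) = 0 :=
  map_zero (F.val.map (homOfLE e).op).hom

theorem mres_sub {U V : Opens X} (e : V ≤ U) (x y : ModSite.sect F U) :
    mres F e (x - y) = mres F e x - mres F e y :=
  map_sub (F.val.map (homOfLE e).op).hom x y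

theorem IsPres.of_iso {U : Opens X} {n m : ℕ} {t : ULift.{u} (Fin n) → ModSite.sect F U}
    {g : ULift.{u} (Fin m) → ULift.{u} (Fin n) → O.obj.obj (op U)} (hP : IsPres F U t g) (α : F ≅ G) :
    IsPres G U (fun i => α.hom.val.app (op U) (t i)) g := by
  have hinv : ∀ (V : Opens X) (s : ModSite.sect G V), α.hom.val.app (op V) (α.inv.val.app (op V) s) = s :=
    fun V s => congrArg (fun f : G ⟶ G => f.val.app (op V) s) α.inv_hom_id
  refine ⟨fun j => ?_, fun W hW s x hx => ?_, fun W hW c hc x hx => ?_⟩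
  · rw [← mapp_sum_smul, hP.rel0 j]
    exact map_zero (α.hom.val.app (op U)).hom
  · obtain ⟨V, e, hxV, c, hc⟩ := hP.gen W hW (α.inv.val.app (op W) s) x hx
    refine ⟨V, e, hxV, c, ?_⟩
    simp only [← mapp_res]
    rw [← mapp_sum_smul, hc]
    exact (mapp_res F α.hom e _).trans (congrArg (mres G e) (hinv W s))
  · refine hP.rel W hW c (sect_injective_of_mono α.hom W ?_) x hx
    rw [mapp_sum_smul]
    simp only [mapp_res]
    exact hc.trans (map_zero (α.hom.val.app (op W)).hom).symm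

end general

variable {𝔛 : FSch.Sys.{u}} (h𝔛 : 𝔛.IsLocNoethFormal)

/-- Sections of a module on the formal scheme. -/
abbrev FSect (𝔊 : FSch.ModF 𝔛 h𝔛.1) (U : (𝔛.X 0).Opens) : Type u := ModSite.sect (O := 𝔛.Osh h𝔛.1) 𝔊 U

theorem exists_affine_le {x : 𝔛.X 0} {W : (𝔛.X 0).Opens} (hx : x ∈ W) :
    ∃ V : (𝔛.X 0).Opens, IsAffineOpen V ∧ x ∈ V ∧ V ≤ W := by
  obtain ⟨_, ⟨V, hV, rfl⟩, hxV, hVW⟩ := (𝔛.X 0).isBasis_affineOpens.exists_subset_of_mem_open hx W.2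
  exact ⟨V, hV, hxV, SetLike.coe_subset_coe.mp hVW⟩

/-- Presentations are checked on basic opens. -/
theorem isPres_of_basic {U : (𝔛.X 0).Opens} (hU : IsAffineOpen U) (𝔊 : FSch.ModF 𝔛 h𝔛.1) {n m : ℕ}
    (t : ULift.{u} (Fin n) → FSect h𝔛 𝔊 U) (g : ULift.{u} (Fin m) → ULift.{u} (Fin n) → Rng h𝔛 U)
    (h0 : ∀ j, ∑ i, g j i • t i = 0)
    (hgen : ∀ (W : (𝔛.X 0).Opens) (_ : W ≤ U) (s : FSect h𝔛 𝔊 W), ∀ x ∈ W,
      ∃ (V : (𝔛.X 0).Opens) (e : V ≤ U) (e' : V ≤ W), x ∈ V ∧ ∃ c : ULift.{u} (Fin n) → Rng h𝔛 V,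
        ∑ i, c i • mres 𝔊 e (t i) = mres 𝔊 e' s)
    (hrel : ∀ (r : Rng h𝔛 U) (c : ULift.{u} (Fin n) → Rng h𝔛 (basic h𝔛.1 U r)),
      ∑ i, c i • mres 𝔊 (basic_le h𝔛.1 U r) (t i) = 0 →
        ∃ d : ULift.{u} (Fin m) → Rng h𝔛 (basic h𝔛.1 U r),
          ∀ i, ∑ j, d j * rres h𝔛 (basic_le h𝔛.1 U r) (g j i) = c i) :
    IsPres (O := 𝔛.Osh h𝔛.1) 𝔊 U t g where
  rel0 := h0
  gen W hW s x hx := by
    obtain ⟨V, e, e', hxV, c, hc⟩ := hgen W hW s x hx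
    exact ⟨V, e', hxV, c, hc⟩
  rel W hW c hc x hx := by
    obtain ⟨r, hxr, hr⟩ := exists_basic h𝔛.1 hU (W := W) x (hW hx) hx
    have h1 := congrArg (mres 𝔊 hr) hc
    rw [mres_sum_smul, mres_zero] at h1
    simp only [mres_mres] at h1
    obtain ⟨d, hd⟩ := hrel r _ h1
    exact ⟨_, hr, hxr, d, hd⟩

variable {𝔊 : FSch.ModF 𝔛 h𝔛.1}

/-- Coherent modules have presentations over every affine open. -/
theorem affPres (h𝔊 : FSch.IsCohF 𝔛 h𝔛.1 𝔊) {U : (𝔛.X 0).Opens} (hU : IsAffineOpen U) :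
    ∃ (n m : ℕ) (t : ULift.{u} (Fin n) → FSect h𝔛 𝔊 U) (g : ULift.{u} (Fin m) → ULift.{u} (Fin n) → Rng h𝔛 U),
      IsPres (O := 𝔛.Osh h𝔛.1) 𝔊 U t g := by
  haveI := isIso_toReal h𝔛 𝔊 h𝔊
  let 𝔐 := levSys h𝔛.1 𝔊
  obtain ⟨n, m, t, g, hrel0, -, hgen, hrel⟩ := affGen h𝔛 𝔐 (isCoh_levSys h𝔛 𝔊 h𝔊) hU
  refine ⟨n, m, _, g, IsPres.of_iso (isPres_of_basic h𝔛 hU (𝔐.realMod h𝔛.1) t g hrel0 (fun W hW s x hx => ?_) hrel)
    (asIso (toReal h𝔛.1 𝔊)).symm⟩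
  obtain ⟨r, hxr, hr⟩ := exists_basic h𝔛.1 hU (W := W) x (hW hx) hx
  obtain ⟨c, hc⟩ := hgen r (sres h𝔛 𝔐 hr s)
  exact ⟨_, basic_le h𝔛.1 U r, hr, hxr, c, hc⟩

/-- A presentation over an affine open generates the sections there. -/
theorem IsPres.gen_aff (h𝔊 : FSch.IsCohF 𝔛 h𝔛.1 𝔊) {V : (𝔛.X 0).Opens} (hV : IsAffineOpen V) {n m : ℕ}
    {t : ULift.{u} (Fin n) → FSect h𝔛 𝔊 V} {g : ULift.{u} (Fin m) → ULift.{u} (Fin n) → Rng h𝔛 V}
    (hP : IsPres (O := 𝔛.Osh h𝔛.1) 𝔊 V t g) (s : FSect h𝔛 𝔊 V) :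
    ∃ c : ULift.{u} (Fin n) → Rng h𝔛 V, ∑ i, c i • t i = s := by
  haveI := isIso_toReal h𝔛 𝔊 h𝔊
  obtain ⟨c, hc⟩ := (toReal_affine h𝔛 𝔊 h𝔊 hV hP).1 ((toReal h𝔛.1 𝔊).val.app (op V) s)
  refine ⟨c, sect_injective_of_mono (O := 𝔛.Osh h𝔛.1) (toReal h𝔛.1 𝔊) V ?_⟩
  exact (mapp_sum_smul 𝔊 (toReal h𝔛.1 𝔊) c t).trans hc

/-- A presentation over an affine open gives the relations there. -/
theorem IsPres.rel_aff (h𝔊 : FSch.IsCohF 𝔛 h𝔛.1 𝔊) {V : (𝔛.X 0).Opens} (hV : IsAffineOpen V) {n m : ℕ}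
    {t : ULift.{u} (Fin n) → FSect h𝔛 𝔊 V} {g : ULift.{u} (Fin m) → ULift.{u} (Fin n) → Rng h𝔛 V}
    (hP : IsPres (O := 𝔛.Osh h𝔛.1) 𝔊 V t g) (c : ULift.{u} (Fin n) → Rng h𝔛 V) (hc : ∑ i, c i • t i = 0) :
    ∃ d : ULift.{u} (Fin m) → Rng h𝔛 V, ∀ i, ∑ j, d j * g j i = c i :=
  (toReal_affine h𝔛 𝔊 h𝔊 hV hP).2 c ((mapp_sum_smul 𝔊 (toReal h𝔛.1 𝔊) c t).symm.trans
    ((congrArg _ hc).trans (map_zero ((toReal h𝔛.1 𝔊).val.app (op V)).hom)))

/-- Relations of sections of a coherent module on basic opens come from upstairs. -/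
theorem rel_restrict (h𝔊 : FSch.IsCohF 𝔛 h𝔛.1 𝔊) {U : (𝔛.X 0).Opens} (hU : IsAffineOpen U) {p : ℕ}
    (s : ULift.{u} (Fin p) → FSect h𝔛 𝔊 U) :
    ∃ (q : ℕ) (z : ULift.{u} (Fin q) → ULift.{u} (Fin p) → Rng h𝔛 U), (∀ j, ∑ i, z j i • s i = 0) ∧
      ∀ (r : Rng h𝔛 U) (c : ULift.{u} (Fin p) → Rng h𝔛 (basic h𝔛.1 U r)),
        ∑ i, c i • mres 𝔊 (basic_le h𝔛.1 U r) (s i) = 0 →
          ∃ d : ULift.{u} (Fin q) → Rng h𝔛 (basic h𝔛.1 U r),
            ∀ i, ∑ j, d j * rres h𝔛 (basic_le h𝔛.1 U r) (z j i) = c i := by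
  classical
  obtain ⟨hN, -, -⟩ := affRing h𝔛 hU
  obtain ⟨n, m, t, g, hP⟩ := affPres h𝔛 h𝔊 hU
  choose A hA using fun i => hP.gen_aff h𝔛 h𝔊 hU (s i)
  let L : (ULift.{u} (Fin p) → Rng h𝔛 U) →ₗ[Rng h𝔛 U] FSect h𝔛 𝔊 U := Fintype.linearCombination _ s
  have hL : ∀ c, L c = ∑ i, c i • s i := fun c => Fintype.linearCombination_apply _ _ _
  obtain ⟨q, z₀, hz₀⟩ := Submodule.fg_iff_exists_fin_generating_family.mp (IsNoetherian.noetherian (LinearMap.ker L))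
  refine ⟨q, fun j => z₀ j.down, fun j => ?_, fun r c hc => ?_⟩
  · rw [← hL, ← LinearMap.mem_ker, ← hz₀]
    exact Submodule.subset_span ⟨j.down, rfl⟩
  let V := basic h𝔛.1 U r
  let e := basic_le h𝔛.1 U r
  obtain ⟨d, hd⟩ := (hP.mono e).rel_aff h𝔛 h𝔊 (isAffineOpen_basic h𝔛.1 hU r)
    (fun l => ∑ i, c i * rres h𝔛 e (A i l)) (by
      simp only [Finset.sum_smul]
      rw [Finset.sum_comm]
      refine Eq.trans (Finset.sum_congr rfl fun i _ => ?_) hc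
      simp only [mul_smul, ← Finset.smul_sum]
      refine congrArg (c i • ·) ?_
      rw [← hA i, mres_sum_smul]
      rfl)
  let M : ULift.{u} (Fin n) → (ULift.{u} (Fin p) ⊕ ULift.{u} (Fin m)) → Rng h𝔛 U := fun l =>
    Sum.elim (fun i => A i l) (fun j => - g j l)
  have hsol := solutions_basic h𝔛 hU r M (Sum.elim c d) fun l => by
    rw [Fintype.sum_sum_type]
    simp only [bres, M, Sum.elim_inl, Sum.elim_inr, map_neg, neg_mul, Finset.sum_neg_distrib]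
    rw [add_neg_eq_zero]
    simp only [mul_comm (rres h𝔛 _ _)]
    exact (hd l).symm
  let π : ((ULift.{u} (Fin p) ⊕ ULift.{u} (Fin m)) → Rng h𝔛 V) →ₗ[Rng h𝔛 V] (ULift.{u} (Fin p) → Rng h𝔛 V) :=
    LinearMap.funLeft _ _ Sum.inl
  have h2 := Submodule.apply_mem_span_image_of_mem_span π hsol
  have h3 : c ∈ Submodule.span (Rng h𝔛 V) (Set.range fun j : Fin q => bres h𝔛 r (z₀ j)) := by
    refine Submodule.span_le.mpr ?_ h2
    rintro _ ⟨_, ⟨a, ha, rfl⟩, rfl⟩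
    have hker : (fun i => a (Sum.inl i)) ∈ LinearMap.ker L := by
      rw [LinearMap.mem_ker, hL]
      have ha' : ∀ l, ∑ i, a (Sum.inl i) * A i l = ∑ j, a (Sum.inr j) * g j l := fun l => by
        have := ha l
        rw [Fintype.sum_sum_type] at this
        simp only [M, Sum.elim_inl, Sum.elim_inr, neg_mul, Finset.sum_neg_distrib, add_neg_eq_zero] at this
        simpa only [mul_comm (a _)] using this
      calc ∑ i, a (Sum.inl i) • s i = ∑ l, (∑ i, a (Sum.inl i) * A i l) • t l := by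
            simp only [← hA, Finset.smul_sum, Finset.sum_smul, mul_smul]
            exact Finset.sum_comm
        _ = ∑ j, a (Sum.inr j) • ∑ l, g j l • t l := by
            simp only [ha', Finset.smul_sum, Finset.sum_smul, mul_smul]
            exact Finset.sum_comm
        _ = 0 := Finset.sum_eq_zero fun j _ => by rw [hP.rel0, smul_zero]
    rw [← hz₀, Submodule.mem_span_range_iff_exists_fun] at hker
    obtain ⟨b, hb⟩ := hker
    refine (Submodule.mem_span_range_iff_exists_fun _).mpr ⟨fun j => rres h𝔛 e (b j), funext fun i => ?_⟩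
    have hbi := congrArg (rres h𝔛 e) (congrFun hb i)
    simp only [Finset.sum_apply, Pi.smul_apply, smul_eq_mul, map_sum, map_mul] at hbi ⊢
    exact hbi
  obtain ⟨d', hd'⟩ := (Submodule.mem_span_range_iff_exists_fun _).mp h3
  refine ⟨fun j => d' j.down, fun i => ?_⟩
  rw [← hd', Finset.sum_apply]
  exact Fintype.sum_equiv Equiv.ulift _ _ fun j => rfl

/-- A submodule with generators on an affine open is presented there. -/
theorem IsPres.of_mono {𝔎 : FSch.ModF 𝔛 h𝔛.1} (ι : 𝔎 ⟶ 𝔊) [Mono ι] (h𝔊 : FSch.IsCohF 𝔛 h𝔛.1 𝔊)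
    {U : (𝔛.X 0).Opens} (hU : IsAffineOpen U) {p : ℕ} (k : ULift.{u} (Fin p) → FSect h𝔛 𝔎 U)
    (hgen : ∀ (W : (𝔛.X 0).Opens) (_ : W ≤ U) (s : FSect h𝔛 𝔎 W), ∀ x ∈ W,
      ∃ (V : (𝔛.X 0).Opens) (e : V ≤ U) (e' : V ≤ W), x ∈ V ∧ ∃ c : ULift.{u} (Fin p) → Rng h𝔛 V,
        ∑ i, c i • mres 𝔎 e (k i) = mres 𝔎 e' s) :
    ∃ (q : ℕ) (z : ULift.{u} (Fin q) → ULift.{u} (Fin p) → Rng h𝔛 U), IsPres (O := 𝔛.Osh h𝔛.1) 𝔎 U k z := by
  obtain ⟨q, z, hz0, hz⟩ := rel_restrict h𝔛 h𝔊 hU (fun i => (ι.val.app (op U) (k i) : FSect h𝔛 𝔊 U))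
  refine ⟨q, z, isPres_of_basic h𝔛 hU 𝔎 k z (fun j => ?_) hgen fun r c hc => hz r c ?_⟩
  · refine sect_injective_of_mono (O := 𝔛.Osh h𝔛.1) ι U ?_
    exact (mapp_sum_smul 𝔎 ι (z j) k).trans ((hz0 j).trans (map_zero (ι.val.app (op U)).hom).symm)
  · simp only [← mapp_res]
    exact (mapp_sum_smul 𝔎 ι c _).symm.trans ((congrArg _ hc).trans (map_zero (ι.val.app _).hom))

set_option maxHeartbeats 1000000 in
/-- The kernel of a map of coherent modules is coherent. -/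
theorem isCohF_kernel {𝔉 : FSch.ModF 𝔛 h𝔛.1} (θ : 𝔉 ⟶ 𝔊) (h𝔉 : FSch.IsCohF 𝔛 h𝔛.1 𝔉)
    (h𝔊 : FSch.IsCohF 𝔛 h𝔛.1 𝔊) : FSch.IsCohF 𝔛 h𝔛.1 (kernel θ) := by
  refine isFinitePresentation_of_isPres (O := 𝔛.Osh h𝔛.1) fun x => ?_
  obtain ⟨U, hU, hxU, -⟩ := exists_affine_le (𝔛 := 𝔛) (W := ⊤) (x := x) trivial
  obtain ⟨n, m, t, g, hP⟩ := affPres h𝔛 h𝔉 hU
  obtain ⟨q, z, hz0, hz⟩ := rel_restrict h𝔛 h𝔊 hU (fun i => (θ.val.app (op U) (t i) : FSect h𝔛 𝔊 U))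
  choose k hk using fun j => exists_kernel_lift (O := 𝔛.Osh h𝔛.1) θ U (∑ i, z j i • t i)
    ((mapp_sum_smul 𝔉 θ (z j) t).trans (hz0 j))
  obtain ⟨q', z', hP'⟩ := IsPres.of_mono h𝔛 (kernel.ι θ) h𝔉 hU k fun W hW s y hy => by
    obtain ⟨r, hyr, hr⟩ := exists_basic h𝔛.1 hU (W := W) y (hW hy) hy
    let e := basic_le h𝔛.1 U r
    obtain ⟨c, hc⟩ := (hP.mono e).gen_aff h𝔛 h𝔉 (isAffineOpen_basic h𝔛.1 hU r)
      (mres 𝔉 hr ((kernel.ι θ).val.app (op W) s))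
    have hs0 : θ.val.app (op W) ((kernel.ι θ).val.app (op W) s) = 0 :=
      congrArg (fun f : kernel θ ⟶ 𝔊 => f.val.app (op W) s) (kernel.condition θ)
    obtain ⟨d, hd⟩ := hz r c (by
      simp only [← mapp_res]
      refine (mapp_sum_smul 𝔉 θ c _).symm.trans ((congrArg _ hc).trans ?_)
      exact (mapp_res 𝔉 θ hr _).trans ((congrArg (mres 𝔊 hr) hs0).trans (mres_zero hr)))
    refine ⟨_, e, hr, hyr, d, sect_injective_of_mono (O := 𝔛.Osh h𝔛.1) (kernel.ι θ) _ ?_⟩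
    rw [mapp_sum_smul, mapp_res (kernel θ) (kernel.ι θ) hr s]
    simp only [mapp_res, hk, mres_sum_smul]
    refine Eq.trans ?_ hc
    simp only [Finset.smul_sum, ← hd, Finset.sum_smul, mul_smul]
    exact Finset.sum_comm
  exact ⟨U, _, _, k, z', hxU, hP'⟩

end Groth.Agent.FModLib
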