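import Groth.Agent.FModLib.Abel

/-!
# Coherent modules on a locally Noetherian formal scheme: submodules, cokernels, levels
-/

set_option backward.isDefEq.respectTransparency false
set_option backward.isDefEq.respectTransparency.types false
set_option linter.style.haveILetI false

universe u

open CategoryTheory CategoryTheory.Limits AlgebraicGeometry TopologicalSpace Opposite

noncomputable section

namespace Groth.Agent.FModLib

section general

variable {X : TopCat.{u}} {O : TopCat.Sheaf CommRingCat.{u} X} {F G : ModSite.Mod O}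

/-- Finitely many generating sections on a site with terminal object. -/
theorem exists_sections_of_generators {C : Type u} [SmallCategory C] {J : GrothendieckTopology C}
    {O : Sheaf J CommRingCat.{u}} {T : C} (hT : IsTerminal T) {G : ModSite.Mod O}
    (σ : G.GeneratingSections) [Finite σ.I] :
    ∃ (n : ℕ) (t : ULift.{u} (Fin n) → ModSite.sect G T),
      ∀ (W : C) (s : ModSite.sect G W), ∃ S ∈ J W, ∀ ⦃W' : C⦄ (a : W' ⟶ W), S a →
        ∃ c : ULift.{u} (Fin n) → O.obj.obj (op W'),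
          ∑ k, c k • G.val.map (hT.from W').op (t k) = G.val.map a.op s := by
  let R := ModSite.ringSh O
  let eI : ULift.{u} (Fin (Nat.card σ.I)) ≃ σ.I := Equiv.ulift.trans (Finite.equivFin σ.I).symm
  let π : SheafOfModules.free (R := R) (ULift.{u} (Fin (Nat.card σ.I))) ⟶ G :=
    (SheafOfModules.freeFunctor.mapIso eI.toIso).hom ≫ σ.π
  haveI : Epi π := epi_comp _ _
  let t : ULift.{u} (Fin (Nat.card σ.I)) → ModSite.sect G T := fun i =>
    π.val.app (op T) (SiteBase.basicSec O T _ i)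
  have eπ : π = homOf hT t := eq_homOf hT π
  refine ⟨_, t, fun W s => ?_⟩
  obtain ⟨S, hS, h⟩ := SuppCore.exists_cover_lift π s
  refine ⟨S, hS, fun W' a ha => ?_⟩
  obtain ⟨w, hw⟩ := h a ha
  refine ⟨SiteBase.toCoords _ W' w, ?_⟩
  rw [← homOf_sum hT t W' _, ← eπ]
  exact (congrArg (π.val.app (op W')) (SiteBase.eq_sum_basicSec W' w)).symm.trans hw

/-- A module of finite type has finitely many generators near every point. -/
theorem exists_gens (hF : SheafOfModules.IsFiniteType.{u} (R := ModSite.ringSh O) F) (x : X) :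
    ∃ (U : Opens X) (n : ℕ) (t : ULift.{u} (Fin n) → ModSite.sect F U), x ∈ U ∧
      ∀ (W : Opens X) (hW : W ≤ U) (s : ModSite.sect F W), ∀ y ∈ W,
        ∃ (V : Opens X) (e : V ≤ W), y ∈ V ∧ ∃ c : ULift.{u} (Fin n) → O.obj.obj (op V),
          ∑ i, c i • mres F (e.trans hW) (t i) = mres F e s := by
  obtain ⟨σ, hσ⟩ := hF
  have hcov := (_root_.Opens.coversTop_iff _ σ.X).mp σ.coversTop
  obtain ⟨a, hxa⟩ := Opens.mem_iSup.mp (hcov.ge (Opens.mem_top x))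
  haveI : Finite (σ.generators a).I := by
    haveI := hσ.isFiniteType a
    infer_instance
  obtain ⟨n, t, hgen⟩ := exists_sections_of_generators (C := Over (σ.X a)) (O := O.over (σ.X a))
    (T := Over.mk (𝟙 (σ.X a))) (G := (ModSite.restr O (σ.X a)).obj F) Over.mkIdTerminal (σ.generators a)
  refine ⟨σ.X a, n, t, hxa, fun W hW s y hy => ?_⟩
  obtain ⟨S, hS, h⟩ := hgen (Over.mk (homOfLE hW)) s
  rw [GrothendieckTopology.mem_over_iff] at hS
  obtain ⟨V, f, hf, hyV⟩ := hS y hy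
  obtain ⟨c, hc⟩ := h _ ((Sieve.overEquiv_iff _ _).mp hf)
  exact ⟨V, f.le, hyV, c, hc⟩

theorem gens_mono {U U' : Opens X} (e : U' ≤ U) {n : ℕ} {t : ULift.{u} (Fin n) → ModSite.sect F U}
    (ht : ∀ (W : Opens X) (hW : W ≤ U) (s : ModSite.sect F W), ∀ y ∈ W,
      ∃ (V : Opens X) (e : V ≤ W), y ∈ V ∧ ∃ c : ULift.{u} (Fin n) → O.obj.obj (op V),
        ∑ i, c i • mres F (e.trans hW) (t i) = mres F e s) (W : Opens X) (hW : W ≤ U') (s : ModSite.sect F W)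
    (y : X) (hy : y ∈ W) :
    ∃ (V : Opens X) (e'' : V ≤ U') (e' : V ≤ W), y ∈ V ∧ ∃ c : ULift.{u} (Fin n) → O.obj.obj (op V),
      ∑ i, c i • mres F e'' (mres F e (t i)) = mres F e' s := by
  obtain ⟨V, e', hyV, c, hc⟩ := ht W (hW.trans e) s y hy
  exact ⟨V, e'.trans hW, e', hyV, c, by simp only [mres_mres]; exact hc⟩

/-- A cokernel of presented modules is presented. -/
theorem IsPres.coker {A B C : ModSite.Mod O} (θ : A ⟶ B) (π : B ⟶ C) (w : θ ≫ π = 0) [Epi π]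
    (hex : ∀ (W : Opens X) (b : ModSite.sect B W), π.val.app (op W) b = 0 →
      ∀ x ∈ W, ∃ (V : Opens X) (e : V ≤ W), x ∈ V ∧ ∃ a : ModSite.sect A V, θ.val.app (op V) a = mres B e b)
    {U : Opens X} {n m q : ℕ} {t : ULift.{u} (Fin n) → ModSite.sect B U}
    {g : ULift.{u} (Fin m) → ULift.{u} (Fin n) → O.obj.obj (op U)} (hP : IsPres B U t g)
    {k : ULift.{u} (Fin q) → ModSite.sect A U}
    (hk : ∀ (W : Opens X) (hW : W ≤ U) (s : ModSite.sect A W), ∀ y ∈ W,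
      ∃ (V : Opens X) (e : V ≤ W), y ∈ V ∧ ∃ c : ULift.{u} (Fin q) → O.obj.obj (op V),
        ∑ i, c i • mres A (e.trans hW) (k i) = mres A e s)
    (a : ULift.{u} (Fin q) → ULift.{u} (Fin n) → O.obj.obj (op U))
    (ha : ∀ l, ∑ i, a l i • t i = θ.val.app (op U) (k l)) :
    IsPres C U (fun i => π.val.app (op U) (t i)) (fun j : ULift.{u} (Fin (m + q)) =>
      (Fin.addCases (fun j => g ⟨j⟩) (fun l => a ⟨l⟩) j.down : ULift.{u} (Fin n) → O.obj.obj (op U))) := by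
  refine ⟨fun j => ?_, fun W hW s x hx => ?_, fun W hW c hc x hx => ?_⟩
  · obtain ⟨j⟩ := j
    induction j using Fin.addCases with
    | left j =>
      simp only [Fin.addCases_left]
      rw [← mapp_sum_smul, hP.rel0]
      exact map_zero (π.val.app (op U)).hom
    | right l =>
      simp only [Fin.addCases_right]
      rw [← mapp_sum_smul, ha]
      exact congrArg (fun f : A ⟶ C => f.val.app (op U) (k ⟨l⟩)) w
  · obtain ⟨S, hS, h⟩ := SuppCore.exists_cover_lift π s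
    obtain ⟨V₁, f, hf, hxV₁⟩ := hS x hx
    obtain ⟨b, hb⟩ := h f hf
    obtain ⟨V, e, hxV, c, hc⟩ := hP.gen V₁ (f.le.trans hW) b x hxV₁
    refine ⟨V, e.trans f.le, hxV, c, ?_⟩
    simp only [← mapp_res]
    rw [← mapp_sum_smul, hc, mapp_res]
    exact (congrArg (mres C e) hb).trans (mres_mres C f.le e s)
  · simp only [← mapp_res] at hc
    rw [← mapp_sum_smul] at hc
    obtain ⟨V₁, e₁, hxV₁, α, hα⟩ := hex W _ hc x hx
    obtain ⟨V₂, e₂, hxV₂, b, hb⟩ := hk V₁ (e₁.trans hW) α x hxV₁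
    have h1 : ∑ i, (ores O (e₂.trans e₁) (c i) - ∑ l, b l * ores O ((e₂.trans e₁).trans hW) (a l i)) •
        mres B ((e₂.trans e₁).trans hW) (t i) = 0 := by
      simp only [sub_smul, Finset.sum_sub_distrib, Finset.sum_smul, mul_smul]
      rw [sub_eq_zero, Finset.sum_comm]
      simp only [← Finset.smul_sum, ← mres_sum_smul, ha, ← mapp_res]
      rw [← mapp_sum_smul, hb, mapp_res, hα, mres_mres, mres_sum_smul]
      simp only [mres_mres]
    obtain ⟨V, e, hxV, d, hd⟩ := hP.rel V₂ ((e₂.trans e₁).trans hW) _ h1 x hxV₂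
    refine ⟨V, e.trans (e₂.trans e₁), hxV,
      fun j => Fin.addCases (fun j => d ⟨j⟩) (fun l => ores O e (b ⟨l⟩)) j.down, fun i => ?_⟩
    rw [← Equiv.sum_comp Equiv.ulift.symm, Fin.sum_univ_add]
    simp only [Equiv.ulift_symm_down, Fin.addCases_left, Fin.addCases_right]
    have hdi := hd i
    rw [map_sub, map_sum, eq_sub_iff_add_eq] at hdi
    simp only [map_mul, ores_ores] at hdi
    rw [← Equiv.sum_comp Equiv.ulift.symm, ← Equiv.sum_comp Equiv.ulift.symm (fun l => ores O e (b l) * _)] at hdi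
    exact hdi

end general

variable {𝔛 : FSch.Sys.{u}} (h𝔛 : 𝔛.IsLocNoethFormal) {𝔊 : FSch.ModF 𝔛 h𝔛.1}

/-- A submodule of finite type of a coherent module is coherent. -/
theorem isCohF_of_mono {𝔎 : FSch.ModF 𝔛 h𝔛.1} (ι : 𝔎 ⟶ 𝔊) [Mono ι] (h𝔊 : FSch.IsCohF 𝔛 h𝔛.1 𝔊)
    (hft : SheafOfModules.IsFiniteType.{u} (R := ModSite.ringSh (𝔛.Osh h𝔛.1)) 𝔎) : FSch.IsCohF 𝔛 h𝔛.1 𝔎 := by
  refine isFinitePresentation_of_isPres (O := 𝔛.Osh h𝔛.1) fun x => ?_
  obtain ⟨U₀, n, t, hxU₀, ht⟩ := exists_gens (O := 𝔛.Osh h𝔛.1) hft x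
  obtain ⟨U, hU, hxU, e⟩ := exists_affine_le (𝔛 := 𝔛) hxU₀
  obtain ⟨q, z, hP⟩ := IsPres.of_mono h𝔛 ι h𝔊 hU (fun i => mres 𝔎 e (t i)) (gens_mono (O := 𝔛.Osh h𝔛.1) e ht)
  exact ⟨U, _, _, _, z, hxU, hP⟩

theorem exists_local_lift {𝔉 : FSch.ModF 𝔛 h𝔛.1} (θ : 𝔉 ⟶ 𝔊) {W : (𝔛.X 0).Opens}
    (b : FSect h𝔛 𝔊 W) (hb : (cokernel.π θ).val.app (op W) b = 0) (x : 𝔛.X 0) (hx : x ∈ W) :
    ∃ (V : (𝔛.X 0).Opens) (e : V ≤ W), x ∈ V ∧ ∃ a : FSect h𝔛 𝔉 V, θ.val.app (op V) a = mres 𝔊 e b := by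
  obtain ⟨k, hk⟩ := exists_kernel_lift (O := 𝔛.Osh h𝔛.1) (cokernel.π θ) W b hb
  haveI : Epi (kernel.lift (cokernel.π θ) θ (cokernel.condition θ)) :=
    (ShortComplex.exact_iff_epi_kernel_lift _).mp (ShortComplex.exact_cokernel θ)
  obtain ⟨S, hS, h⟩ := SuppCore.exists_cover_lift (kernel.lift (cokernel.π θ) θ (cokernel.condition θ)) k
  obtain ⟨V, f, hf, hxV⟩ := hS x hx
  obtain ⟨a, ha⟩ := h f hf
  refine ⟨V, f.le, hxV, a, ?_⟩
  rw [← hk]
  refine Eq.trans ?_ (mapp_res _ (kernel.ι (cokernel.π θ)) f.le k)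
  refine Eq.trans ?_ (congrArg ((kernel.ι (cokernel.π θ)).val.app (op V)) ha)
  exact congrArg (fun φ : 𝔉 ⟶ 𝔊 => φ.val.app (op V) a) (kernel.lift_ι (cokernel.π θ) θ (cokernel.condition θ)).symm

/-- The cokernel of a map of coherent modules is coherent. -/
theorem isCohF_cokernel {𝔉 : FSch.ModF 𝔛 h𝔛.1} (θ : 𝔉 ⟶ 𝔊) (h𝔉 : FSch.IsCohF 𝔛 h𝔛.1 𝔉)
    (h𝔊 : FSch.IsCohF 𝔛 h𝔛.1 𝔊) : FSch.IsCohF 𝔛 h𝔛.1 (cokernel θ) := by
  refine isFinitePresentation_of_isPres (O := 𝔛.Osh h𝔛.1) fun x => ?_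
  obtain ⟨U, hU, hxU, -⟩ := exists_affine_le (𝔛 := 𝔛) (W := ⊤) (x := x) trivial
  obtain ⟨q, _, k, _, hQ⟩ := affPres h𝔛 h𝔉 hU
  obtain ⟨n, m, t, g, hP⟩ := affPres h𝔛 h𝔊 hU
  choose a ha using fun l => hP.gen_aff h𝔛 h𝔊 hU (θ.val.app (op U) (k l))
  exact ⟨U, _, _, _, _, hxU, IsPres.coker θ (cokernel.π θ) (cokernel.condition θ)
    (fun W b hb => exists_local_lift h𝔛 θ b hb) hP hQ.gen a ha⟩

/-- The unit module is coherent. -/
theorem isCohF_unitF : FSch.IsCohF 𝔛 h𝔛.1 (FSch.unitF 𝔛 h𝔛.1) := by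
  refine isFinitePresentation_of_isPres (O := 𝔛.Osh h𝔛.1) fun x => ?_
  refine ⟨⊤, 1, 0, fun _ => (1 : (𝔛.Osh h𝔛.1).obj.obj (op ⊤)), fun j => Fin.elim0 j.down, trivial,
    fun j => Fin.elim0 j.down, fun W hW s y hy => ⟨W, le_rfl, hy, fun _ => s, ?_⟩,
    fun W hW c hc y hy => ⟨W, le_rfl, hy, fun j => Fin.elim0 j.down, fun i => ?_⟩⟩
  · rw [Fintype.sum_subsingleton _ (default : ULift.{u} (Fin 1))]
    exact (congrArg (fun z : (𝔛.Osh h𝔛.1).obj.obj (op W) => (show (𝔛.Osh h𝔛.1).obj.obj (op W) from s) * z)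
      (map_one (ores (𝔛.Osh h𝔛.1) hW))).trans
      ((mul_one (show (𝔛.Osh h𝔛.1).obj.obj (op W) from s)).trans (mres_rfl _ s).symm)
  · rw [Fintype.sum_subsingleton _ i] at hc
    have h1 : c i = 0 :=
      ((mul_one _).symm.trans (congrArg (fun z : (𝔛.Osh h𝔛.1).obj.obj (op W) => c i * z)
        (map_one (ores (𝔛.Osh h𝔛.1) hW)).symm)).trans hc
    rw [h1, map_zero]
    exact Finset.sum_eq_zero fun j _ => Fin.elim0 j.down

/-- A finite free module is coherent. -/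
theorem isCohF_free (n : ℕ) :
    FSch.IsCohF 𝔛 h𝔛.1 (SheafOfModules.free (R := ModSite.ringSh (𝔛.Osh h𝔛.1)) (ULift.{u} (Fin n))) := by
  refine isFinitePresentation_of_isPres (O := 𝔛.Osh h𝔛.1) fun x => ?_
  refine ⟨⊤, n, 0, fun i => SiteBase.basicSec (𝔛.Osh h𝔛.1) ⊤ n i, fun j => Fin.elim0 j.down, trivial,
    fun j => Fin.elim0 j.down, fun W hW s y hy => ⟨W, le_rfl, hy, SiteBase.toCoords n W s, ?_⟩,
    fun W hW c hc y hy => ⟨W, le_rfl, hy, fun j => Fin.elim0 j.down, fun i => ?_⟩⟩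
  · rw [mres_rfl]
    refine Eq.trans (Finset.sum_congr rfl fun i _ => ?_) (SiteBase.eq_sum_basicSec (O := 𝔛.Osh h𝔛.1) W s).symm
    exact congrArg (SiteBase.toCoords n W s i • ·)
      ((SheafOfModules.freeSection (R := ModSite.ringSh (𝔛.Osh h𝔛.1)) i).property (homOfLE hW).op)
  · have h1 : ∑ k, c k • SiteBase.basicSec (𝔛.Osh h𝔛.1) W n k = 0 := by
      refine Eq.trans (Finset.sum_congr rfl fun k _ => ?_) hc
      exact congrArg (c k • ·)
        ((SheafOfModules.freeSection (R := ModSite.ringSh (𝔛.Osh h𝔛.1)) k).property (homOfLE hW).op).symm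
    have h2 := congrFun ((toCoords_sum_basicSec (O := 𝔛.Osh h𝔛.1) W c).symm.trans
      ((congrArg (SiteBase.toCoords n W) h1).trans (map_zero _))) i
    rw [h2]
    exact (Finset.sum_eq_zero fun j _ => Fin.elim0 j.down).trans (map_zero _).symm

/-- The kernel of the unit to a level is of finite type. -/
theorem ker_toLev_gen (k : ℕ) {U : (𝔛.X 0).Opens} (hU : IsAffineOpen U) (r : Rng h𝔛 U)
    (c : Rng h𝔛 (basic h𝔛.1 U r)) (hc : rproj h𝔛.1 k (basic h𝔛.1 U r) c = 0) {q : ℕ}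
    {a : ULift.{u} (Fin q) → Rng h𝔛 U} (ha : Ideal.span (Set.range a) = RingHom.ker (rproj h𝔛.1 k U)) :
    ∃ d : ULift.{u} (Fin q) → Rng h𝔛 (basic h𝔛.1 U r), ∑ i, d i * rres h𝔛 (basic_le h𝔛.1 U r) (a i) = c := by
  have h1 := ker_rproj_basic h𝔛 hU r k c hc
  rw [← Ideal.map, ← ha, Ideal.map_span, ← Set.range_comp] at h1
  exact Submodule.mem_span_range_iff_exists_fun _ |>.mp h1

end Groth.Agent.FModLib
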