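import Groth.Agent.FModLib.Ring
import Groth.Agent.Adic7.Limit
import Groth.Agent.QCoh.ClosedPush
import Groth.Agent.FComplLib.AffSysMod

/-!
# Sections of a coherent system over an affine open
-/

set_option backward.isDefEq.respectTransparency false
set_option backward.isDefEq.respectTransparency.types false
set_option linter.style.haveILetI false

universe u

open CategoryTheory CategoryTheory.Limits AlgebraicGeometry TopologicalSpace Opposite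

noncomputable section

namespace Groth.Agent.FModLib

open FComplLib

variable {𝔛 : FSch.Sys.{u}} (h𝔛 : 𝔛.IsLocNoethFormal) (𝔐 : FSch.ModSys 𝔛)

theorem tr_surjective_and_ker (h𝔐 : 𝔐.IsCoh) (k : ℕ) {U : (𝔛.X 0).Opens} (hU : IsAffineOpen U) :
    Function.Surjective (tr h𝔛.1 𝔐 k U) ∧ ∀ x, tr h𝔛.1 𝔐 k U x = 0 ↔
      x ∈ (𝔛.ι k).ker.ideal ⟨_, isAffineOpen_lvU h𝔛.1 (k + 1) hU⟩ •
        (⊤ : Submodule Γ(𝔛.X (k + 1), 𝔛.lvU h𝔛.1 (k + 1) U) Γ(𝔐.F (k + 1), 𝔛.lvU h𝔛.1 (k + 1) U)) := by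
  have := isClosedImmersion_ι h𝔛.1 k
  set W := 𝔛.lvU h𝔛.1 (k + 1) U with hW
  have he : Function.Bijective ((𝔐.e k).hom.app ((𝔛.ι k) ⁻¹ᵁ W)) := by
    have : IsIso ((𝔐.e k).hom.app ((𝔛.ι k) ⁻¹ᵁ W)) :=
      Scheme.Modules.Hom.isIso_iff_isIso_app.mp inferInstance _
    exact ConcreteCategory.bijective_of_isIso _
  have hres : Function.Bijective ((𝔐.F k).presheaf.map (homOfLE (𝔛.lvU_le h𝔛.1 k U)).op) := by
    have : IsIso (homOfLE (𝔛.lvU_le h𝔛.1 k U)).op := by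
      have : IsIso (homOfLE (𝔛.lvU_le h𝔛.1 k U)) :=
        ⟨homOfLE (𝔛.lvU_succ h𝔛.1 k U).le, Subsingleton.elim _ _, Subsingleton.elim _ _⟩
      infer_instance
    exact ConcreteCategory.bijective_of_isIso _
  have heq : ∀ x, tr h𝔛.1 𝔐 k U x = (𝔐.F k).presheaf.map (homOfLE (𝔛.lvU_le h𝔛.1 k U)).op
      ((𝔐.e k).hom.app ((𝔛.ι k) ⁻¹ᵁ W)
        (((Scheme.Modules.pullbackPushforwardAdjunction (𝔛.ι k)).unit.app (𝔐.F (k + 1))).app W x)) := by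
    intro x
    dsimp only [tr, FSch.ModSys.toPush]
    rw [Adjunction.homEquiv_unit]
    rfl
  obtain ⟨hs, hk⟩ := QCoh.unit_app_closed (𝔛.ι k) (h𝔐 (k + 1)).1 (isAffineOpen_lvU h𝔛.1 (k + 1) hU)
  refine ⟨fun y => ?_, fun x => ?_⟩
  · obtain ⟨a, rfl⟩ := hres.2 y
    obtain ⟨b, rfl⟩ := he.2 a
    obtain ⟨x, rfl⟩ := hs b
    exact ⟨x, heq x⟩
  · rw [← hk x, heq x]
    constructor
    · intro hx
      exact he.1 ((hres.1 (hx.trans (map_zero _).symm)).trans (map_zero _).symm)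
    · intro hx
      rw [hx, map_zero, map_zero]

theorem ideal_ι_eq (k : ℕ) {U : (𝔛.X 0).Opens} (hU : IsAffineOpen U) :
    (𝔛.ι k).ker.ideal ⟨_, isAffineOpen_lvU h𝔛.1 (k + 1) hU⟩ =
      (RingHom.ker (rproj h𝔛.1 0 U) ^ (k + 1)).map (rproj h𝔛.1 (k + 1) U) := by
  have := isClosedImmersion_ι h𝔛.1 k
  have hs := surjective_rproj h𝔛.1 (k + 1) hU
  rw [← (affRing h𝔛 hU).2.2 k]
  have hc : rproj h𝔛.1 k U = (rtr h𝔛.1 k U).comp (rproj h𝔛.1 (k + 1) U) :=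
    RingHom.ext fun r => (rproj_rtr h𝔛.1 k U r).symm
  rw [hc, ← RingHom.comap_ker, Ideal.map_comap_of_surjective _ hs]
  refine SetLike.ext fun x => ?_
  rw [Scheme.Hom.ker_apply (𝔛.ι k)]
  simp only [RingHom.mem_ker]
  rw [rtr, Scheme.Hom.appLE]
  constructor
  · intro hx
    rw [CommRingCat.hom_comp, RingHom.comp_apply, hx, map_zero]
  · intro hx
    have : IsIso (homOfLE (𝔛.lvU_le h𝔛.1 k U)) :=
      ⟨homOfLE (𝔛.lvU_succ h𝔛.1 k U).le, Subsingleton.elim _ _, Subsingleton.elim _ _⟩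
    exact (ConcreteCategory.bijective_of_isIso ((𝔛.X k).presheaf.map
      (homOfLE (𝔛.lvU_le h𝔛.1 k U)).op)).1 (hx.trans (map_zero _).symm)

/-- The sections over an affine open form a finite module with the levels as quotients. -/
theorem affSec (h𝔐 : 𝔐.IsCoh) {U : (𝔛.X 0).Opens} (hU : IsAffineOpen U) :
    Module.Finite ((𝔛.Osh h𝔛.1).obj.obj (op U)) (Sec h𝔛.1 𝔐 U) ∧ ∀ k,
      Function.Surjective (pr h𝔛.1 𝔐 k U) ∧ ∀ x, pr h𝔛.1 𝔐 k U x = 0 ↔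
        x ∈ RingHom.ker (rproj h𝔛.1 0 U) ^ (k + 1) •
          (⊤ : Submodule ((𝔛.Osh h𝔛.1).obj.obj (op U)) (Sec h𝔛.1 𝔐 U)) := by
  obtain ⟨hN, hC, hK⟩ := affRing h𝔛 hU
  letI B := (𝔛.Osh h𝔛.1).obj.obj (op U)
  letI M : ℕ → Type u := fun k => Γ(𝔐.F k, 𝔛.lvU h𝔛.1 k U)
  letI : ∀ k, AddCommGroup (M k) := fun k => inferInstanceAs (AddCommGroup Γ(𝔐.F k, 𝔛.lvU h𝔛.1 k U))
  letI : ∀ k, Module B (M k) := fun k => Module.compHom Γ(𝔐.F k, 𝔛.lvU h𝔛.1 k U) (rproj h𝔛.1 k U)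
  let f : ∀ k, M (k + 1) →ₗ[B] M k := fun k =>
    { toFun := tr h𝔛.1 𝔐 k U
      map_add' := map_add _
      map_smul' := fun r x => tr_smul h𝔛.1 𝔐 k U r x }
  have hfk : ∀ k, LinearMap.ker (f k) =
      RingHom.ker (rproj h𝔛.1 0 U) ^ (k + 1) • (⊤ : Submodule B (M (k + 1))) := fun k => by
    refine SetLike.ext fun x => Iff.trans ((tr_surjective_and_ker h𝔛 𝔐 h𝔐 k hU).2 x) ?_
    rw [ideal_ι_eq h𝔛 k hU]
    refine ⟨fun h => ?_, fun h => ?_⟩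
    · obtain ⟨y, hy, rfl⟩ := exists_mem_smul_top (R := B) (M := M (k + 1)) (rproj h𝔛.1 (k + 1) U)
        (surjective_rproj h𝔛.1 (k + 1) hU) (AddMonoidHom.id _) Function.surjective_id (fun _ _ => rfl) _ h
      exact hy
    · exact map_mem_smul_top (R := B) (M := M (k + 1)) (P := Γ(𝔐.F (k + 1), 𝔛.lvU h𝔛.1 (k + 1) U))
        (rproj h𝔛.1 (k + 1) U) (AddMonoidHom.id _) (fun _ _ => rfl) _ h
  let π : ∀ k, Sec h𝔛.1 𝔐 U →ₗ[B] M k := fun k =>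
    { toFun := pr h𝔛.1 𝔐 k U
      map_add' := map_add _
      map_smul' := fun r x => pr_smul h𝔛.1 𝔐 k U r x }
  obtain ⟨-, hπ, hfin⟩ := Adic7.limit_quotient_system B _ (IsNoetherian.noetherian _) M f
    (fun k => (tr_surjective_and_ker h𝔛 𝔐 h𝔐 k hU).1) hfk (Sec h𝔛.1 𝔐 U) π
    (fun k => LinearMap.ext fun x => pr_tr h𝔛.1 𝔐 k U x)
    (fun x hx => ext_pr h𝔛.1 𝔐 U fun k => (hx k).trans (map_zero _).symm)
    (fun y hy => exists_pr h𝔛.1 𝔐 U y hy)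
  have hM0 : Module.Finite B (M 0) := by
    have := QCoh.finite_sections (h𝔐 0) (isAffineOpen_lvU h𝔛.1 0 hU)
    obtain ⟨s, hs⟩ := this.fg_top
    refine ⟨⟨s, eq_top_iff.mpr fun x _ => ?_⟩⟩
    have key : ∀ z : Γ(𝔐.F 0, 𝔛.lvU h𝔛.1 0 U),
        z ∈ Submodule.span Γ(𝔛.X 0, 𝔛.lvU h𝔛.1 0 U) (s : Set Γ(𝔐.F 0, 𝔛.lvU h𝔛.1 0 U)) →
        (show M 0 from z) ∈ Submodule.span B ((s : Set Γ(𝔐.F 0, 𝔛.lvU h𝔛.1 0 U)) : Set (M 0)) := by
      intro z hz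
      induction hz using Submodule.span_induction with
      | mem y hy => exact Submodule.subset_span hy
      | zero => exact Submodule.zero_mem _
      | add y w _ _ hy hw => exact Submodule.add_mem _ hy hw
      | smul c y _ hy =>
        obtain ⟨a, rfl⟩ := surjective_rproj h𝔛.1 0 hU c
        exact Submodule.smul_mem _ a hy
    exact key x (by rw [hs]; trivial)
  exact ⟨hfin hC hM0, fun k => ⟨(hπ k).1, fun x =>
    (LinearMap.mem_ker (f := π k)).symm.trans (SetLike.ext_iff.mp (hπ k).2 x)⟩⟩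

end Groth.Agent.FModLib
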