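import Groth.Agent.FModLib.Levels

/-!
# Morphisms of coherent systems and of their modules
-/

set_option backward.isDefEq.respectTransparency false
set_option backward.isDefEq.respectTransparency.types false
set_option linter.style.haveILetI false

universe u

open CategoryTheory CategoryTheory.Limits AlgebraicGeometry TopologicalSpace Opposite

noncomputable section

namespace Groth.Agent.FModLib

variable {𝔛 : FSch.Sys.{u}}

theorem realModMap_realProj (h : 𝔛.IsFormal) {𝔐 𝔑 : FSch.ModSys 𝔛} (φ : 𝔐 ⟶ 𝔑) (k : ℕ) :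
    FSch.ModSys.realModMap h φ ≫ FSch.realProj 𝔛 h 𝔑.F 𝔑.toPush k =
      FSch.realProj 𝔛 h 𝔐.F 𝔐.toPush k ≫ (FSch.levelMor 𝔛 h k).push.map (φ.app k) :=
  FSch.realLimMap_realProj 𝔛 h φ.app (FSch.ModSys.Hom.toPush_comm φ) k

theorem bijective_realModMap (h𝔛 : 𝔛.IsLocNoethFormal) (𝔐 𝔑 : FSch.ModSys 𝔛) (h𝔐 : 𝔐.IsCoh) :
    Function.Bijective (fun φ : 𝔐 ⟶ 𝔑 => FSch.ModSys.realModMap h𝔛.1 φ) := by
  let P := fun k => FSch.realProj 𝔛 h𝔛.1 𝔐.F 𝔐.toPush k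
  let Q := fun k => FSch.realProj 𝔛 h𝔛.1 𝔑.F 𝔑.toPush k
  have hepi : ∀ k, Epi (P k) := fun k => epi_realProj k h𝔛 𝔐 h𝔐
  refine ⟨fun φ φ' e => ?_, fun Φ => ?_⟩
  · refine FSch.ModSys.Hom.ext (funext fun k => push_level_faithful h𝔛.1 k ?_)
    haveI := hepi k
    refine (cancel_epi (P k)).mp ?_
    rw [← realModMap_realProj, ← realModMap_realProj]
    exact congrArg (· ≫ Q k) e
  · choose ψ hψ using fun k => exists_factor k h𝔛 𝔐 h𝔐 (𝔑.F k) (Φ ≫ Q k)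
    have hc : ∀ k, 𝔐.toPush k ≫ (Scheme.Modules.pushforward (𝔛.ι k)).map (ψ k) = ψ (k + 1) ≫ 𝔑.toPush k := by
      intro k
      refine push_level_faithful h𝔛.1 (k + 1) ?_
      haveI := hepi (k + 1)
      haveI : IsIso ((FSch.pushCompare 𝔛 h𝔛.1 k).app (𝔑.F k)) :=
        ⟨(FSch.pushCompareInv 𝔛 h𝔛.1 k).app (𝔑.F k), FSch.pushCompare_pushCompareInv 𝔛 h𝔛.1 k _,
          FSch.pushCompareInv_pushCompare 𝔛 h𝔛.1 k _⟩
      refine (cancel_mono ((FSch.pushCompare 𝔛 h𝔛.1 k).app (𝔑.F k))).mp ((cancel_epi (P (k + 1))).mp ?_)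
      let L := (FSch.levelMor 𝔛 h𝔛.1 (k + 1)).push
      let c := FSch.pushCompare 𝔛 h𝔛.1 k
      have e1 : P (k + 1) ≫ L.map (𝔐.toPush k ≫ (Scheme.Modules.pushforward (𝔛.ι k)).map (ψ k)) ≫ c.app (𝔑.F k) =
          P k ≫ (FSch.levelMor 𝔛 h𝔛.1 k).push.map (ψ k) := by
        rw [Functor.map_comp]
        refine Eq.trans ?_ (congrArg (· ≫ _) (FSch.realProj_map 𝔛 h𝔛.1 𝔐.F 𝔐.toPush k))
        simp only [P, Category.assoc]
        exact congrArg (fun z => FSch.realProj 𝔛 h𝔛.1 𝔐.F 𝔐.toPush (k + 1) ≫ L.map (𝔐.toPush k) ≫ z)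
          (c.naturality (ψ k))
      have e2 : P (k + 1) ≫ L.map (ψ (k + 1) ≫ 𝔑.toPush k) ≫ c.app (𝔑.F k) =
          P k ≫ (FSch.levelMor 𝔛 h𝔛.1 k).push.map (ψ k) := by
        rw [Functor.map_comp]
        refine Eq.trans ?_ (hψ k).symm
        simp only [Category.assoc]
        refine (reassoc_of% (hψ (k + 1))) _ |>.trans ?_
        exact congrArg (Φ ≫ ·) (FSch.realProj_map 𝔛 h𝔛.1 𝔑.F 𝔑.toPush k)
      exact e1.trans e2.symm
    let φ : 𝔐 ⟶ 𝔑 := ⟨ψ, fun k => by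
      apply ((Scheme.Modules.pullbackPushforwardAdjunction (𝔛.ι k)).homEquiv _ _).injective
      rw [Adjunction.homEquiv_naturality_left, Adjunction.homEquiv_naturality_right]
      exact (hc k).symm⟩
    refine ⟨φ, limit.hom_ext fun j => ?_⟩
    exact (realModMap_realProj h𝔛.1 φ j.unop).trans (hψ j.unop)

end Groth.Agent.FModLib
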