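import Groth.Agent.FModLib.ComplIso
import Groth.Agent.FModLib.Full
import Groth.Agent.FComplFlat.Lift

/-!
# Completion of coherent modules is exact
-/

set_option backward.isDefEq.respectTransparency false
set_option backward.isDefEq.respectTransparency.types false
set_option linter.style.haveILetI false

universe u

open CategoryTheory CategoryTheory.Limits AlgebraicGeometry TopologicalSpace Opposite

noncomputable section

namespace Groth.Agent.FModLib

variable {𝔛 : FSch.Sys.{u}} (h : 𝔛.IsFormal) {Y : Scheme.{u}} (p : ∀ n, 𝔛.X n ⟶ Y)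
  (hp : ∀ n, 𝔛.ι n ≫ p (n + 1) = p n)

/-- Naturality of maps out of an inverse image determined by their components. -/
theorem pull_nat_of_components {F G : Y.Modules} (φ : F ⟶ G) {𝔐 𝔑 : FSch.ModSys 𝔛} (Φ : 𝔐 ⟶ 𝔑)
    (a : (toY h p hp).pull.obj F ⟶ 𝔐.realMod h) (b : (toY h p hp).pull.obj G ⟶ 𝔑.realMod h)
    (u : ∀ k, F ⟶ (toY h p hp).push.obj ((FSch.levelMor 𝔛 h k).push.obj (𝔐.F k)))
    (v : ∀ k, G ⟶ (toY h p hp).push.obj ((FSch.levelMor 𝔛 h k).push.obj (𝔑.F k)))
    (ha : ∀ k, (toY h p hp).adj.homEquiv _ _ a ≫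
      (toY h p hp).push.map (FSch.realProj 𝔛 h 𝔐.F 𝔐.toPush k) = u k)
    (hb : ∀ k, (toY h p hp).adj.homEquiv _ _ b ≫
      (toY h p hp).push.map (FSch.realProj 𝔛 h 𝔑.F 𝔑.toPush k) = v k)
    (huv : ∀ k, u k ≫ (toY h p hp).push.map ((FSch.levelMor 𝔛 h k).push.map (Φ.app k)) = φ ≫ v k) :
    a ≫ FSch.ModSys.realModMap h Φ = (toY h p hp).pull.map φ ≫ b := by
  refine limit.hom_ext fun k => ?_
  obtain ⟨k⟩ := k
  apply ((toY h p hp).adj.homEquiv _ _).injective
  refine ((congrArg ((toY h p hp).adj.homEquiv _ _) ((Category.assoc _ _ _).trans ((congrArg (a ≫ ·)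
    (realModMap_realProj h Φ k)).trans (Category.assoc _ _ _).symm))).trans ?_).trans
    (congrArg ((toY h p hp).adj.homEquiv _ _) (Category.assoc _ _ _)).symm
  refine ((toY h p hp).adj.homEquiv_naturality_right _ _).trans ?_
  refine (congrArg (· ≫ _) (((toY h p hp).adj.homEquiv_naturality_right _ _).trans (ha k))).trans ?_
  refine (huv k).trans ?_
  refine Eq.trans ?_ ((toY h p hp).adj.homEquiv_naturality_left _ _).symm
  exact congrArg (φ ≫ ·) ((hb k).symm.trans ((toY h p hp).adj.homEquiv_naturality_right _ _).symm)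

theorem unit_compare_nat {F G : Y.Modules} (φ : F ⟶ G) (k : ℕ) :
    ((Scheme.Modules.pullbackPushforwardAdjunction (p k)).unit.app F ≫
        (FSch.schPushCompare 𝔛 h p hp k).app _) ≫
      (toY h p hp).push.map ((FSch.levelMor 𝔛 h k).push.map ((Scheme.Modules.pullback (p k)).map φ)) =
    φ ≫ (Scheme.Modules.pullbackPushforwardAdjunction (p k)).unit.app G ≫
        (FSch.schPushCompare 𝔛 h p hp k).app _ := by
  refine (Category.assoc _ _ _).trans ?_
  refine (congrArg (_ ≫ ·) ((FSch.schPushCompare 𝔛 h p hp k).naturality ((Scheme.Modules.pullback (p k)).map φ)).symm).trans ?_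
  refine (Category.assoc _ _ _).symm.trans ?_
  refine (congrArg (· ≫ _) ((Scheme.Modules.pullbackPushforwardAdjunction (p k)).unit.naturality φ).symm).trans ?_
  exact Category.assoc _ _ _

theorem complMod_shortExact {X : Scheme.{u}} [IsLocallyNoetherian X] (𝓘 : X.IdealSheafData)
    (h : (FSch.completionAlong X 𝓘).IsFormal) (S : ShortComplex X.Modules) (hS : S.ShortExact)
    (h1 : Coh.IsCoh S.X₁) (h2 : Coh.IsCoh S.X₂) (h3 : Coh.IsCoh S.X₃) :
    FSch.ModSys.realModMap h (FSch.complModMap 𝓘 S.f) ≫ FSch.ModSys.realModMap h (FSch.complModMap 𝓘 S.g) = 0 ∧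
      ∀ w : FSch.ModSys.realModMap h (FSch.complModMap 𝓘 S.f) ≫ FSch.ModSys.realModMap h (FSch.complModMap 𝓘 S.g) = 0,
        (ShortComplex.mk _ _ w).ShortExact := by
  obtain ⟨e1, he1⟩ := exists_pull_iso_of_eq 𝓘 h S.X₁ h1 _ (complMod_toPush 𝓘 S.X₁)
  obtain ⟨e2, he2⟩ := exists_pull_iso_of_eq 𝓘 h S.X₂ h2 _ (complMod_toPush 𝓘 S.X₂)
  obtain ⟨e3, he3⟩ := exists_pull_iso_of_eq 𝓘 h S.X₃ h3 _ (complMod_toPush 𝓘 S.X₃)
  have nf := pull_nat_of_components h (FSch.completionToX X 𝓘) (FSch.completionToX_comm X 𝓘) S.f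
    (FSch.complModMap 𝓘 S.f) e1.hom e2.hom _ _ he1 he2 (unit_compare_nat h _ _ S.f)
  have ng := pull_nat_of_components h (FSch.completionToX X 𝓘) (FSch.completionToX_comm X 𝓘) S.g
    (FSch.complModMap 𝓘 S.g) e2.hom e3.hom _ _ he2 he3 (unit_compare_nat h _ _ S.g)
  let T := toY h (FSch.completionToX X 𝓘) (FSch.completionToX_comm X 𝓘)
  haveI : PreservesFiniteLimits T.pull :=
    Groth.Agent.SiteBase.isFlat_of_relLift _ (Groth.Agent.FComplFlat.relLift X 𝓘 h)
  haveI : PreservesColimitsOfSize.{0, 0} T.pull := T.adj.leftAdjoint_preservesColimits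
  haveI : PreservesFiniteColimits T.pull := PreservesColimitsOfSize.preservesFiniteColimits _
  haveI : T.pull.Additive := Functor.additive_of_preserves_binary_products _
  have w : FSch.ModSys.realModMap h (FSch.complModMap 𝓘 S.f) ≫ FSch.ModSys.realModMap h (FSch.complModMap 𝓘 S.g) = 0 := by
    rw [← cancel_epi e1.hom, comp_zero, reassoc_of% nf, ng, ← T.pull.map_comp_assoc, S.zero, T.pull.map_zero, zero_comp]
  exact ⟨w, fun w' => ShortComplex.shortExact_of_iso (ShortComplex.isoMk e1 e2 e3 nf ng) (hS.map_of_exact T.pull)⟩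

end Groth.Agent.FModLib
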