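import Groth.Agent.FModLib.Formal
import Groth.Agent.FModLib.Exact
import Groth.Agent.SheafHomX.Proper
import Groth.Agent.QCoh.AnnIdeal
import Groth.Agent.QCoh.DevissageP
import Groth.Agent.QCoh.ProperOver2
import Groth.Agent.QCoh.SupportFT

/-!
# Algebraizable modules on the completion
-/

set_option backward.isDefEq.respectTransparency false
set_option backward.isDefEq.respectTransparency.types false
set_option linter.style.haveILetI false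

universe u

open CategoryTheory CategoryTheory.Limits AlgebraicGeometry TopologicalSpace Opposite

noncomputable section

namespace Groth.Agent.FModLib

open Groth.Agent

section Nat

variable {𝔛 : FSch.Sys.{u}} (h : 𝔛.IsFormal) {Y : Scheme.{u}} (p : ∀ n, 𝔛.X n ⟶ Y)
  (hp : ∀ n, 𝔛.ι n ≫ p (n + 1) = p n)

theorem gamma_nat_of_app {F G : Y.Modules} (φ : F ⟶ G) (Φ : sysOf p hp F ⟶ sysOf p hp G)
    (hΦ : ∀ n, Φ.app n = (Scheme.Modules.pullback (p n)).map φ) :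
    gamma h p hp F ≫ FSch.ModSys.realModMap h Φ = (toY h p hp).pull.map φ ≫ gamma h p hp G :=
  pull_nat_of_components h p hp φ Φ _ _ _ _ (homEquiv_gamma h p hp F) (homEquiv_gamma h p hp G) fun k => by
    rw [hΦ k]
    exact unit_compare_nat h p hp φ k

theorem isCohF_of_iso' {F G : FSch.ModF 𝔛 h} (e : F ≅ G) (hF : FSch.IsCohF 𝔛 h F) : FSch.IsCohF 𝔛 h G :=
  ObjectProperty.prop_of_iso (SheafOfModules.isFinitePresentation.{u} _) e hF

/-- The middle of an exact sequence of coherent modules on a scheme is supported in the union. -/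
theorem support_subset_union_of_exact {S : ShortComplex Y.Modules} (hS : S.Exact) [Epi S.g]
    (h₁ : Coh.IsQCoh S.X₁) (h₂ : Coh.IsQCoh S.X₂) (h₃ : Coh.IsQCoh S.X₃) :
    CohB1.support S.X₂ ⊆ CohB1.support S.X₁ ∪ CohB1.support S.X₃ := by
  have hK : Coh.IsQCoh (kernel S.g) := QCoh.isQCoh_kernel h₂ h₃ S.g
  have hse : (ShortComplex.mk (kernel.ι S.g) S.g (kernel.condition S.g)).ShortExact :=
    { exact := ShortComplex.exact_of_f_is_kernel _ (kernelIsKernel S.g) }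
  haveI := hS.epi_kernelLift
  exact (QCoh.support_subset_union hse hK h₂ h₃).trans
    (Set.union_subset_union_left _ (QCoh.support_of_epi h₁ hK (kernel.lift S.g S.f S.zero)))

end Nat

variable {A : Type u} [CommRing A] [IsNoetherianRing A] {J : Ideal A} [IsAdicComplete J A]
  {X : Scheme.{u}} [X.Over (Spec (CommRingCat.of A))]
  [IsSeparated (X ↘ Spec (CommRingCat.of A))] [LocallyOfFiniteType (X ↘ Spec (CommRingCat.of A))]
  [QuasiCompact (X ↘ Spec (CommRingCat.of A))]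
  {𝔛 : FSch.Sys.{u}} (h𝔛 : 𝔛.IsLocNoethFormal) (p : ∀ n, 𝔛.X n ⟶ X) [∀ n, IsClosedImmersion (p n)]
  (hp : ∀ n, 𝔛.ι n ≫ p (n + 1) = p n) (hk : ∀ n, (p n).ker = Algz7.baseIdeal (J ^ (n + 1)))

variable (A) in
/-- A module is algebraizable when it is the inverse image of a coherent module with proper support. -/
def IsAlg (𝔉 : FSch.ModF 𝔛 h𝔛.1) : Prop :=
  ∃ G : X.Modules, Coh.IsCoh G ∧ ClSub.IsProperOver (X ↘ Spec (CommRingCat.of A)) (CohB1.support G) ∧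
    Nonempty (𝔉 ≅ (toY h𝔛.1 p hp).pull.obj G)

theorem IsAlg.isCohF {𝔉 : FSch.ModF 𝔛 h𝔛.1} (h : IsAlg A h𝔛 p hp 𝔉) : FSch.IsCohF 𝔛 h𝔛.1 𝔉 := by
  haveI := LocallyOfFiniteType.isLocallyNoetherian (X ↘ Spec (CommRingCat.of A))
  obtain ⟨G, hG, -, ⟨e⟩⟩ := h
  exact isCohF_of_iso' h𝔛.1 e.symm (isCohF_pull h𝔛.1 p hp G hG)

include hk in
/-- Morphisms between algebraizable modules are algebraic. -/
theorem exists_pull_map {G H : X.Modules} (hG : Coh.IsCoh G) (hH : Coh.IsCoh H)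
    (hGs : ClSub.IsProperOver (X ↘ Spec (CommRingCat.of A)) (CohB1.support G))
    (v : (toY h𝔛.1 p hp).pull.obj G ⟶ (toY h𝔛.1 p hp).pull.obj H) :
    ∃ φ : G ⟶ H, (toY h𝔛.1 p hp).pull.map φ = v := by
  haveI := LocallyOfFiniteType.isLocallyNoetherian (X ↘ Spec (CommRingCat.of A))
  haveI := isIso_gamma p hp G h𝔛 hG
  haveI := isIso_gamma p hp H h𝔛 hH
  have hsys : (sysOf p hp G).IsCoh := fun k => by
    haveI := h𝔛.2.2 k
    exact ZClosLib.isCoh_pullback (p k) hG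
  obtain ⟨Φ, hΦ⟩ := (bijective_realModMap h𝔛 (sysOf p hp G) (sysOf p hp H) hsys).2
    (inv (gamma h𝔛.1 p hp G) ≫ v ≫ gamma h𝔛.1 p hp H)
  obtain ⟨ψ, hψ⟩ := exists_hom_of_sysHom p hp hk hG.1 hH.1 Φ
  obtain ⟨φ, hφ, -⟩ := SheafHomX.existsUnique_of_proper J hG hH hGs Set.inter_subset_left ψ
  refine ⟨φ, ?_⟩
  have h1 := gamma_nat_of_app h𝔛.1 p hp φ Φ (hψ φ hφ)
  refine (cancel_mono (gamma h𝔛.1 p hp H)).1 (h1.symm.trans ?_)
  exact (congrArg (gamma h𝔛.1 p hp G ≫ ·) hΦ).trans (IsIso.hom_inv_id_assoc _ _)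

include hk in
theorem isAlg_kernel_image_cokernel [PreservesFiniteLimits (toY h𝔛.1 p hp).pull]
    {𝔉 𝔊 : FSch.ModF 𝔛 h𝔛.1} (hF : IsAlg A h𝔛 p hp 𝔉) (hG : IsAlg A h𝔛 p hp 𝔊) (u : 𝔉 ⟶ 𝔊) :
    IsAlg A h𝔛 p hp (kernel u) ∧ IsAlg A h𝔛 p hp (Abelian.image u) ∧ IsAlg A h𝔛 p hp (cokernel u) := by
  haveI := LocallyOfFiniteType.isLocallyNoetherian (X ↘ Spec (CommRingCat.of A))
  obtain ⟨G, hG1, hG2, ⟨a⟩⟩ := hF
  obtain ⟨H, hH1, hH2, ⟨b⟩⟩ := hG
  obtain ⟨φ, hφ⟩ := exists_pull_map h𝔛 p hp hk hG1 hH1 hG2 (a.inv ≫ u ≫ b.hom)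
  let T := (toY h𝔛.1 p hp)
  haveI : PreservesColimitsOfSize.{0, 0} T.pull := T.adj.leftAdjoint_preservesColimits
  haveI : T.pull.Additive := Functor.additive_of_preserves_binary_products _
  have w : u ≫ b.hom = a.hom ≫ T.pull.map φ := by rw [hφ, Iso.hom_inv_id_assoc]
  have hker : Coh.IsCoh (kernel φ) := QCoh.isCoh_kernel hG1 hH1 φ
  have hcok : Coh.IsCoh (cokernel φ) := QCoh.isCoh_cokernel hG1.1 hH1 φ
  have him : Coh.IsCoh (Abelian.image φ) := QCoh.isCoh_kernel hH1 hcok _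
  have sub : ∀ {M N : X.Modules}, Coh.IsCoh M → Coh.IsCoh N → CohB1.support M ⊆ CohB1.support N →
      ClSub.IsProperOver (X ↘ Spec (CommRingCat.of A)) (CohB1.support N) →
      ClSub.IsProperOver (X ↘ Spec (CommRingCat.of A)) (CohB1.support M) :=
    fun hM _ hs hN => QCoh.IsProperOver.subset hN (QCoh.isClosed_support_of_isFT hM.1 hM.2) hs
  refine ⟨⟨kernel φ, hker, sub hker hG1 (QCoh.mem_support_of_mono hker.1 hG1.1 (kernel.ι φ)) hG2,
      ⟨kernel.mapIso u (T.pull.map φ) a b w ≪≫ (PreservesKernel.iso T.pull φ).symm⟩⟩,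
    ⟨Abelian.image φ, him, sub him hH1 (QCoh.mem_support_of_mono him.1 hH1.1 (Abelian.image.ι φ)) hH2,
      ⟨kernel.mapIso (cokernel.π u) (T.pull.map (cokernel.π φ)) b
          (cokernel.mapIso u (T.pull.map φ) a b w ≪≫ (PreservesCokernel.iso T.pull φ).symm) ?_ ≪≫
        (PreservesKernel.iso T.pull (cokernel.π φ)).symm⟩⟩,
    ⟨cokernel φ, hcok, sub hcok hH1 (QCoh.support_of_epi hH1.1 hcok.1 (cokernel.π φ)) hH2,
      ⟨cokernel.mapIso u (T.pull.map φ) a b w ≪≫ (PreservesCokernel.iso T.pull φ).symm⟩⟩⟩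
  simp [PreservesCokernel.iso_inv]

include hk in
/-- A coherent module is algebraizable when its level `0` has proper support. -/
theorem isAlg_of_sys (𝔐 : FSch.ModSys 𝔛) (h𝔐 : 𝔐.IsCoh)
    (hs : ClSub.IsProperOver (X ↘ Spec (CommRingCat.of A))
      (CohB1.support ((Scheme.Modules.pushforward (p 0)).obj (𝔐.F 0)))) :
    IsAlg A h𝔛 p hp (𝔐.realMod h𝔛.1) := by
  haveI := LocallyOfFiniteType.isLocallyNoetherian (X ↘ Spec (CommRingCat.of A))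
  have hcf := isCohFormal_pushSys p hp h𝔛.2.2 hk 𝔐 h𝔐
  obtain ⟨M, hM1, hM2, ⟨c⟩⟩ := Algz7.exists_algebraization_properSupport J hcf hs
  obtain ⟨α, hα⟩ := nonempty_iso_sysOf p hp hk hM1.1 𝔐 h𝔐 c
  haveI := isIso_gamma p hp M h𝔛 hM1
  let Φ : sysOf p hp M ⟶ 𝔐 := ⟨fun n => (α n).hom, hα⟩
  let Ψ : 𝔐 ⟶ sysOf p hp M := ⟨fun n => (α n).inv, fun n => by
    rw [← cancel_mono (α n).hom, Category.assoc, ← hα n, ← Category.assoc, ← Functor.map_comp,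
      Iso.inv_hom_id, CategoryTheory.Functor.map_id, Category.id_comp, Category.assoc, Iso.inv_hom_id, Category.comp_id]⟩
  refine ⟨M, hM1, hM2, ⟨?_⟩⟩
  refine Iso.trans ⟨FSch.ModSys.realModMap h𝔛.1 Ψ, FSch.ModSys.realModMap h𝔛.1 Φ, ?_, ?_⟩ (asIso (gamma h𝔛.1 p hp M)).symm
  all_goals
    refine limit.hom_ext fun k => ?_
    obtain ⟨k⟩ := k
    refine (Category.assoc _ _ _).trans ((congrArg (_ ≫ ·) (realModMap_realProj h𝔛.1 _ k)).trans ?_)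
    refine (Category.assoc _ _ _).symm.trans ((congrArg (· ≫ _) (realModMap_realProj h𝔛.1 _ k)).trans ?_)
    refine (Category.assoc _ _ _).trans ((congrArg (_ ≫ ·) ((FSch.levelMor 𝔛 h𝔛.1 k).push.map_comp _ _).symm).trans ?_)
    simp only [Φ, Ψ, Iso.inv_hom_id, Iso.hom_inv_id, CategoryTheory.Functor.map_id, Category.comp_id]
    exact (Category.id_comp _).symm

include hk in
/-- An extension of algebraizable modules is algebraizable. -/
theorem isAlg_middle (S : ShortComplex (FSch.ModF 𝔛 h𝔛.1)) (hS : S.Exact) [Epi S.g]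
    (h₂ : FSch.IsCohF 𝔛 h𝔛.1 S.X₂) (a₁ : IsAlg A h𝔛 p hp S.X₁) (a₃ : IsAlg A h𝔛 p hp S.X₃) :
    IsAlg A h𝔛 p hp S.X₂ := by
  haveI := LocallyOfFiniteType.isLocallyNoetherian (X ↘ Spec (CommRingCat.of A))
  haveI := isIso_toReal h𝔛 S.X₂ h₂
  let 𝔐 := levSys h𝔛.1 S.X₂
  have h𝔐 : 𝔐.IsCoh := isCoh_levSys h𝔛 S.X₂ h₂
  let L := (FSch.levelMor 𝔛 h𝔛.1 0).pull
  let A0 := (FSch.levelMor 𝔛 h𝔛.1 0).adj
  haveI : PreservesColimitsOfSize.{0, 0} L := A0.leftAdjoint_preservesColimits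
  haveI : L.Additive := Functor.additive_of_preserves_binary_products _
  haveI : PreservesColimit (parallelPair S.f 0) L := inferInstance
  have e2 : L.obj S.X₂ ≅ 𝔐.F 0 := Iso.refl _
  have lev0 : ∀ {𝔉 : FSch.ModF 𝔛 h𝔛.1} (G : X.Modules), Coh.IsCoh G → (𝔉 ≅ (toY h𝔛.1 p hp).pull.obj G) →
      Nonempty (L.obj 𝔉 ≅ (Scheme.Modules.pullback (p 0)).obj G) := fun G hG e => by
    haveI := isIso_gamma p hp G h𝔛 hG
    have hi := isIso_adjunct 0 h𝔛 (sysOf p hp G) (fun k => by haveI := h𝔛.2.2 k; exact ZClosLib.isCoh_pullback (p k) hG)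
    exact ⟨L.mapIso (e ≪≫ asIso (gamma h𝔛.1 p hp G)) ≪≫ @asIso _ _ _ _ _ hi⟩
  obtain ⟨G1, hG1, hG1s, ⟨c1⟩⟩ := a₁
  obtain ⟨G3, hG3, hG3s, ⟨c3⟩⟩ := a₃
  obtain ⟨d1⟩ := lev0 G1 hG1 c1
  obtain ⟨d3⟩ := lev0 G3 hG3 c3
  haveI := h𝔛.2.2 0
  have q1 := ZClosLib.isCoh_pullback (p 0) hG1
  have q3 := ZClosLib.isCoh_pullback (p 0) hG3
  have hm := hS.map_of_epi_of_preservesCokernel L ‹_› inferInstance
  haveI : Epi (S.map L).g := inferInstanceAs (Epi (L.map S.g))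
  have hu := support_subset_union_of_exact hm ((QCoh.isQCoh_iff_iso d1).2 q1.1)
    ((QCoh.isQCoh_iff_iso e2).2 (h𝔐 0).1) ((QCoh.isQCoh_iff_iso d3).2 q3.1)
  have hC := QCoh.IsProperOver.union hG1s hG3s
  have hsub : CohB1.support (𝔐.F 0) ⊆ (p 0).base ⁻¹' (CohB1.support G1 ∪ CohB1.support G3) := by
    have e1' := (QCoh.support_iso d1.symm q1.1).symm.trans (QCoh.support_pullback (p 0) hG1.1 hG1.2)
    have e3' := (QCoh.support_iso d3.symm q3.1).symm.trans (QCoh.support_pullback (p 0) hG3.1 hG3.2)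
    intro x hx
    rcases hu ((QCoh.support_iso e2.symm (h𝔐 0).1) ▸ hx) with h | h
    · exact Or.inl ((Set.ext_iff.1 e1' x).1 h)
    · exact Or.inr ((Set.ext_iff.1 e3' x).1 h)
  have hcoh : Coh.IsCoh ((Scheme.Modules.pushforward (p 0)).obj (𝔐.F 0)) :=
    QCoh.isCoh_pushforward_finite (p 0) (h𝔐 0)
  have hs := QCoh.IsProperOver.subset hC (QCoh.isClosed_support_of_isFT hcoh.1 hcoh.2)
    (Algz7.support_push_subset (p 0) hC.1 fun x hx => hsub hx)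
  obtain ⟨M, hM1, hM2, ⟨c⟩⟩ := isAlg_of_sys h𝔛 p hp hk 𝔐 h𝔐 hs
  exact ⟨M, hM1, hM2, ⟨asIso (toReal h𝔛.1 S.X₂) ≪≫ c⟩⟩

end Groth.Agent.FModLib

namespace Groth.Agent.FModLib

variable {A : Type u} [CommRing A] {X : Scheme.{u}} [X.Over (Spec (CommRingCat.of A))] [IsLocallyNoetherian X]
  (𝓘 : X.IdealSheafData) (h : (FSch.completionAlong X 𝓘).IsFormal)

theorem isAlg_completion_iff (h𝔛 : (FSch.completionAlong X 𝓘).IsLocNoethFormal)
    (𝔉 : FSch.ModF (FSch.completionAlong X 𝓘) h𝔛.1) :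
    (∃ G : X.Modules, Coh.IsCoh G ∧ ClSub.IsProperOver (X ↘ Spec (CommRingCat.of A)) (CohB1.support G) ∧
        Nonempty (𝔉 ≅ (FSch.complMod 𝓘 G).realMod h𝔛.1)) ↔
      IsAlg A h𝔛 (FSch.completionToX X 𝓘) (FSch.completionToX_comm X 𝓘) 𝔉 := by
  constructor <;> rintro ⟨G, hG, hs, ⟨e⟩⟩ <;>
    obtain ⟨c, -⟩ := exists_pull_iso_of_eq 𝓘 h𝔛.1 G hG _ (complMod_toPush 𝓘 G)
  · exact ⟨G, hG, hs, ⟨e ≪≫ c.symm⟩⟩
  · exact ⟨G, hG, hs, ⟨e ≪≫ c⟩⟩

end Groth.Agent.FModLib
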