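import Groth.Agent.SiteBase.TerminalSections
import Mathlib.Algebra.Category.ModuleCat.Sheaf.Abelian
import Mathlib.Algebra.Category.ModuleCat.Sheaf.Quasicoherent
import Mathlib.CategoryTheory.Sites.EpiMono
import Mathlib.CategoryTheory.Sites.LocallySurjective

/-!
# Finite presentations of modules on a site from sections over a terminal object
-/

set_option backward.isDefEq.respectTransparency false
set_option backward.isDefEq.respectTransparency.types false
set_option linter.style.haveILetI false

universe u

open CategoryTheory CategoryTheory.Limits Opposite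

noncomputable section

namespace Groth.Agent.FModLib

variable {C : Type u} [SmallCategory C] {J : GrothendieckTopology C} {O : Sheaf J CommRingCat.{u}}

/-- Locally surjective maps are epimorphisms. -/
theorem epi_of_locally {M N : ModSite.Mod O} (φ : M ⟶ N)
    (hφ : ∀ (W : C) (s : ModSite.sect N W), ∃ S ∈ J W, ∀ ⦃W' : C⦄ (g : W' ⟶ W), S g →
      ∃ t : ModSite.sect M W', φ.val.app (op W') t = N.val.map g.op s) : Epi φ := by
  haveI : Sheaf.IsLocallySurjective ((SheafOfModules.toSheaf _).map φ) :=
    ⟨fun {U} s => by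
      obtain ⟨S, hS, h⟩ := hφ U s
      refine J.superset_covering (fun W' g hg => ?_) hS
      obtain ⟨t, ht⟩ := h g hg
      exact ⟨t, ht⟩⟩
  haveI : Epi ((SheafOfModules.toSheaf _).map φ) :=
    (Sheaf.isLocallySurjective_iff_epi' _ _).mp inferInstance
  exact (SheafOfModules.toSheaf _).epi_of_epi_map inferInstance

variable {T : C} (hT : IsTerminal T) {G : ModSite.Mod O} {n m : ℕ}

open SiteBase

/-- The map out of a finite free module given by sections over a terminal object. -/
def homOf (t : ULift.{u} (Fin n) → ModSite.sect G T) :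
    SheafOfModules.free (R := ModSite.ringSh O) (ULift.{u} (Fin n)) ⟶ G :=
  G.freeHomEquiv.symm fun k => termSection hT G (t k)

theorem homOf_basic (t : ULift.{u} (Fin n) → ModSite.sect G T) (W : C) (k : ULift.{u} (Fin n)) :
    (homOf hT t).val.app (op W) (basicSec O W n k) = G.val.map (hT.from W).op (t k) := by
  exact congrArg (fun s : G.sections => s.val (op W))
    (SheafOfModules.sectionsMap_freeHomEquiv_symm_freeSection (fun k => termSection hT G (t k)) k)

theorem homOf_sum (t : ULift.{u} (Fin n) → ModSite.sect G T) (W : C)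
    (c : ULift.{u} (Fin n) → O.obj.obj (op W)) :
    (homOf hT t).val.app (op W) (∑ k, c k • basicSec O W n k) =
      ∑ k, c k • G.val.map (hT.from W).op (t k) := by
  refine (map_sum ((homOf hT t).val.app (op W)).hom _ _).trans (Finset.sum_congr rfl fun k _ => ?_)
  exact (map_smul ((homOf hT t).val.app (op W)).hom (c k) _).trans (congrArg (c k • ·) (homOf_basic hT t W k))

theorem exists_presentation (t : ULift.{u} (Fin n) → ModSite.sect G T)
    (g : ULift.{u} (Fin m) → ULift.{u} (Fin n) → O.obj.obj (op T))
    (hgen : ∀ (W : C) (s : ModSite.sect G W), ∃ S ∈ J W, ∀ ⦃W' : C⦄ (a : W' ⟶ W), S a →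
      ∃ c : ULift.{u} (Fin n) → O.obj.obj (op W'),
        ∑ k, c k • G.val.map (hT.from W').op (t k) = G.val.map a.op s)
    (hrel0 : ∀ j, ∑ k, g j k • t k = 0)
    (hrel : ∀ (W : C) (c : ULift.{u} (Fin n) → O.obj.obj (op W)),
      ∑ k, c k • G.val.map (hT.from W).op (t k) = 0 → ∃ S ∈ J W, ∀ ⦃W' : C⦄ (a : W' ⟶ W), S a →
        ∃ d : ULift.{u} (Fin m) → O.obj.obj (op W'),
          ∀ k, ∑ j, d j * O.obj.map (hT.from W').op (g j k) = O.obj.map a.op (c k)) :
    ∃ P : G.Presentation, P.IsFinite := by
  let π := homOf hT t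
  let g' : ULift.{u} (Fin m) → ModSite.sect (SheafOfModules.free (R := ModSite.ringSh O) (ULift.{u} (Fin n))) T :=
    fun j => ∑ k, g j k • basicSec O T n k
  let f := homOf hT g'
  have hTT : hT.from T = 𝟙 T := hT.hom_ext _ _
  have hfπ : f ≫ π = 0 := by
    refine free_hom_ext_term hT fun j => ?_
    show π.val.app (op T) (f.val.app (op T) (basicSec O T m j)) = 0
    rw [homOf_basic, hTT, op_id]
    refine Eq.trans (congrArg (π.val.app (op T)) ?_) ((homOf_sum hT t T (g j)).trans ?_)
    · exact congr($((SheafOfModules.free (R := ModSite.ringSh O) (ULift.{u} (Fin n))).val.presheaf.map_id (op T)) (g' j))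
    · refine Eq.trans (Finset.sum_congr rfl fun k _ => ?_) (hrel0 j)
      rw [hTT, op_id]
      exact congrArg (fun z : ModSite.sect G T => g j k • z) (congr($(G.val.presheaf.map_id (op T)) (t k)))
  have hres : ∀ (W : C) (j : ULift.{u} (Fin m)),
      f.val.app (op W) (basicSec O W m j) = ∑ k, O.obj.map (hT.from W).op (g j k) • basicSec O W n k := by
    intro W j
    rw [homOf_basic]
    refine (map_sum ((SheafOfModules.free (R := ModSite.ringSh O) (ULift.{u} (Fin n))).val.map (hT.from W).op).hom _ _).trans
      (Finset.sum_congr rfl fun k _ => ?_)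
    refine (PresheafOfModules.map_smul (R := (ModSite.ringSh O).obj) _ (hT.from W).op (g j k) _).trans ?_
    exact congrArg (fun z : ModSite.sect (SheafOfModules.free (R := ModSite.ringSh O) (ULift.{u} (Fin n))) W =>
      O.obj.map (hT.from W).op (g j k) • z)
      ((SheafOfModules.freeSection (R := ModSite.ringSh O) k).property (hT.from W).op)
  haveI hπ : Epi π := epi_of_locally π fun W s => by
    obtain ⟨S, hS, h⟩ := hgen W s
    refine ⟨S, hS, fun W' a ha => ?_⟩
    obtain ⟨c, hc⟩ := h a ha
    exact ⟨_, (homOf_sum hT t W' c).trans hc⟩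
  haveI : Epi (kernel.lift π f hfπ) := epi_of_locally _ fun W z => by
    let y := (kernel.ι π).val.app (op W) z
    let c : ULift.{u} (Fin n) → O.obj.obj (op W) := toCoords n W y
    have hy : y = ∑ k, c k • basicSec O W n k := eq_sum_basicSec W y
    have hc : ∑ k, c k • G.val.map (hT.from W).op (t k) = 0 := by
      rw [← homOf_sum hT t W c, ← hy]
      exact congrArg (fun ψ : kernel π ⟶ G => ψ.val.app (op W) z) (kernel.condition π)
    obtain ⟨S, hS, h⟩ := hrel W c hc
    refine ⟨S, hS, fun W' a ha => ?_⟩
    obtain ⟨d, hd⟩ := h a ha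
    refine ⟨∑ j, d j • basicSec O W' m j, ?_⟩
    have hinj : Function.Injective ((kernel.ι π).val.app (op W')) := by
      haveI : Mono ((SheafOfModules.evaluation (ModSite.ringSh O) (op W')).map (kernel.ι π)) := inferInstance
      exact (ModuleCat.mono_iff_injective _).mp this
    apply hinj
    refine Eq.trans (congrArg (fun ψ : SheafOfModules.free (R := ModSite.ringSh O) (ULift.{u} (Fin m)) ⟶ _ =>
      ψ.val.app (op W') (∑ j, d j • basicSec O W' m j)) (kernel.lift_ι π f hfπ)) ?_
    refine Eq.trans ?_ (PresheafOfModules.naturality_apply (kernel.ι π).val a.op z).symm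
    show _ = (SheafOfModules.free (R := ModSite.ringSh O) (ULift.{u} (Fin n))).val.map a.op y
    rw [hy, map_sum, map_sum]
    refine Eq.trans (Finset.sum_congr rfl fun j _ => (map_smul (f.val.app (op W')).hom (d j) _).trans
      ((congrArg (d j • ·) (hres W' j)).trans (Finset.smul_sum))) ?_
    rw [Finset.sum_comm]
    refine Finset.sum_congr rfl fun k _ => ?_
    refine Eq.trans ?_ (PresheafOfModules.map_smul (R := (ModSite.ringSh O).obj) _ a.op (c k) _).symm
    have e := (SheafOfModules.freeSection (R := ModSite.ringSh O) k).property a.op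
    rw [show (SheafOfModules.free (R := ModSite.ringSh O) (ULift.{u} (Fin n))).val.map a.op
      (basicSec O W n k) = basicSec O W' n k from e]
    refine Eq.trans (Finset.sum_congr rfl fun j _ => smul_smul (d j) _ _) ?_
    rw [← Finset.sum_smul]
    exact congrArg (· • basicSec O W' n k) (hd k)
  have hex : (ShortComplex.mk f π hfπ).Exact := by
    rw [ShortComplex.exact_iff_epi_kernel_lift]
    infer_instance
  refine ⟨SheafOfModules.presentationOfIsCokernelFree f π hfπ hex.gIsCokernel, ⟨?_, ?_⟩⟩
  · exact ⟨inferInstanceAs (Finite (ULift.{u} (Fin n)))⟩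
  · exact ⟨inferInstanceAs (Finite (ULift.{u} (Fin m)))⟩

end Groth.Agent.FModLib
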