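import Groth.Agent.FModLib.Gen
import Groth.Agent.FModLib.Present
import Mathlib.CategoryTheory.Sites.Spaces
import Mathlib.CategoryTheory.Sites.CoversTop.Basic

/-!
# The module of a coherent system is coherent
-/

set_option backward.isDefEq.respectTransparency false
set_option backward.isDefEq.respectTransparency.types false
set_option linter.style.haveILetI false

universe u

open CategoryTheory CategoryTheory.Limits AlgebraicGeometry TopologicalSpace Opposite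

noncomputable section

namespace Groth.Agent.FModLib

variable {𝔛 : FSch.Sys.{u}} (h𝔛 : 𝔛.IsLocNoethFormal) (𝔐 : FSch.ModSys 𝔛)

theorem sres_sum_smul {ι : Type*} [Fintype ι] {U V : (𝔛.X 0).Opens} (e : V ≤ U) (c : ι → Rng h𝔛 U)
    (t : ι → Sec h𝔛.1 𝔐 U) :
    sres h𝔛 𝔐 e (∑ i, c i • t i) = ∑ i, rres h𝔛 e (c i) • sres h𝔛 𝔐 e (t i) := by
  refine (map_sum ((𝔐.realMod h𝔛.1).val.map (homOfLE e).op).hom _ _).trans (Finset.sum_congr rfl fun i _ => ?_)
  exact PresheafOfModules.map_smul (R := (ModSite.ringSh (𝔛.Osh h𝔛.1)).obj) _ (homOfLE e).op (c i) (t i)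

/-- The sieve of the opens lying in some basic open. -/
def basicSieve (U : (𝔛.X 0).Opens) (W : Over U) : Sieve W where
  arrows W' _ := ∃ r : Rng h𝔛 U, W'.left ≤ basic h𝔛.1 U r ∧ basic h𝔛.1 U r ≤ W.left
  downward_closed := fun {Y Z f} ⟨r, hr, hr'⟩ a => ⟨r, a.left.le.trans hr, hr'⟩

theorem basicSieve_mem {U : (𝔛.X 0).Opens} (hU : IsAffineOpen U) (W : Over U) :
    basicSieve h𝔛 U W ∈ (Opens.grothendieckTopology (𝔛.X 0).carrier).over U W := by
  rw [GrothendieckTopology.mem_over_iff]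
  intro x hx
  obtain ⟨r, hxr, hr⟩ := exists_basic h𝔛.1 hU (W := W.left) x (W.hom.le hx) hx
  exact ⟨basic h𝔛.1 U r, homOfLE hr, (Sieve.overEquiv_iff _ _).mpr ⟨r, le_rfl, hr⟩, hxr⟩

/-- A presentation over an affine open. -/
theorem exists_presentation_over (h𝔐 : 𝔐.IsCoh) {U : (𝔛.X 0).Opens} (hU : IsAffineOpen U) :
    ∃ P : ((𝔐.realMod h𝔛.1).over U).Presentation, P.IsFinite := by
  obtain ⟨n, m, t, g, hrel0, -, hgen, hrel⟩ := affGen h𝔛 𝔐 h𝔐 hU
  refine exists_presentation (C := Over U) (O := (𝔛.Osh h𝔛.1).over U) (T := Over.mk (𝟙 U))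
    (G := (ModSite.restr (𝔛.Osh h𝔛.1) U).obj (𝔐.realMod h𝔛.1)) Over.mkIdTerminal t g
    (fun W s => ⟨basicSieve h𝔛 U W, basicSieve_mem h𝔛 hU W, ?_⟩) hrel0
    (fun W c hc => ⟨basicSieve h𝔛 U W, basicSieve_mem h𝔛 hU W, ?_⟩)
  · intro W' a ha
    obtain ⟨r, hr, hr'⟩ := ha
    obtain ⟨c₀, hc₀⟩ := hgen r (sres h𝔛 𝔐 hr' s)
    refine ⟨fun i => rres h𝔛 hr (c₀ i), ?_⟩
    show ∑ i, rres h𝔛 hr (c₀ i) • sres h𝔛 𝔐 W'.hom.le (t i) = sres h𝔛 𝔐 a.left.le s
    have h1 := congrArg (sres h𝔛 𝔐 hr) hc₀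
    rw [sres_sum_smul, sres_sres] at h1
    simp only [sres_sres] at h1
    exact h1
  · intro W' a ha
    obtain ⟨r, hr, hr'⟩ := ha
    have hc' : ∑ i, c i • sres h𝔛 𝔐 W.hom.le (t i) = 0 := hc
    obtain ⟨d, hd⟩ := hrel r (fun i => rres h𝔛 hr' (c i)) (by
      have h1 := congrArg (sres h𝔛 𝔐 hr') hc'
      rw [sres_sum_smul] at h1
      simp only [sres_sres] at h1
      exact h1.trans (map_zero ((𝔐.realMod h𝔛.1).val.map (homOfLE hr').op).hom))
    refine ⟨fun j => rres h𝔛 hr (d j), fun i => ?_⟩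
    show ∑ j, rres h𝔛 hr (d j) * rres h𝔛 W'.hom.le (g j i) = rres h𝔛 a.left.le (c i)
    have h1 := congrArg (rres h𝔛 hr) (hd i)
    simp only [map_sum, map_mul, rres_rres] at h1
    exact h1

/-- The module of a coherent system is coherent. -/
theorem isCohF_realMod (h𝔐 : 𝔐.IsCoh) : FSch.IsCohF 𝔛 h𝔛.1 (𝔐.realMod h𝔛.1) := by
  choose V hV hxV hle using fun x : (𝔛.X 0) => (show ∃ V : (𝔛.X 0).Opens, IsAffineOpen V ∧ x ∈ V ∧ True by
    obtain ⟨_, ⟨V, hV, rfl⟩, hxV, -⟩ :=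
      (𝔛.X 0).isBasis_affineOpens.exists_subset_of_mem_open (Set.mem_univ x) isOpen_univ
    exact ⟨V, hV, hxV, trivial⟩)
  choose P hP using fun x => exists_presentation_over h𝔛 𝔐 h𝔐 (hV x)
  have hcov : (Opens.grothendieckTopology (𝔛.X 0).carrier).CoversTop V :=
    (_root_.Opens.coversTop_iff _ V).mpr (eq_top_iff.mpr fun x _ => Opens.mem_iSup.mpr ⟨x, hxV x⟩)
  let σ :=
    SheafOfModules.QuasicoherentData.mk (M := 𝔐.realMod h𝔛.1) (↥(𝔛.X 0)) V hcov P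
  have hσ : σ.IsFinitePresentation := by constructor; exact hP
  constructor
  exact ⟨σ, hσ⟩

end Groth.Agent.FModLib
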