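import Groth.Agent.FModLib.ToScheme
import Groth.Agent.FComplLib.AffSysCompl

/-!
# The inverse image to a completion is the completed module
-/

set_option backward.isDefEq.respectTransparency false
set_option backward.isDefEq.respectTransparency.types false
set_option linter.style.haveILetI false

universe u

open CategoryTheory CategoryTheory.Limits AlgebraicGeometry TopologicalSpace Opposite

noncomputable section

namespace Groth.Agent.FModLib

theorem complMod_eq_sysOf {X : Scheme.{u}} (𝓘 : X.IdealSheafData) (F : X.Modules) :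
    FSch.complMod 𝓘 F = sysOf (FSch.completionToX X 𝓘) (FSch.completionToX_comm X 𝓘) F := by
  delta FSch.complMod sysOf
  simp only [FSch.complTransIso, FComplLib.trans_app']

theorem exists_pull_iso_of_eq {X : Scheme.{u}} [IsLocallyNoetherian X] (𝓘 : X.IdealSheafData)
    (h : (FSch.completionAlong X 𝓘).IsFormal) (F : X.Modules) (hF : Coh.IsCoh F)
    (t : ∀ n, (sysOf (FSch.completionToX X 𝓘) (FSch.completionToX_comm X 𝓘) F).F (n + 1) ⟶
      (Scheme.Modules.pushforward ((FSch.completionAlong X 𝓘).ι n)).obj
        ((sysOf (FSch.completionToX X 𝓘) (FSch.completionToX_comm X 𝓘) F).F n))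
    (ht : t = (sysOf (FSch.completionToX X 𝓘) (FSch.completionToX_comm X 𝓘) F).toPush) :
    ∃ e : (toY h (FSch.completionToX X 𝓘) (FSch.completionToX_comm X 𝓘)).pull.obj F ≅
        FSch.realLim (FSch.completionAlong X 𝓘) h (sysOf (FSch.completionToX X 𝓘) (FSch.completionToX_comm X 𝓘) F).F t,
      ∀ k, ((toY h (FSch.completionToX X 𝓘) (FSch.completionToX_comm X 𝓘)).adj.homEquiv _ _ e.hom) ≫
          (toY h (FSch.completionToX X 𝓘) (FSch.completionToX_comm X 𝓘)).push.map
            (FSch.realProj (FSch.completionAlong X 𝓘) h (sysOf (FSch.completionToX X 𝓘) (FSch.completionToX_comm X 𝓘) F).F t k) =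
        (Scheme.Modules.pullbackPushforwardAdjunction (FSch.completionToX X 𝓘 k)).unit.app F ≫
          (FSch.schPushCompare (FSch.completionAlong X 𝓘) h (FSch.completionToX X 𝓘) (FSch.completionToX_comm X 𝓘) k).app _ := by
  subst ht
  have hL := FComplLib.isLocNoethFormal_completionAlong 𝓘
  haveI := isIso_gamma (FSch.completionToX X 𝓘) (FSch.completionToX_comm X 𝓘) F hL hF
  exact ⟨asIso (gamma h (FSch.completionToX X 𝓘) (FSch.completionToX_comm X 𝓘) F),
    homEquiv_gamma h (FSch.completionToX X 𝓘) (FSch.completionToX_comm X 𝓘) F⟩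

theorem complMod_toPush {X : Scheme.{u}} (𝓘 : X.IdealSheafData) (F : X.Modules) :
    (FSch.complMod 𝓘 F).toPush = (sysOf (FSch.completionToX X 𝓘) (FSch.completionToX_comm X 𝓘) F).toPush :=
  eq_of_heq (congr_arg_heq FSch.ModSys.toPush (complMod_eq_sysOf 𝓘 F))

end Groth.Agent.FModLib
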