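import Groth.Agent.FModLib.ComplIso
import Groth.Agent.AmpleVan.ThickPush
import Groth.Agent.Algz7.ProperSupp
import Groth.Agent.Algz7.AlgInvertible
import Groth.Agent.FComplLib.Sys
import Groth.Agent.FComplLib.AffSysMod

/-!
# Systems of modules on the thickenings and coherent formal modules
-/

set_option backward.isDefEq.respectTransparency false
set_option backward.isDefEq.respectTransparency.types false
set_option linter.style.haveILetI false

universe u

open CategoryTheory CategoryTheory.Limits AlgebraicGeometry TopologicalSpace Opposite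

noncomputable section

namespace Groth.Agent.FModLib

open Groth.Agent

variable {A : Type u} [CommRing A] {X : Scheme.{u}} [X.Over (Spec (CommRingCat.of A))]

theorem comap_idealSpec_eq (J : Ideal A) :
    (FSch.idealSpec A J).comap (X ↘ Spec (CommRingCat.of A)) = Algz7.baseIdeal J := by
  ext1
  funext U
  rw [ModPairLib.ideal_comap _ _ ⟨⊤, isAffineOpen_top _⟩ U (fun _ _ => trivial),
    FComplLib.AffData.idealSpec_ideal_top, Ideal.map_map]
  rfl

/-- The unit to a closed subscheme cut out by an ideal of the base is the quotient by this ideal. -/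
theorem isQuot_unit {Z : Scheme.{u}} (i : Z ⟶ X) [IsClosedImmersion i] {J : Ideal A}
    (hk : i.ker = Algz7.baseIdeal J) {M : X.Modules} (hM : Coh.IsQCoh M) :
    Algz7.IsQuot J ((Scheme.Modules.pullbackPushforwardAdjunction i).unit.app M) := by
  let η := (Scheme.Modules.pullbackPushforwardAdjunction i).unit.app M
  let P := (Scheme.Modules.pushforward i).obj ((Scheme.Modules.pullback i).obj M)
  have hU : ∀ U : X.affineOpens, i.ker.ideal U = J.map (AmpleVan.scal A U.1) := fun U => by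
    rw [hk]; rfl
  have h0 : Formal.smulFamily J M ≫ η = 0 := by
    refine Sigma.hom_ext _ _ fun a => ?_
    rw [comp_zero, ← Category.assoc]
    refine (congrArg (· ≫ η) (Sigma.ι_desc _ _)).trans ?_
    refine QCoh.hom_ext_app fun U s => ?_
    refine TopCat.Sheaf.eq_of_locally_eq' ⟨P.presheaf, P.isSheaf⟩
      (fun V : {V : X.affineOpens // V.1 ≤ U} => V.1.1) U (fun V => homOfLE V.2) (fun z hz => ?_) _ _ fun V => ?_
    · obtain ⟨_, ⟨W, hW, rfl⟩, hzW, hWU⟩ := X.isBasis_affineOpens.exists_subset_of_mem_open hz U.isOpen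
      exact Opens.mem_iSup.2 ⟨⟨⟨W, hW⟩, hWU⟩, hzW⟩
    · refine ((QCoh.map_app_comm (Formal.smulMod A M a.1 ≫ η) (homOfLE V.2) s).symm.trans ?_).trans (map_zero _).symm
      refine (((QCoh.unit_app_closed i hM V.1.2).2 _).2 ?_)
      refine Submodule.smul_mem_smul ?_ Submodule.mem_top
      rw [hU]
      exact Ideal.mem_map_of_mem _ a.2
  refine ⟨h0, ?_⟩
  have hC : Coh.IsQCoh (cokernel (Formal.smulFamily J M)) :=
    QCoh.isQCoh_cokernel (QCoh.isQCoh_colimit (Discrete.functor fun _ : J => M) fun _ => hM) hM _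
  refine QCoh.isIso_of_isBasis _ X.isBasis_affineOpens fun U hUa => ?_
  have hπ : Function.Surjective ((cokernel.π (Formal.smulFamily J M)).app U) :=
    QCoh.app_surjective_of_epi hM hC _ hUa
  have hd : ∀ m, (cokernel.desc _ _ h0).app U ((cokernel.π (Formal.smulFamily J M)).app U m) = η.app U m :=
    fun m => congr(($(cokernel.π_desc _ _ h0)).app U m)
  refine ⟨(injective_iff_map_eq_zero _).2 fun y hy => ?_, fun z => ?_⟩
  · obtain ⟨m, rfl⟩ := hπ y
    replace hy := (hd m).symm.trans hy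
    have hm := ((QCoh.unit_app_closed i hM hUa).2 m).1 hy
    rw [hU ⟨U, hUa⟩] at hm
    refine Submodule.smul_induction_on hm (fun b hb n _ => ?_) (fun m m' h h' => ?_)
    · rw [Scheme.Modules.Hom.app_smul]
      exact AmpleVan.smul_eq_zero_of_killed (fun a ha => FFun.mem_killIdeal.1 (FFun.le_killIdeal_modJ J M ha)) hb _
    · rw [map_add, h, h', add_zero]
  · obtain ⟨m, rfl⟩ := (QCoh.unit_app_closed i hM hUa).1 z
    exact ⟨_, hd m⟩

theorem pullbackCongr_hom_hom {P Q : Scheme.{u}} {f g : P ⟶ Q} (e : f = g) (e' : g = f) (M : Q.Modules) :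
    (Scheme.Modules.pullbackCongr e).hom.app M ≫ (Scheme.Modules.pullbackCongr e').hom.app M = 𝟙 _ := by
  subst e; simp [Scheme.Modules.pullbackCongr]

theorem isQuot_comp_iso {J : Ideal A} {M N N' : X.Modules} {g : M ⟶ N} (hg : Algz7.IsQuot J g) (θ : N ⟶ N')
    [IsIso θ] : Algz7.IsQuot J (g ≫ θ) := by
  obtain ⟨h, hi⟩ := hg
  refine ⟨by rw [← Category.assoc, h, zero_comp], ?_⟩
  haveI := hi
  rw [show cokernel.desc _ (g ≫ θ) _ = cokernel.desc _ g h ≫ θ from by
    rw [← cancel_epi (cokernel.π (Formal.smulFamily J M)), cokernel.π_desc, cokernel.π_desc_assoc]]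
  infer_instance

section General

variable {𝔛 : FSch.Sys.{u}} (p : ∀ n, 𝔛.X n ⟶ X) (hp : ∀ n, 𝔛.ι n ≫ p (n + 1) = p n)

/-- The comparison of the inverse images to level `n` and, through level `n+1`, to level `n`. -/
def wNat (n : ℕ) :
    Scheme.Modules.pullback (p n) ⟶ Scheme.Modules.pullback (p (n + 1)) ⋙ Scheme.Modules.pullback (𝔛.ι n) :=
  (Scheme.Modules.pullbackCongr (hp n).symm).hom ≫ (Scheme.Modules.pullbackComp (𝔛.ι n) (p (n + 1))).inv

instance isIso_wNat_app (n : ℕ) (F : X.Modules) : IsIso ((wNat p hp n).app F) := by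
  unfold wNat; infer_instance

/-- Pulling back to level `n` a direct image from level `n+1`. -/
def thetaNat (n : ℕ) :
    Scheme.Modules.pushforward (p (n + 1)) ⋙ Scheme.Modules.pullback (p n) ⟶ Scheme.Modules.pullback (𝔛.ι n) :=
  Functor.whiskerLeft _ (wNat p hp n) ≫
    Functor.whiskerRight (Scheme.Modules.pullbackPushforwardAdjunction (p (n + 1))).counit
      (Scheme.Modules.pullback (𝔛.ι n))

theorem thetaNat_app (n : ℕ) (M : (𝔛.X (n + 1)).Modules) :
    (thetaNat p hp n).app M = (wNat p hp n).app _ ≫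
      (Scheme.Modules.pullback (𝔛.ι n)).map ((Scheme.Modules.pullbackPushforwardAdjunction (p (n + 1))).counit.app M) :=
  rfl

theorem theta_unit (n : ℕ) (F : X.Modules) {N : (𝔛.X (n + 1)).Modules}
    (α : (Scheme.Modules.pullback (p (n + 1))).obj F ⟶ N) :
    (Scheme.Modules.pullback (p n)).map
        ((Scheme.Modules.pullbackPushforwardAdjunction (p (n + 1))).homEquiv _ _ α) ≫ (thetaNat p hp n).app N =
      (wNat p hp n).app F ≫ (Scheme.Modules.pullback (𝔛.ι n)).map α := by
  let adj := Scheme.Modules.pullbackPushforwardAdjunction (p (n + 1))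
  rw [thetaNat_app]
  refine (Category.assoc _ _ _).symm.trans ((congrArg (· ≫ _) ((wNat p hp n).naturality (adj.homEquiv _ _ α))).trans ?_)
  refine (Category.assoc _ _ _).trans ?_
  refine congrArg ((wNat p hp n).app F ≫ ·) ?_
  refine ((Scheme.Modules.pullback (𝔛.ι n)).map_comp _ _).symm.trans ?_
  exact congrArg _ ((adj.homEquiv_counit _ _ _).symm.trans (Equiv.symm_apply_apply _ _))

/-- The transition maps on `X` of a system of modules on the levels. -/
def rho (𝔐 : FSch.ModSys 𝔛) (n : ℕ) :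
    (Scheme.Modules.pushforward (p (n + 1))).obj (𝔐.F (n + 1)) ⟶ (Scheme.Modules.pushforward (p n)).obj (𝔐.F n) :=
  (Scheme.Modules.pullbackPushforwardAdjunction (p n)).unit.app _ ≫
    (Scheme.Modules.pushforward (p n)).map ((thetaNat p hp n).app (𝔐.F (n + 1)) ≫ (𝔐.e n).hom)

/-- The system of direct images on `X`. -/
def pushSys (𝔐 : FSch.ModSys 𝔛) : ℕᵒᵖ ⥤ X.Modules :=
  Functor.ofOpSequence (X := fun n => (Scheme.Modules.pushforward (p n)).obj (𝔐.F n)) (rho p hp 𝔐)

theorem pushSys_succ (𝔐 : FSch.ModSys 𝔛) (n : ℕ) :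
    (pushSys p hp 𝔐).map (homOfLE (Nat.le_succ n)).op = rho p hp 𝔐 n :=
  Functor.ofOpSequence_map_homOfLE_succ _ n

theorem rho_nat {𝔐 𝔑 : FSch.ModSys 𝔛} (Φ : 𝔐 ⟶ 𝔑) (n : ℕ) :
    rho p hp 𝔐 n ≫ (Scheme.Modules.pushforward (p n)).map (Φ.app n) =
      (Scheme.Modules.pushforward (p (n + 1))).map (Φ.app (n + 1)) ≫ rho p hp 𝔑 n := by
  have h1 : ((thetaNat p hp n).app (𝔐.F (n + 1)) ≫ (𝔐.e n).hom) ≫ Φ.app n =
      (Scheme.Modules.pullback (p n)).map ((Scheme.Modules.pushforward (p (n + 1))).map (Φ.app (n + 1))) ≫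
        (thetaNat p hp n).app (𝔑.F (n + 1)) ≫ (𝔑.e n).hom := by
    refine (Category.assoc _ _ _).trans ((congrArg (_ ≫ ·) (Φ.comm n).symm).trans ?_)
    refine (Category.assoc _ _ _).symm.trans ((congrArg (· ≫ _) ((thetaNat p hp n).naturality _).symm).trans ?_)
    exact Category.assoc _ _ _
  have h2 := (Scheme.Modules.pullbackPushforwardAdjunction (p n)).unit.naturality
    ((Scheme.Modules.pushforward (p (n + 1))).map (Φ.app (n + 1)))
  rw [rho, rho, Category.assoc, ← Functor.map_comp, h1, Functor.map_comp]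
  exact ((Category.assoc _ _ _).symm.trans (congrArg (· ≫ _) h2.symm)).trans (Category.assoc _ _ _)

theorem rho_homEquiv (𝔐 : FSch.ModSys 𝔛) (n : ℕ) (F : X.Modules)
    (α : (Scheme.Modules.pullback (p (n + 1))).obj F ⟶ 𝔐.F (n + 1)) :
    (Scheme.Modules.pullbackPushforwardAdjunction (p (n + 1))).homEquiv _ _ α ≫ rho p hp 𝔐 n =
      (Scheme.Modules.pullbackPushforwardAdjunction (p n)).homEquiv _ _
        ((wNat p hp n).app F ≫ (Scheme.Modules.pullback (𝔛.ι n)).map α ≫ (𝔐.e n).hom) := by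
  rw [← Category.assoc ((wNat p hp n).app F), ← theta_unit, Category.assoc, Adjunction.homEquiv_naturality_left, rho,
    Adjunction.homEquiv_unit, Adjunction.homEquiv_unit]
  rfl

theorem wNat_sysOf_e (n : ℕ) (F : X.Modules) : (wNat p hp n).app F ≫ ((sysOf p hp F).e n).hom = 𝟙 _ := by
  show _ ≫ ((Scheme.Modules.pullbackComp (𝔛.ι n) (p (n + 1))).app F ≪≫ (Scheme.Modules.pullbackCongr (hp n)).app F).hom = 𝟙 _
  rw [wNat, Iso.trans_hom, Iso.app_hom, Iso.app_hom, NatTrans.comp_app, Category.assoc, Iso.inv_hom_id_app_assoc]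
  exact pullbackCongr_hom_hom (hp n).symm _ F

theorem sysOf_e_wNat (n : ℕ) (F : X.Modules) : ((sysOf p hp F).e n).hom ≫ (wNat p hp n).app F = 𝟙 _ :=
  (cancel_mono ((sysOf p hp F).e n).hom).1
    (((Category.assoc _ _ _).trans ((congrArg (_ ≫ ·) (wNat_sysOf_e p hp n F)).trans (Category.comp_id _))).trans
      (Category.id_comp _).symm)

theorem rho_sysOf_unit (F : X.Modules) (n : ℕ) :
    (Scheme.Modules.pullbackPushforwardAdjunction (p (n + 1))).unit.app F ≫ rho p hp (sysOf p hp F) n =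
      (Scheme.Modules.pullbackPushforwardAdjunction (p n)).unit.app F := by
  have := rho_homEquiv p hp (sysOf p hp F) n F (𝟙 _)
  have he := wNat_sysOf_e p hp n F
  erw [Adjunction.homEquiv_id, CategoryTheory.Functor.map_id, Category.id_comp, he, Adjunction.homEquiv_id] at this
  exact this

/-- A map of systems of direct images. -/
def pushSysMap {𝔐 𝔑 : FSch.ModSys 𝔛} (Φ : 𝔐 ⟶ 𝔑) : pushSys p hp 𝔐 ⟶ pushSys p hp 𝔑 :=
  NatTrans.ofOpSequence (fun n => (Scheme.Modules.pushforward (p n)).map (Φ.app n)) fun n => by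
    rw [pushSys_succ, pushSys_succ]
    exact rho_nat p hp Φ n

theorem pushSysMap_app {𝔐 𝔑 : FSch.ModSys 𝔛} (Φ : 𝔐 ⟶ 𝔑) (n : ℕ) :
    (pushSysMap p hp Φ).app (op n) = (Scheme.Modules.pushforward (p n)).map (Φ.app n) := rfl

theorem isCohFormal_pushSys [IsLocallyNoetherian X] (h𝔛 : ∀ n, IsLocallyNoetherian (𝔛.X n))
    [∀ n, IsClosedImmersion (p n)] {I : Ideal A} (hk : ∀ n, (p n).ker = Algz7.baseIdeal (I ^ (n + 1)))
    (𝔐 : FSch.ModSys 𝔛) (h𝔐 : 𝔐.IsCoh) : Formal.IsCohFormal I (pushSys p hp 𝔐) := by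
  have hG : ∀ n, Coh.IsCoh ((Scheme.Modules.pushforward (p n)).obj (𝔐.F n)) := fun n => by
    haveI := h𝔛 n
    exact QCoh.isCoh_pushforward_finite (p n) (h𝔐 n)
  have hq : ∀ n, Algz7.IsQuot (I ^ (n + 1)) (rho p hp 𝔐 n) := fun n => by
    haveI := AmpleVan.isIso_counit (p (n + 1)) (h𝔐 (n + 1)).1
    haveI : IsIso ((thetaNat p hp n).app (𝔐.F (n + 1))) := by rw [thetaNat_app]; infer_instance
    exact isQuot_comp_iso (isQuot_unit (p n) (hk n) (hG (n + 1)).1) _
  exact ⟨hG, fun n => Algz7.killedBy_of_isQuot (hq n), fun n => by rw [pushSys_succ]; exact hq n⟩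

variable [∀ n, IsClosedImmersion (p n)] {I : Ideal A} (hk : ∀ n, (p n).ker = Algz7.baseIdeal (I ^ (n + 1)))

include hk in
/-- The completion as a system on `X`. -/
theorem exists_completion_iso {F : X.Modules} (hF : Coh.IsQCoh F) :
    ∃ e : Formal.completion I F ≅ pushSys p hp (sysOf p hp F),
      ∀ n, Formal.modPowπ I (n + 1) F ≫ e.hom.app (op n) =
        (Scheme.Modules.pullbackPushforwardAdjunction (p n)).unit.app F := by
  choose h hi using fun n => isQuot_unit (p n) (hk n) hF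
  haveI := hi
  have hπ : ∀ n, Formal.modPowπ I (n + 1) F ≫ cokernel.desc _ _ (h n) =
      (Scheme.Modules.pullbackPushforwardAdjunction (p n)).unit.app F := fun n => cokernel.π_desc _ _ _
  let η : Formal.completion I F ⟶ pushSys p hp (sysOf p hp F) :=
    NatTrans.ofOpSequence (fun n => cokernel.desc _ _ (h n)) fun n => by
      rw [Algz7.completion_map_succ, pushSys_succ]
      haveI := (Algz7.isQuot_modPowπ I (n + 1 + 1) F).epi
      rw [← cancel_epi (Formal.modPowπ I (n + 1 + 1) F)]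
      refine (Category.assoc _ _ _).symm.trans ((congrArg (· ≫ _) (Formal.modPowπ_trans I (n + 1) F)).trans ?_)
      refine (hπ n).trans (Eq.trans ?_ (Category.assoc _ _ _))
      exact (rho_sysOf_unit p hp F n).symm.trans (congrArg (· ≫ _) (hπ (n + 1)).symm)
  haveI : ∀ n : ℕᵒᵖ, IsIso (η.app n) := fun n => hi n.unop
  haveI : IsIso η := NatIso.isIso_of_isIso_app η
  exact ⟨asIso η, hπ⟩

include hk in
/-- Maps of systems are given by maps of the systems of quotients. -/
theorem exists_hom_of_sysHom {M N : X.Modules} (hM : Coh.IsQCoh M) (hN : Coh.IsQCoh N)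
    (Φ : sysOf p hp M ⟶ sysOf p hp N) :
    ∃ ψ : Formal.completion I M ⟶ Formal.completion I N, ∀ φ : M ⟶ N,
      (∀ n, Formal.modPowπ I (n + 1) M ≫ ψ.app (op n) = φ ≫ Formal.modPowπ I (n + 1) N) →
        ∀ n, Φ.app n = (Scheme.Modules.pullback (p n)).map φ := by
  obtain ⟨eM, hM'⟩ := exists_completion_iso p hp hk hM
  obtain ⟨eN, hN'⟩ := exists_completion_iso p hp hk hN
  refine ⟨eM.hom ≫ pushSysMap p hp Φ ≫ eN.inv, fun φ hφ n => ?_⟩
  let adj := Scheme.Modules.pullbackPushforwardAdjunction (p n)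
  apply (adj.homEquiv _ _).injective
  have h1 := hφ n
  rw [NatTrans.comp_app, NatTrans.comp_app, pushSysMap_app, ← Category.assoc, hM'] at h1
  have h2 := congrArg (· ≫ eN.hom.app (op n)) h1
  simp only [Category.assoc, Iso.inv_hom_id_app, Category.comp_id, hN'] at h2
  rw [Adjunction.homEquiv_unit, Adjunction.homEquiv_unit]
  refine h2.trans ?_
  exact adj.unit.naturality φ

include hk in
/-- A system isomorphic on `X` to a completion is the system of inverse images. -/
theorem nonempty_iso_sysOf {M : X.Modules} (hM : Coh.IsQCoh M) (𝔐 : FSch.ModSys 𝔛) (h𝔐 : 𝔐.IsCoh)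
    (c : Formal.completion I M ≅ pushSys p hp 𝔐) :
    ∃ a : ∀ n, (sysOf p hp M).F n ≅ 𝔐.F n,
      ∀ n, (Scheme.Modules.pullback (𝔛.ι n)).map (a (n + 1)).hom ≫ (𝔐.e n).hom = ((sysOf p hp M).e n).hom ≫ (a n).hom := by
  obtain ⟨eM, hM'⟩ := exists_completion_iso p hp hk hM
  let adj := fun n => Scheme.Modules.pullbackPushforwardAdjunction (p n)
  let α : ∀ n, (Scheme.Modules.pullback (p n)).obj M ⟶ 𝔐.F n :=
    fun n => ((adj n).homEquiv _ _).symm (Formal.modPowπ I (n + 1) M ≫ c.hom.app (op n))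
  have hα : ∀ n, (adj n).homEquiv _ _ (α n) = Formal.modPowπ I (n + 1) M ≫ c.hom.app (op n) :=
    fun n => Equiv.apply_symm_apply _ _
  have hiso : ∀ n, IsIso (α n) := fun n => by
    haveI : IsIso ((Scheme.Modules.pushforward (p n)).map (α n)) := by
      have : (Scheme.Modules.pushforward (p n)).map (α n) = (eM.inv ≫ c.hom).app (op n) := by
        haveI : Epi ((adj n).unit.app M) := (isQuot_unit (p n) (hk n) hM).epi
        refine (cancel_epi ((adj n).unit.app M)).1 ?_
        refine ((((adj n).homEquiv_unit _ _ _).symm.trans (hα n)).trans ?_).trans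
          (congrArg (· ≫ (eM.inv ≫ c.hom).app (op n)) (hM' n))
        rw [NatTrans.comp_app, Category.assoc, Iso.hom_inv_id_app_assoc]
      rw [this]
      infer_instance
    exact AmpleVan.isIso_of_push (p n) (α n)
  refine ⟨fun n => haveI := hiso n; asIso (α n), fun n => ?_⟩
  have h1 : α n = (wNat p hp n).app M ≫ (Scheme.Modules.pullback (𝔛.ι n)).map (α (n + 1)) ≫ (𝔐.e n).hom := by
    apply ((adj n).homEquiv _ _).injective
    refine (hα n).trans (Eq.trans ?_ (rho_homEquiv p hp 𝔐 n M (α (n + 1))))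
    refine Eq.trans ?_ (congrArg (· ≫ _) (hα (n + 1))).symm
    have hc := c.hom.naturality (homOfLE (Nat.le_succ n)).op
    rw [Algz7.completion_map_succ, pushSys_succ] at hc
    refine Eq.trans ?_ ((congrArg (Formal.modPowπ I (n + 1 + 1) M ≫ ·) hc).trans (Category.assoc _ _ _).symm)
    exact (congrArg (· ≫ _) (Formal.modPowπ_trans I (n + 1) M)).symm.trans (Category.assoc _ _ _)
  refine Eq.trans ?_ (congrArg (((sysOf p hp M).e n).hom ≫ ·) h1.symm)
  refine Eq.trans ?_ (Category.assoc _ _ _)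
  have he := sysOf_e_wNat p hp n M
  exact ((congrArg (· ≫ _) he).trans (Category.id_comp _)).symm

end General

variable {I : Ideal A} {𝓘 : X.IdealSheafData}

theorem ker_completionToX (h𝓘 : 𝓘 = (FSch.idealSpec A I).comap (X ↘ Spec (CommRingCat.of A))) (n : ℕ) :
    (FSch.completionToX X 𝓘 n).ker = Algz7.baseIdeal (I ^ (n + 1)) := by
  rw [Scheme.IdealSheafData.ker_subschemeι, h𝓘, comap_idealSpec_eq, Algz7.baseIdeal_pow]

end Groth.Agent.FModLib
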