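import Groth.Agent.FModLib.LevelPres

/-!
# The system of levels of a module on a formal scheme
-/

set_option backward.isDefEq.respectTransparency false
set_option backward.isDefEq.respectTransparency.types false
set_option linter.style.haveILetI false

universe u

open CategoryTheory CategoryTheory.Limits AlgebraicGeometry TopologicalSpace Opposite

noncomputable section

namespace Groth.Agent.FModLib

variable {𝔛 : FSch.Sys.{u}} (h : 𝔛.IsFormal) (𝔉 : FSch.ModF 𝔛 h)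

/-- The adjunct transition between levels. -/
def levStep (k : ℕ) :
    lev h (k + 1) 𝔉 ⟶ (Scheme.Modules.pushforward (𝔛.ι k)).obj (lev h k 𝔉) :=
  ((FSch.levelMor 𝔛 h (k + 1)).adj.homEquiv _ _).symm
    ((FSch.levelMor 𝔛 h k).adj.unit.app 𝔉 ≫ (FSch.pushCompareInv 𝔛 h k).app (lev h k 𝔉))

theorem isIso_levStep (k : ℕ) :
    IsIso (((Scheme.Modules.pullbackPushforwardAdjunction (𝔛.ι k)).homEquiv _ _).symm (levStep h 𝔉 k)) := by
  refine isIso_of_coyoneda_map_bijective _ fun N => ?_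
  let adjι := Scheme.Modules.pullbackPushforwardAdjunction (𝔛.ι k)
  let adj := (FSch.levelMor 𝔛 h k).adj
  let adj' := (FSch.levelMor 𝔛 h (k + 1)).adj
  haveI : IsIso ((FSch.pushCompareInv 𝔛 h k).app N) :=
    ⟨(FSch.pushCompare 𝔛 h k).app N, FSch.pushCompareInv_pushCompare 𝔛 h k N,
      FSch.pushCompare_pushCompareInv 𝔛 h k N⟩
  have key : ∀ φ : lev h k 𝔉 ⟶ N,
      adj'.homEquiv _ _ (adjι.homEquiv _ _ ((adjι.homEquiv _ _).symm (levStep h 𝔉 k) ≫ φ)) =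
        adj.homEquiv _ _ φ ≫ (FSch.pushCompareInv 𝔛 h k).app N := by
    intro φ
    rw [Adjunction.homEquiv_naturality_right, Equiv.apply_symm_apply, Adjunction.homEquiv_naturality_right,
      levStep, Equiv.apply_symm_apply, Adjunction.homEquiv_unit, Category.assoc, Category.assoc]
    exact congrArg (adj.unit.app 𝔉 ≫ ·) ((FSch.pushCompareInv 𝔛 h k).naturality φ).symm
  refine ⟨fun φ φ' e => ?_, fun ξ => ?_⟩
  · have e' := congrArg (fun f => adj'.homEquiv _ _ (adjι.homEquiv _ _ f)) e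
    exact (adj.homEquiv _ _).injective ((cancel_mono _).mp ((key φ).symm.trans (e'.trans (key φ'))))
  · refine ⟨(adj.homEquiv _ _).symm (adj'.homEquiv _ _ (adjι.homEquiv _ _ ξ) ≫
      inv ((FSch.pushCompareInv 𝔛 h k).app N)), ?_⟩
    refine (adjι.homEquiv _ _).injective ((adj'.homEquiv _ _).injective ((key _).trans ?_))
    rw [Equiv.apply_symm_apply, Category.assoc, IsIso.inv_hom_id, Category.comp_id]

/-- The system of levels. -/
def levSys : FSch.ModSys 𝔛 where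
  F k := lev h k 𝔉
  e k := @asIso _ _ _ _ _ (isIso_levStep h 𝔉 k)

theorem toPush_levSys (k : ℕ) : (levSys h 𝔉).toPush k = levStep h 𝔉 k := by
  simp only [FSch.ModSys.toPush, levSys, asIso_hom]
  exact Equiv.apply_symm_apply _ _

theorem levelTrans_eq (k : ℕ) :
    (FSch.levelMor 𝔛 h (k + 1)).push.map ((levSys h 𝔉).toPush k) ≫ (FSch.pushCompare 𝔛 h k).app ((levSys h 𝔉).F k) =
      FSch.levelTrans 𝔛 h 𝔉 k := by
  rw [toPush_levSys]
  rfl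

/-- The cone of units. -/
def toRealCone : Cone (FSch.levelSysOf 𝔛 h (levSys h 𝔉).F (levSys h 𝔉).toPush) where
  pt := 𝔉
  π := NatTrans.ofOpSequence (fun k => (FSch.levelMor 𝔛 h k).adj.unit.app 𝔉) fun k => by
    rw [FSch.levelSysOf_map_succ, levelTrans_eq]
    exact (Category.id_comp _).trans (FSch.unit_levelTrans 𝔛 h 𝔉 k).symm

/-- The comparison with the limit of the levels. -/
def toReal : 𝔉 ⟶ (levSys h 𝔉).realMod h := limit.lift _ (toRealCone h 𝔉)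

theorem toReal_proj (k : ℕ) :
    toReal h 𝔉 ≫ FSch.realProj 𝔛 h (levSys h 𝔉).F (levSys h 𝔉).toPush k =
      (FSch.levelMor 𝔛 h k).adj.unit.app 𝔉 :=
  limit.lift_π (toRealCone h 𝔉) (op k)

theorem pr_toReal (k : ℕ) (U : (𝔛.X 0).Opens) (x : ModSite.sect (O := 𝔛.Osh h) 𝔉 U) :
    pr h (levSys h 𝔉) k U ((toReal h 𝔉).val.app (op U) x) = toLev h k 𝔉 U x :=
  congrArg (fun f : 𝔉 ⟶ (FSch.levelMor 𝔛 h k).push.obj (lev h k 𝔉) => f.val.app (op U) x) (toReal_proj h 𝔉 k)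

variable (h𝔛 : 𝔛.IsLocNoethFormal) (𝔊 : FSch.ModF 𝔛 h𝔛.1)

theorem isCoh_levSys (h𝔊 : FSch.IsCohF 𝔛 h𝔛.1 𝔊) : (levSys h𝔛.1 𝔊).IsCoh :=
  fun k => isCoh_lev h𝔛.1 k 𝔊 (h𝔛.2.2 k) h𝔊

/-- The comparison on an affine open with a presentation. -/
theorem toReal_affine (h𝔊 : FSch.IsCohF 𝔛 h𝔛.1 𝔊) {V : (𝔛.X 0).Opens} (hV : IsAffineOpen V) {n m : ℕ}
    {t : ULift.{u} (Fin n) → ModSite.sect (O := 𝔛.Osh h𝔛.1) 𝔊 V}
    {g : ULift.{u} (Fin m) → ULift.{u} (Fin n) → Rng h𝔛 V} (hP : IsPres (O := 𝔛.Osh h𝔛.1) 𝔊 V t g) :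
    (∀ y : Sec h𝔛.1 (levSys h𝔛.1 𝔊) V, ∃ c : ULift.{u} (Fin n) → Rng h𝔛 V,
      ∑ i, c i • (show Sec h𝔛.1 (levSys h𝔛.1 𝔊) V from (toReal h𝔛.1 𝔊).val.app (op V) (t i)) = y) ∧
    ∀ c : ULift.{u} (Fin n) → Rng h𝔛 V,
      ∑ i, c i • (show Sec h𝔛.1 (levSys h𝔛.1 𝔊) V from (toReal h𝔛.1 𝔊).val.app (op V) (t i)) = 0 →
        ∃ d : ULift.{u} (Fin m) → Rng h𝔛 V, ∀ i, ∑ j, d j * g j i = c i := by
  classical
  obtain ⟨hN, hC, hK⟩ := affRing h𝔛 hV
  have h𝔐 := isCoh_levSys h𝔛 𝔊 h𝔊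
  obtain ⟨hfin, hlev⟩ := affSec h𝔛 (levSys h𝔛.1 𝔊) h𝔐 hV
  set T : ULift.{u} (Fin n) → Sec h𝔛.1 (levSys h𝔛.1 𝔊) V := fun i => (toReal h𝔛.1 𝔊).val.app (op V) (t i)
  have hT : ∀ k (c : ULift.{u} (Fin n) → Rng h𝔛 V),
      pr h𝔛.1 (levSys h𝔛.1 𝔊) k V (∑ i, c i • T i) =
        ∑ i, rproj h𝔛.1 k V (c i) • toLev h𝔛.1 k 𝔊 V (t i) := fun k c => by
    refine (pr_sum_smul h𝔛 _ k V c T).trans (Finset.sum_congr rfl fun i _ => ?_)
    exact congrArg (fun z : Γ(lev h𝔛.1 k 𝔊, 𝔛.lvU h𝔛.1 k V) => rproj h𝔛.1 k V (c i) • z)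
      (pr_toReal h𝔛.1 𝔊 k V (t i))
  refine ⟨fun y => ?_, fun c hc => ?_⟩
  · haveI := hfin
    have hy : y ∈ Submodule.span (Rng h𝔛 V) (Set.range T) := by
      refine mem_of_forall_mem_sup (RingHom.ker (rproj h𝔛.1 0 V)) _ y fun k => ?_
      obtain ⟨c, hc⟩ := (levelPres h𝔛.1 k 𝔊 (h𝔛.2.2 k) hP hV).2.1 (pr h𝔛.1 (levSys h𝔛.1 𝔊) k V y)
      choose c' hc' using fun i => surjective_rproj h𝔛.1 k hV (c i)
      refine Submodule.mem_sup.mpr ⟨∑ i, c' i • T i,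
        Submodule.sum_mem _ fun i _ => Submodule.smul_mem _ _ (Submodule.subset_span ⟨i, rfl⟩),
        y - ∑ i, c' i • T i, ?_, add_sub_cancel _ _⟩
      refine ((hlev k).2 _).mp ?_
      rw [map_sub, hT]
      simp only [hc']
      exact sub_eq_zero.mpr hc.symm
    exact (Submodule.mem_span_range_iff_exists_fun _).mp hy
  · have hmem : c ∈ Submodule.span (Rng h𝔛 V) (Set.range g) := by
      refine mem_of_forall_mem_sup (RingHom.ker (rproj h𝔛.1 0 V)) _ c fun k => ?_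
      obtain ⟨d, hd⟩ := (levelPres h𝔛.1 k 𝔊 (h𝔛.2.2 k) hP hV).2.2 (fun i => rproj h𝔛.1 k V (c i))
        ((hT k c).symm.trans ((congrArg (pr h𝔛.1 (levSys h𝔛.1 𝔊) k V) hc).trans (map_zero _)))
      choose d' hd' using fun j => surjective_rproj h𝔛.1 k hV (d j)
      refine Submodule.mem_sup.mpr ⟨∑ j, d' j • g j,
        Submodule.sum_mem _ fun j _ => Submodule.smul_mem _ _ (Submodule.subset_span ⟨j, rfl⟩),
        c - ∑ j, d' j • g j, ?_, add_sub_cancel _ _⟩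
      rw [pi_eq_sum_univ' (c - ∑ j, d' j • g j)]
      refine Submodule.sum_mem _ fun i _ => Submodule.smul_mem_smul ?_ Submodule.mem_top
      rw [← hK k, RingHom.mem_ker, Pi.sub_apply, map_sub, Finset.sum_apply, map_sum]
      simp only [Pi.smul_apply, smul_eq_mul, map_mul, hd']
      exact sub_eq_zero.mpr (hd i).symm
    obtain ⟨d, hd⟩ := (Submodule.mem_span_range_iff_exists_fun _).mp hmem
    exact ⟨d, fun i => by rw [← hd, Finset.sum_apply]; rfl⟩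

/-- A coherent module is the limit of its levels. -/
theorem isIso_toReal (h𝔊 : FSch.IsCohF 𝔛 h𝔛.1 𝔊) : IsIso (toReal h𝔛.1 𝔊) := by
  let η := toReal h𝔛.1 𝔊
  have haff : ∀ (x : 𝔛.X 0) (W : (𝔛.X 0).Opens), x ∈ W → ∃ (V : (𝔛.X 0).Opens), IsAffineOpen V ∧ x ∈ V ∧ V ≤ W :=
    fun x W hx => by
      obtain ⟨_, ⟨V, hV, rfl⟩, hxV, hVW⟩ := (𝔛.X 0).isBasis_affineOpens.exists_subset_of_mem_open hx W.2
      exact ⟨V, hV, hxV, SetLike.coe_subset_coe.mp hVW⟩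
  haveI : Mono η := by
    refine Preadditive.mono_of_cancel_zero _ fun {P} φ hφ => ?_
    apply SheafOfModules.hom_ext
    refine PresheafOfModules.hom_ext fun W => ModuleCat.hom_ext (LinearMap.ext fun z => ?_)
    show (φ.val.app W z : ModSite.sect (O := 𝔛.Osh h𝔛.1) 𝔊 W.unop) = 0
    have hs : η.val.app W (φ.val.app W z) = 0 := congrArg (fun f => f.val.app W z) hφ
    generalize φ.val.app W z = s at hs
    refine eq_of_locally (O := 𝔛.Osh h𝔛.1) 𝔊 fun x hx => ?_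
    obtain ⟨U, n, m, t, g, hxU, hP⟩ := exists_isPres (O := 𝔛.Osh h𝔛.1) h𝔊 x
    obtain ⟨V₀, e₀, hxV₀, c, hc⟩ := (hP.mono (inf_le_right : W.unop ⊓ U ≤ U)).gen (W.unop ⊓ U) le_rfl
      (mres 𝔊 inf_le_left s) x ⟨hx, hxU⟩
    obtain ⟨V, hV, hxV, e⟩ := haff x V₀ hxV₀
    let e' : V ≤ U := e.trans (e₀.trans inf_le_right)
    let eW : V ≤ W.unop := e.trans (e₀.trans inf_le_left)
    refine ⟨V, eW, hxV, ?_⟩
    rw [show mres 𝔊 eW (0 : ModSite.sect (O := 𝔛.Osh h𝔛.1) 𝔊 W.unop) = 0 from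
      map_zero (𝔊.val.map (homOfLE eW).op).hom]
    have h1 : mres 𝔊 eW s = ∑ i, ores (𝔛.Osh h𝔛.1) e (c i) • mres 𝔊 e' (t i) := by
      have := congrArg (mres 𝔊 e) hc
      rw [mres_sum_smul] at this
      simp only [mres_mres] at this
      exact this.symm
    have h2 : η.val.app (op V) (mres 𝔊 eW s) = 0 := by
      rw [mapp_res 𝔊 η eW s]
      exact (congrArg (mres _ eW) hs).trans (map_zero (((levSys h𝔛.1 𝔊).realMod h𝔛.1).val.map (homOfLE eW).op).hom)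
    rw [h1] at h2 ⊢
    obtain ⟨d, hd⟩ := (toReal_affine h𝔛 𝔊 h𝔊 hV (hP.mono e')).2 _
      ((mapp_sum_smul 𝔊 η _ _).symm.trans h2)
    simp only [← hd]
    exact sum_kill e' d hP.rel0
  haveI : Epi η := by
    refine epi_of_locally (O := 𝔛.Osh h𝔛.1) η fun W y => ?_
    refine ⟨{ arrows := fun W' _ => ∃ V : (𝔛.X 0).Opens, IsAffineOpen V ∧ W' ≤ V ∧ V ≤ W ∧ ∃ (n m : ℕ)
                (t : ULift.{u} (Fin n) → ModSite.sect (O := 𝔛.Osh h𝔛.1) 𝔊 V)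
                (g : ULift.{u} (Fin m) → ULift.{u} (Fin n) → Rng h𝔛 V), IsPres (O := 𝔛.Osh h𝔛.1) 𝔊 V t g
              downward_closed := fun ⟨V, hV, h1, h2⟩ a => ⟨V, hV, a.le.trans h1, h2⟩ }, ?_, ?_⟩
    · intro x hx
      obtain ⟨U, n, m, t, g, hxU, hP⟩ := exists_isPres (O := 𝔛.Osh h𝔛.1) h𝔊 x
      obtain ⟨V, hV, hxV, e⟩ := haff x (W ⊓ U) ⟨hx, hxU⟩
      exact ⟨V, homOfLE (e.trans inf_le_left),
        ⟨V, hV, le_rfl, e.trans inf_le_left, n, m, _, _, hP.mono (e.trans inf_le_right)⟩, hxV⟩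
    · rintro W' a ⟨V, hV, h1, h2, n, m, t, g, hP⟩
      obtain ⟨c, hc⟩ := (toReal_affine h𝔛 𝔊 h𝔊 hV hP).1 (mres _ h2 y)
      refine ⟨mres 𝔊 h1 (∑ i, c i • t i), ?_⟩
      rw [mapp_res 𝔊 η h1, mapp_sum_smul, show ∑ i, c i • (show ModSite.sect _ V from η.val.app (op V) (t i)) =
        mres _ h2 y from hc, mres_mres]
      rfl
  exact isIso_of_mono_of_epi η

end Groth.Agent.FModLib
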