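import Groth.Agent.FModLib.Formal
import Groth.Agent.FModLib.Full
import Groth.Agent.FModLib.LevelSys
import Groth.Agent.FModLib.Abel2

/-!
# Coherent formal modules and coherent modules on the completion
-/

set_option backward.isDefEq.respectTransparency false
set_option backward.isDefEq.respectTransparency.types false
set_option linter.style.haveILetI false

universe u

open CategoryTheory CategoryTheory.Limits AlgebraicGeometry TopologicalSpace Opposite

noncomputable section

namespace Groth.Agent.FModLib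

open Groth.Agent

/-- Coherent systems of modules. -/
abbrev CohSys (𝔛 : FSch.Sys.{u}) := ObjectProperty.FullSubcategory (fun 𝔐 : FSch.ModSys 𝔛 => 𝔐.IsCoh)

section CohF

variable {𝔛 : FSch.Sys.{u}} (h𝔛 : 𝔛.IsLocNoethFormal)

/-- Coherent modules on a formal scheme. -/
abbrev CohFCat := ObjectProperty.FullSubcategory (fun 𝔉 : FSch.ModF 𝔛 h𝔛.1 => FSch.IsCohF 𝔛 h𝔛.1 𝔉)

/-- Taking the module of a system. -/
def realFun : CohSys 𝔛 ⥤ CohFCat h𝔛 where
  obj 𝔐 := ⟨𝔐.obj.realMod h𝔛.1, isCohF_realMod h𝔛 𝔐.obj 𝔐.property⟩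
  map φ := ObjectProperty.homMk (FSch.ModSys.realModMap h𝔛.1 φ.hom)
  map_id 𝔐 := ObjectProperty.hom_ext _ (limit.hom_ext fun j => by
    refine (realModMap_realProj h𝔛.1 _ j.unop).trans ?_
    exact ((congrArg (_ ≫ ·) ((FSch.levelMor 𝔛 h𝔛.1 j.unop).push.map_id _)).trans (Category.comp_id _)).trans
      (Category.id_comp _).symm)
  map_comp φ ψ := ObjectProperty.hom_ext _ (limit.hom_ext fun j => by
    refine (realModMap_realProj h𝔛.1 _ j.unop).trans ?_
    refine (congrArg (_ ≫ ·) ((FSch.levelMor 𝔛 h𝔛.1 j.unop).push.map_comp (φ.hom.app j.unop) (ψ.hom.app j.unop))).trans ?_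
    refine (Category.assoc _ _ _).symm.trans ?_
    refine (congrArg (· ≫ _) (realModMap_realProj h𝔛.1 φ.hom j.unop).symm).trans ?_
    refine (Category.assoc _ _ _).trans ?_
    exact (congrArg (_ ≫ ·) (realModMap_realProj h𝔛.1 ψ.hom j.unop).symm).trans (Category.assoc _ _ _).symm)

theorem isEquivalence_realFun : (realFun h𝔛).IsEquivalence := by
  haveI : (realFun h𝔛).Faithful := ⟨fun {M N} φ ψ h => ObjectProperty.hom_ext _
    ((bijective_realModMap h𝔛 M.obj N.obj M.property).1 (congrArg (fun t : (realFun h𝔛).obj M ⟶ (realFun h𝔛).obj N => t.hom) h))⟩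
  haveI : (realFun h𝔛).Full := ⟨fun {M N} φ => by
    obtain ⟨ψ, hψ⟩ := (bijective_realModMap h𝔛 M.obj N.obj M.property).2 φ.hom
    exact ⟨ObjectProperty.homMk ψ, ObjectProperty.hom_ext _ hψ⟩⟩
  haveI : (realFun h𝔛).EssSurj := ⟨fun F => by
    haveI := isIso_toReal h𝔛 F.obj F.property
    exact ⟨⟨levSys h𝔛.1 F.obj, isCoh_levSys h𝔛 F.obj F.property⟩,
      ⟨(ObjectProperty.isoMk _ (asIso (toReal h𝔛.1 F.obj) : F.obj ≅ _)).symm⟩⟩⟩
  exact { }

theorem hasKernels_cohFCat : HasKernels (CohFCat h𝔛) :=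
  ⟨fun {F G} f => by
    let K : CohFCat h𝔛 := ⟨kernel f.hom, isCohF_kernel h𝔛 f.hom F.property G.property⟩
    exact HasLimit.mk ⟨KernelFork.ofι (Z := K) (ObjectProperty.homMk (kernel.ι f.hom))
      (ObjectProperty.hom_ext _ (kernel.condition f.hom)),
      KernelFork.IsLimit.ofι _ _ (fun {W} g w => ObjectProperty.homMk
          (kernel.lift f.hom g.hom (congrArg InducedCategory.Hom.hom w)))
        (fun g w => ObjectProperty.hom_ext _ (kernel.lift_ι _ _ _))
        (fun g w m hm => ObjectProperty.hom_ext _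
          ((cancel_mono (kernel.ι f.hom)).1 ((congrArg InducedCategory.Hom.hom hm).trans (kernel.lift_ι _ _ _).symm)))⟩⟩

include h𝔛 in
theorem hasEqualizers_cohSys : HasEqualizers (CohSys 𝔛) := by
  haveI := hasKernels_cohFCat h𝔛
  haveI : HasEqualizers (CohFCat h𝔛) := Preadditive.hasEqualizers_of_hasKernels
  haveI := isEquivalence_realFun h𝔛
  exact Adjunction.hasLimitsOfShape_of_equivalence (realFun h𝔛)

end CohF

section Formal

variable {A : Type u} [CommRing A] {X : Scheme.{u}} [X.Over (Spec (CommRingCat.of A))] [IsLocallyNoetherian X]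
  {𝔛 : FSch.Sys.{u}} (hlev : ∀ n, IsLocallyNoetherian (𝔛.X n)) (p : ∀ n, 𝔛.X n ⟶ X)
  (hp : ∀ n, 𝔛.ι n ≫ p (n + 1) = p n) [∀ n, IsClosedImmersion (p n)] {I : Ideal A}
  (hk : ∀ n, (p n).ker = Algz7.baseIdeal (I ^ (n + 1)))

/-- Direct images of coherent systems as coherent formal modules. -/
def toFormal : CohSys 𝔛 ⥤ Formal2.CohFormalCat I X where
  obj 𝔐 := ⟨pushSys p hp 𝔐.obj, isCohFormal_pushSys p hp hlev hk 𝔐.obj 𝔐.property⟩
  map φ := ObjectProperty.homMk (pushSysMap p hp φ.hom)
  map_id 𝔐 := ObjectProperty.hom_ext _ (NatTrans.ext (funext fun n => (Scheme.Modules.pushforward (p n.unop)).map_id _))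
  map_comp φ ψ := ObjectProperty.hom_ext _
    (NatTrans.ext (funext fun n => (Scheme.Modules.pushforward (p n.unop)).map_comp (φ.hom.app n.unop) (ψ.hom.app n.unop)))

theorem exists_map_eq_pushSys {M N : FSch.ModSys 𝔛} (hM : M.IsCoh) (hN : N.IsCoh)
    (ψ : pushSys p hp M ⟶ pushSys p hp N) : ∃ φ : M ⟶ N, pushSysMap p hp φ = ψ := by
  have hex : ∀ n, ∃ g : M.F n ⟶ N.F n, (Scheme.Modules.pushforward (p n)).map g = ψ.app (op n) := fun n => by
    let adj := Scheme.Modules.pullbackPushforwardAdjunction (p n)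
    haveI := AmpleVan.isIso_counit (p n) (hM n).1
    refine ⟨inv (adj.counit.app (M.F n)) ≫ (adj.homEquiv _ _).symm (ψ.app (op n)), ?_⟩
    apply (adj.homEquiv _ _).symm.injective
    rw [adj.homEquiv_counit]
    refine (adj.counit.naturality _).trans ?_
    exact IsIso.hom_inv_id_assoc _ _
  choose Φ hΦ using hex
  refine ⟨⟨Φ, fun n => ?_⟩, NatTrans.ext (funext fun n => hΦ n.unop)⟩
  haveI := AmpleVan.isIso_counit (p (n + 1)) (hM (n + 1)).1
  haveI : IsIso ((thetaNat p hp n).app (M.F (n + 1))) := by rw [thetaNat_app]; infer_instance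
  refine (cancel_epi ((thetaNat p hp n).app (M.F (n + 1)))).1 ?_
  have hnat := ψ.naturality (homOfLE (Nat.le_succ n)).op
  rw [pushSys_succ, pushSys_succ] at hnat
  erw [← hΦ n, ← hΦ (n + 1)] at hnat
  let adj := Scheme.Modules.pullbackPushforwardAdjunction (p n)
  have h1 : rho p hp M n = adj.homEquiv _ _ ((thetaNat p hp n).app (M.F (n + 1)) ≫ (M.e n).hom) :=
    (adj.homEquiv_unit _ _ _).symm
  have h2 : rho p hp N n = adj.homEquiv _ _ ((thetaNat p hp n).app (N.F (n + 1)) ≫ (N.e n).hom) :=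
    (adj.homEquiv_unit _ _ _).symm
  rw [h1, h2] at hnat
  have hnat' := (adj.homEquiv _ _).injective ((adj.homEquiv_naturality_left
    ((Scheme.Modules.pushforward (p (n + 1))).map (Φ (n + 1))) _).trans
    (hnat.symm.trans (adj.homEquiv_naturality_right _ (Φ n)).symm))
  refine ((Category.assoc _ _ _).symm.trans ((congrArg (· ≫ (N.e n).hom) ((thetaNat p hp n).naturality (Φ (n + 1))).symm).trans
    ((Category.assoc _ _ _).trans (hnat'.trans (Category.assoc _ _ _)))))

include hk in
theorem isIso_unit_of_killed {n : ℕ} {G : X.Modules} (hG : Coh.IsQCoh G) (hGk : Formal.KilledBy (I ^ (n + 1)) G) :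
    IsIso ((Scheme.Modules.pullbackPushforwardAdjunction (p n)).unit.app G) := by
  obtain ⟨h, hi⟩ := isQuot_unit (p n) (hk n) hG
  haveI := hi
  have h0 : Formal.smulFamily (I ^ (n + 1)) G = 0 :=
    Sigma.hom_ext _ _ fun a => by rw [Formal.smulFamily, Sigma.ι_desc, comp_zero, hGk a.1 a.2]
  haveI hπ : IsIso (cokernel.π (Formal.smulFamily (I ^ (n + 1)) G)) :=
    ⟨cokernel.desc _ (𝟙 _) (by rw [h0, zero_comp]), cokernel.π_desc _ _ _,
      coequalizer.hom_ext (by rw [cokernel.π_desc_assoc, Category.id_comp, Category.comp_id])⟩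
  rw [← cokernel.π_desc _ _ h]
  exact IsIso.comp_isIso' hπ hi

include hk in
theorem isIso_pull_map_step {G : ℕᵒᵖ ⥤ X.Modules} (hG : Formal.IsCohFormal I G) (n : ℕ) :
    IsIso ((Scheme.Modules.pullback (p n)).map (G.map (homOfLE (Nat.le_succ n)).op)) := by
  let g := G.map (homOfLE (Nat.le_succ n)).op
  let adj := Scheme.Modules.pullbackPushforwardAdjunction (p n)
  have hg : Algz7.IsQuot (I ^ (n + 1)) g := hG.2.2 n
  obtain ⟨h, -⟩ := isQuot_unit (p n) (hk n) (hG.1 (n + 1)).1
  obtain ⟨ψ, hψ⟩ := hg.desc (adj.unit.app (G.obj (op (n + 1)))) h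
  haveI := hg.epi
  haveI : PreservesColimitsOfSize.{0, 0} (Scheme.Modules.pullback (p n)) := adj.leftAdjoint_preservesColimits
  haveI : Epi ((Scheme.Modules.pullback (p n)).map g) := inferInstance
  have h1 : (Scheme.Modules.pullback (p n)).map g ≫ (adj.homEquiv _ _).symm ψ = 𝟙 _ := by
    rw [← adj.homEquiv_naturality_left_symm, hψ, ← adj.homEquiv_id, Equiv.symm_apply_apply]
  exact ⟨(adj.homEquiv _ _).symm ψ, h1, by
    rw [← cancel_epi ((Scheme.Modules.pullback (p n)).map g), reassoc_of% h1, Category.comp_id]⟩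

/-- The system on the thickenings of a coherent formal module. -/
def fromFormal {G : ℕᵒᵖ ⥤ X.Modules} (hG : Formal.IsCohFormal I G) : FSch.ModSys 𝔛 where
  F n := (Scheme.Modules.pullback (p n)).obj (G.obj (op n))
  e n := (sysOf p hp (G.obj (op (n + 1)))).e n ≪≫
    @asIso _ _ _ _ ((Scheme.Modules.pullback (p n)).map (G.map (homOfLE (Nat.le_succ n)).op)) (isIso_pull_map_step p hk hG n)

include hlev hk in
theorem isEquivalence_toFormal : (toFormal hlev p hp hk).IsEquivalence := by
  haveI : (toFormal hlev p hp hk).Faithful := ⟨fun {M N} φ ψ h => by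
    refine ObjectProperty.hom_ext _ (FSch.ModSys.Hom.ext (funext fun n => ?_))
    have h' : (Scheme.Modules.pushforward (p n)).map (φ.hom.app n) = (Scheme.Modules.pushforward (p n)).map (ψ.hom.app n) :=
      congrArg (fun t : (toFormal hlev p hp hk).obj M ⟶ (toFormal hlev p hp hk).obj N => t.hom.app (op n)) h
    let adj := Scheme.Modules.pullbackPushforwardAdjunction (p n)
    haveI := AmpleVan.isIso_counit (p n) (M.property n).1
    refine (cancel_epi (adj.counit.app (M.obj.F n))).1 ?_
    exact (adj.counit.naturality _).symm.trans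
      ((congrArg (fun t => (Scheme.Modules.pullback (p n)).map t ≫ adj.counit.app (N.obj.F n)) h').trans
        (adj.counit.naturality _))⟩
  haveI : (toFormal hlev p hp hk).Full := ⟨fun {M N} ψ => by
    obtain ⟨φ, hφ⟩ := exists_map_eq_pushSys p hp M.property N.property ψ.hom
    exact ⟨ObjectProperty.homMk φ, ObjectProperty.hom_ext _ hφ⟩⟩
  haveI : (toFormal hlev p hp hk).EssSurj := ⟨fun G => by
    have hc : (fromFormal p hp hk G.property).IsCoh := fun n => by
      haveI := hlev n
      exact ZClosLib.isCoh_pullback (p n) (G.property.1 n)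
    let η : G.obj ⟶ pushSys p hp (fromFormal p hp hk G.property) :=
      NatTrans.ofOpSequence (fun n => (Scheme.Modules.pullbackPushforwardAdjunction (p n)).unit.app (G.obj.obj (op n)))
        fun n => by
          rw [pushSys_succ]
          have h := rho_homEquiv p hp (fromFormal p hp hk G.property) n (G.obj.obj (op (n + 1))) (𝟙 _)
          erw [Adjunction.homEquiv_id] at h
          refine Eq.trans ?_ h.symm
          rw [CategoryTheory.Functor.map_id]
          erw [Category.id_comp]
          show _ = _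
          refine Eq.trans ?_ (congrArg ((Scheme.Modules.pullbackPushforwardAdjunction (p n)).homEquiv _ _)
            (((congrArg (_ ≫ ·) (Iso.trans_hom _ _)).trans (Category.assoc _ _ _).symm).trans
              ((congrArg (· ≫ _) (wNat_sysOf_e p hp n _)).trans (Category.id_comp _))).symm)
          rw [Adjunction.homEquiv_unit]
          exact (Scheme.Modules.pullbackPushforwardAdjunction (p n)).unit.naturality _
    haveI : ∀ n : ℕᵒᵖ, IsIso (η.app n) := fun n =>
      isIso_unit_of_killed p hk (G.property.1 n.unop).1 (G.property.2.1 n.unop)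
    haveI : IsIso η := NatIso.isIso_of_isIso_app η
    exact ⟨⟨_, hc⟩, ⟨(ObjectProperty.isoMk _ (asIso η)).symm⟩⟩⟩
  exact { }

end Formal

/-- Coherent formal modules have kernels. -/
theorem hasKernels_cohFormalCat {A : Type u} [CommRing A] (I : Ideal A) (X : Scheme.{u})
    [X.Over (Spec (CommRingCat.of A))] [IsLocallyNoetherian X] : HasKernels (Formal2.CohFormalCat I X) := by
  let 𝓘 := (FSch.idealSpec A I).comap (X ↘ Spec (CommRingCat.of A))
  have h𝔛 := FComplLib.isLocNoethFormal_completionAlong 𝓘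
  haveI := hasEqualizers_cohSys h𝔛
  haveI := isEquivalence_toFormal h𝔛.2.2 (FSch.completionToX X 𝓘) (FSch.completionToX_comm X 𝓘) (ker_completionToX (I := I) rfl)
  haveI : HasEqualizers (Formal2.CohFormalCat I X) :=
    Adjunction.hasLimitsOfShape_of_equivalence (toFormal h𝔛.2.2 (FSch.completionToX X 𝓘) (FSch.completionToX_comm X 𝓘) (ker_completionToX (I := I) rfl)).inv
  exact ⟨fun f => inferInstance⟩

end Groth.Agent.FModLib
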