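import Groth.Agent.FModLib.Pres

/-!
# Sections of free modules of arbitrary rank, and presentations of arbitrary rank
-/

set_option backward.isDefEq.respectTransparency false
set_option backward.isDefEq.respectTransparency.types false
set_option linter.style.haveILetI false

universe u

open CategoryTheory CategoryTheory.Limits Opposite

noncomputable section

namespace Groth.Agent.FModLib

variable {C : Type u} [SmallCategory C] {J : GrothendieckTopology C} {O : Sheaf J CommRingCat.{u}}
  {I : Type u}

/-- The free module of arbitrary rank. -/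
abbrev freeI (O : Sheaf J CommRingCat.{u}) (I : Type u) : ModSite.Mod O :=
  SheafOfModules.free (R := ModSite.ringSh O) I

/-- The basic sections. -/
def bsec (O : Sheaf J CommRingCat.{u}) (I : Type u) (W : C) (i : I) : ModSite.sect (freeI O I) W :=
  (SheafOfModules.freeSection (R := ModSite.ringSh O) i).val (op W)

theorem bsec_map {W W' : C} (a : W' ⟶ W) (i : I) :
    (freeI O I).val.map a.op (bsec O I W i) = bsec O I W' i :=
  (SheafOfModules.freeSection (R := ModSite.ringSh O) i).property a.op

theorem bsec_eq_ι (W : C) (i : I) :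
    bsec O I W i = (SheafOfModules.ιFree (R := ModSite.ringSh O) i).val.app (op W) (1 : O.obj.obj (op W)) :=
  rfl

theorem map_sum_bsec {W W' : C} (a : W' ⟶ W) (s : Finset I) (c : I → O.obj.obj (op W)) :
    (freeI O I).val.map a.op (∑ i ∈ s, c i • bsec O I W i) =
      ∑ i ∈ s, O.obj.map a.op (c i) • bsec O I W' i := by
  refine (map_sum ((freeI O I).val.map a.op).hom _ _).trans (Finset.sum_congr rfl fun i _ => ?_)
  refine (PresheafOfModules.map_smul (R := (ModSite.ringSh O).obj) _ a.op (c i) _).trans ?_
  exact congrArg (O.obj.map a.op (c i) • ·) (bsec_map a i)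

/-- Sections of free modules are locally finite combinations of the basic sections. -/
theorem exists_locally_combination (W : C) (z : ModSite.sect (freeI O I) W) :
    ∃ S ∈ J W, ∀ ⦃W' : C⦄ (a : W' ⟶ W), S a → ∃ (s : Finset I) (c : I → O.obj.obj (op W')),
      ∑ i ∈ s, c i • bsec O I W' i = (freeI O I).val.map a.op z := by
  classical
  let R := ModSite.ringSh O
  let ρ : (∐ fun _ : I => PresheafOfModules.unit R.obj) ⟶ (freeI O I).val :=
    Sigma.desc fun i => (SheafOfModules.ιFree (R := R) i).val
  let π := cokernel.π ρ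
  let η := (PresheafOfModules.sheafificationAdjunction (𝟙 R.obj)).unit.app (cokernel ρ)
  let q : freeI O I ⟶ (PresheafOfModules.sheafification (𝟙 R.obj)).obj (cokernel ρ) := ⟨π ≫ η⟩
  have hq : q = 0 := by
    apply (SheafOfModules.freeHomEquiv _).injective
    funext i
    refine congrArg (SheafOfModules.unitHomEquiv _) ?_
    rw [comp_zero]
    apply SheafOfModules.hom_ext
    show (SheafOfModules.ιFree (R := R) i).val ≫ π ≫ η = 0
    rw [show (SheafOfModules.ιFree (R := R) i).val = Sigma.ι (fun _ : I => PresheafOfModules.unit R.obj) i ≫ ρ from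
      (Sigma.ι_desc (fun i => (SheafOfModules.ιFree (R := R) i).val) i).symm, Category.assoc, cokernel.condition_assoc, zero_comp, comp_zero]
  have hz : η.app (op W) (π.app (op W) z) = 0 :=
    congrArg (fun f : freeI O I ⟶ _ => f.val.app (op W) z) hq
  have h0 : (CategoryTheory.toSheafify J (cokernel ρ).presheaf).app (op W) (π.app (op W) z) =
      (CategoryTheory.toSheafify J (cokernel ρ).presheaf).app (op W) (0 : (cokernel ρ).obj (op W)) := by
    refine hz.trans (Eq.symm ?_)
    exact map_zero ((CategoryTheory.toSheafify J (cokernel ρ).presheaf).app (op W)).hom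
  refine ⟨_, Presheaf.equalizerSieve_mem J (CategoryTheory.toSheafify J (cokernel ρ).presheaf) _ _ h0,
    fun W' a ha => ?_⟩
  have h1 : π.app (op W') ((freeI O I).val.map a.op z) = 0 := by
    refine (PresheafOfModules.naturality_apply π a.op z).trans (Eq.trans ha ?_)
    exact map_zero ((cokernel ρ).presheaf.map a.op).hom
  haveI : PreservesColimit (parallelPair ρ 0) (PresheafOfModules.evaluation R.obj (op W')) := inferInstance
  have hex := (ShortComplex.moduleCat_exact_iff _).mp
    (((ShortComplex.exact_cokernel ρ)).map_of_epi_of_preservesCokernel (PresheafOfModules.evaluation R.obj (op W'))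
      inferInstance inferInstance)
  obtain ⟨w, hw⟩ := hex _ h1
  let B : Submodule (R.obj.obj (op W')) ((freeI O I).val.obj (op W')) :=
    Submodule.span _ (Set.range (bsec O I W'))
  have hB : (ρ.app (op W')).hom.range ≤ B := by
    suffices h2 : ρ.app (op W') ≫ ModuleCat.ofHom B.mkQ = 0 by
      rintro _ ⟨v, rfl⟩
      exact (Submodule.Quotient.mk_eq_zero B).mp (congrArg (fun f => f.hom v) h2)
    haveI : PreservesColimit (Discrete.functor fun _ : I => PresheafOfModules.unit R.obj)
        (PresheafOfModules.evaluation R.obj (op W')) := inferInstance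
    refine (isColimitOfPreserves (PresheafOfModules.evaluation R.obj (op W'))
      (coproductIsCoproduct fun _ : I => PresheafOfModules.unit R.obj)).hom_ext fun ⟨i⟩ => ?_
    refine ModuleCat.hom_ext (LinearMap.ext_ring ?_)
    show B.mkQ (ρ.app (op W') ((Sigma.ι (fun _ : I => PresheafOfModules.unit R.obj) i).app (op W') (1 : O.obj.obj (op W')))) = 0
    refine (Submodule.Quotient.mk_eq_zero B).mpr (Submodule.subset_span ⟨i, ?_⟩)
    rw [bsec_eq_ι]
    exact (congrArg (fun f : PresheafOfModules.unit R.obj ⟶ _ => f.app (op W') (1 : O.obj.obj (op W')))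
      (Sigma.ι_desc (fun i => (SheafOfModules.ιFree (R := R) i).val) i)).symm
  obtain ⟨c, hc⟩ := Finsupp.mem_span_range_iff_exists_finsupp.mp (hB ⟨w, hw⟩)
  exact ⟨c.support, c, hc⟩

/-- The coordinate maps. -/
def chi [DecidableEq I] (i : I) : freeI O I ⟶ ModSite.unit O :=
  (ModSite.unit O).freeHomEquiv.symm fun j => (ModSite.unit O).unitHomEquiv (if j = i then 𝟙 _ else 0)

theorem chi_bsec [DecidableEq I] (i k : I) (W : C) :
    (chi (O := O) i).val.app (op W) (bsec O I W k) = if k = i then (1 : O.obj.obj (op W)) else 0 := by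
  have h := congrArg (fun s : (ModSite.unit O).sections => s.val (op W))
    (SheafOfModules.sectionsMap_freeHomEquiv_symm_freeSection
      (fun j => (ModSite.unit O).unitHomEquiv (if j = i then 𝟙 _ else 0)) k)
  refine h.trans ?_
  split_ifs <;> rfl

theorem chi_sum [DecidableEq I] (i : I) (W : C) (s : Finset I) (c : I → O.obj.obj (op W)) :
    (chi (O := O) i).val.app (op W) (∑ k ∈ s, c k • bsec O I W k) = if i ∈ s then c i else 0 := by
  refine (map_sum ((chi (O := O) i).val.app (op W)).hom _ _).trans ?_
  refine (Finset.sum_congr rfl fun k _ =>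
    (map_smul ((chi (O := O) i).val.app (op W)).hom (c k) _).trans
      (congrArg (fun z : O.obj.obj (op W) => c k * z) (chi_bsec i k W))).trans ?_
  simp only [mul_ite, mul_one, mul_zero]
  exact Finset.sum_ite_eq' s i c

theorem chi_map [DecidableEq I] (i : I) {W W' : C} (a : W' ⟶ W) (z : ModSite.sect (freeI O I) W) :
    (chi (O := O) i).val.app (op W') ((freeI O I).val.map a.op z) =
      O.obj.map a.op ((chi (O := O) i).val.app (op W) z) :=
  PresheafOfModules.naturality_apply (chi (O := O) i).val a.op z

theorem eq_of_chi [DecidableEq I] {W : C} {z z' : ModSite.sect (freeI O I) W}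
    (h : ∀ i, (chi (O := O) i).val.app (op W) z = (chi (O := O) i).val.app (op W) z') : z = z' := by
  obtain ⟨S, hS, hs⟩ := exists_locally_combination W (z - z')
  rw [← sub_eq_zero]
  refine (Presheaf.IsSheaf.isSeparated (freeI O I).isSheaf) W S hS _ _ fun W' a ha => ?_
  obtain ⟨s, c, hc⟩ := hs a ha
  refine Eq.trans ?_ (map_zero ((freeI O I).val.map a.op).hom).symm
  refine hc.symm.trans (Finset.sum_eq_zero fun i hi => ?_)
  have h1 := chi_sum i W' s c
  rw [hc, chi_map, if_pos hi, map_sub, h i, sub_self, map_zero] at h1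
  rw [← h1, zero_smul]

variable {T : C} (hT : IsTerminal T) {G : ModSite.Mod O}

/-- A presentation of arbitrary rank in terms of sections over a terminal object. -/
theorem exists_families_of_presentation (P : G.Presentation) :
    ∃ (I K : Type u) (p : I → ModSite.sect G T) (ψ : K → I → O.obj.obj (op T)),
      (∀ (W : C) (s : ModSite.sect G W), ∃ S ∈ J W, ∀ ⦃W' : C⦄ (a : W' ⟶ W), S a →
        ∃ (f : Finset I) (c : I → O.obj.obj (op W')),
          ∑ i ∈ f, c i • G.val.map (hT.from W').op (p i) = G.val.map a.op s) ∧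
      (∀ (W : C) (f : Finset I) (c : I → O.obj.obj (op W)), (∀ i ∉ f, c i = 0) →
        ∑ i ∈ f, c i • G.val.map (hT.from W).op (p i) = 0 → ∃ S ∈ J W, ∀ ⦃W' : C⦄ (a : W' ⟶ W), S a →
          ∃ (f' : Finset K) (d : K → O.obj.obj (op W')),
            ∀ i, ∑ j ∈ f', d j * O.obj.map (hT.from W').op (ψ j i) = O.obj.map a.op (c i)) ∧
      ∀ (W : C) (f : Finset I) (c : I → O.obj.obj (op W)) (f' : Finset K) (d : K → O.obj.obj (op W)),
        (∀ i ∉ f, c i = 0) → (∀ i, ∑ j ∈ f', d j * O.obj.map (hT.from W).op (ψ j i) = c i) →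
          ∑ i ∈ f, c i • G.val.map (hT.from W).op (p i) = 0 := by
  classical
  let p : P.generators.I → ModSite.sect G T := fun i => P.generators.π.val.app (op T) (bsec O _ T i)
  let Ψ := P.relations.π ≫ kernel.ι P.generators.π
  let ψ : P.relations.I → P.generators.I → O.obj.obj (op T) := fun j i =>
    (chi (O := O) i).val.app (op T) (Ψ.val.app (op T) (bsec O _ T j))
  have hp : ∀ (W : C) (f : Finset P.generators.I) (c : P.generators.I → O.obj.obj (op W)),
      P.generators.π.val.app (op W) (∑ i ∈ f, c i • bsec O _ W i) = ∑ i ∈ f, c i • G.val.map (hT.from W).op (p i) := by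
    intro W f c
    refine (map_sum (P.generators.π.val.app (op W)).hom _ _).trans (Finset.sum_congr rfl fun i _ => ?_)
    refine (map_smul (P.generators.π.val.app (op W)).hom (c i) _).trans (congrArg (fun z : ModSite.sect G W => c i • z) ?_)
    rw [← bsec_map (hT.from W) i]
    exact PresheafOfModules.naturality_apply P.generators.π.val (hT.from W).op _
  have hψ : ∀ (W : C) (i : P.generators.I) (j : P.relations.I),
      (chi (O := O) i).val.app (op W) (Ψ.val.app (op W) (bsec O _ W j)) = O.obj.map (hT.from W).op (ψ j i) := by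
    intro W i j
    rw [← bsec_map (hT.from W) j]
    exact PresheafOfModules.naturality_apply (Ψ ≫ chi (O := O) i).val (hT.from W).op _
  have hΨ : ∀ (W : C) (i : P.generators.I) (f' : Finset P.relations.I) (d : P.relations.I → O.obj.obj (op W)),
      (chi (O := O) i).val.app (op W) (Ψ.val.app (op W) (∑ j ∈ f', d j • bsec O _ W j)) =
        ∑ j ∈ f', d j * O.obj.map (hT.from W).op (ψ j i) := by
    intro W i f' d
    refine (map_sum ((Ψ ≫ chi (O := O) i).val.app (op W)).hom _ _).trans (Finset.sum_congr rfl fun j _ => ?_)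
    exact (map_smul ((Ψ ≫ chi (O := O) i).val.app (op W)).hom (d j) _).trans
      (congrArg (fun z : O.obj.obj (op W) => d j * z) (hψ W i j))
  refine ⟨P.generators.I, P.relations.I, p, ψ, fun W s => ?_, fun W f c hf hc => ?_, fun W f c f' d hf hd => ?_⟩
  · obtain ⟨S, hS, h⟩ := SuppCore.exists_cover_lift P.generators.π s
    choose w hw using h
    choose S' hS' h' using fun (W' : C) (a : W' ⟶ W) (ha : S a) => exists_locally_combination W' (w a ha)
    refine ⟨_, J.bind_covering hS fun W' a ha => hS' W' a ha, fun W' a ha => ?_⟩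
    obtain ⟨Y, g', a', ha', hg', rfl⟩ := ha
    obtain ⟨f, c, hc⟩ := h' Y a' ha' g' hg'
    refine ⟨f, c, (hp W' f c).symm.trans ?_⟩
    rw [hc]
    refine (PresheafOfModules.naturality_apply P.generators.π.val g'.op _).trans ?_
    rw [hw a' ha']
    exact (ConcreteCategory.congr_hom (G.val.presheaf.map_comp a'.op g'.op) s).symm
  · obtain ⟨k, hk⟩ := exists_kernel_lift P.generators.π W (∑ i ∈ f, c i • bsec O _ W i) ((hp W f c).trans hc)
    obtain ⟨S, hS, h⟩ := SuppCore.exists_cover_lift P.relations.π k
    choose w hw using h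
    choose S' hS' h' using fun (W' : C) (a : W' ⟶ W) (ha : S a) => exists_locally_combination W' (w a ha)
    refine ⟨_, J.bind_covering hS fun W' a ha => hS' W' a ha, fun W' a ha => ?_⟩
    obtain ⟨Y, g', a', ha', hg', rfl⟩ := ha
    obtain ⟨f', d, hd⟩ := h' Y a' ha' g' hg'
    refine ⟨f', d, fun i => ?_⟩
    rw [← hΨ W' i f' d, hd]
    have e1 : Ψ.val.app (op W') ((freeI O P.relations.I).val.map g'.op (w a' ha')) =
        (freeI O P.generators.I).val.map (g' ≫ a').op (∑ i ∈ f, c i • bsec O _ W i) := by
      refine (PresheafOfModules.naturality_apply Ψ.val g'.op _).trans ?_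
      refine Eq.trans ?_ (ConcreteCategory.congr_hom ((freeI O P.generators.I).val.presheaf.map_comp a'.op g'.op) _).symm
      refine congrArg ((freeI O P.generators.I).val.map g'.op) ?_
      refine Eq.trans ?_ (congrArg ((freeI O P.generators.I).val.map a'.op) hk)
      exact (congrArg ((kernel.ι P.generators.π).val.app (op Y)) (hw a' ha')).trans
        (PresheafOfModules.naturality_apply (kernel.ι P.generators.π).val a'.op k)
    rw [e1, chi_map, chi_sum]
    split_ifs with hi
    · rfl
    · rw [hf i hi]
  · have e : Ψ.val.app (op W) (∑ j ∈ f', d j • bsec O _ W j) = ∑ i ∈ f, c i • bsec O _ W i := by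
      refine eq_of_chi fun i => ?_
      rw [hΨ, chi_sum]
      refine (hd i).trans ?_
      split_ifs with hi
      · rfl
      · exact hf i hi
    refine (hp W f c).symm.trans ?_
    rw [← e]
    exact congrArg (fun f : _ ⟶ G => f.val.app (op W) (∑ j ∈ f', d j • bsec O _ W j))
      (show Ψ ≫ P.generators.π = 0 by simp [Ψ])

end Groth.Agent.FModLib
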