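import Groth.Agent.FModLib.Local
import Groth.Agent.Adic7.Basic
import Mathlib.RingTheory.Nakayama
import Mathlib.RingTheory.AdicCompletion.Noetherian

/-!
# Generators and relations of a coherent system over an affine open
-/

set_option backward.isDefEq.respectTransparency false
set_option backward.isDefEq.respectTransparency.types false
set_option linter.style.haveILetI false

universe u

open CategoryTheory CategoryTheory.Limits AlgebraicGeometry TopologicalSpace Opposite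

noncomputable section

namespace Groth.Agent.FModLib

open FComplLib

/-- Submodules of a finite module over a complete Noetherian ring are closed. -/
theorem mem_of_forall_mem_sup {B M : Type*} [CommRing B] [IsNoetherianRing B] (I : Ideal B)
    [IsAdicComplete I B] [AddCommGroup M] [Module B M] [Module.Finite B M] (N : Submodule B M) (x : M)
    (hx : ∀ k : ℕ, x ∈ N ⊔ I ^ (k + 1) • (⊤ : Submodule B M)) : x ∈ N := by
  have hH : IsHausdorff I (M ⧸ N) := IsHausdorff.of_le_jacobson I _ (IsAdicComplete.le_jacobson_bot I)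
  refine (Submodule.Quotient.mk_eq_zero N).mp (hH.haus' _ fun k => SModEq.zero.mpr ?_)
  obtain ⟨a, ha, b, hb, rfl⟩ := Submodule.mem_sup.mp (hx k)
  rw [Submodule.Quotient.mk_add, (Submodule.Quotient.mk_eq_zero N).mpr ha, zero_add]
  have := Submodule.mem_map_of_mem (f := N.mkQ) hb
  rw [Submodule.map_smul''] at this
  exact Submodule.smul_mono (Ideal.pow_le_pow_right (Nat.le_succ k)) le_top this

variable {𝔛 : FSch.Sys.{u}} (h𝔛 : 𝔛.IsLocNoethFormal) (𝔐 : FSch.ModSys 𝔛)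

/-- The sections of the structure sheaf. -/
abbrev Rng (U : (𝔛.X 0).Opens) : Type u := (𝔛.Osh h𝔛.1).obj.obj (op U)

/-- Restriction of functions. -/
def rres {U V : (𝔛.X 0).Opens} (e : V ≤ U) : Rng h𝔛 U →+* Rng h𝔛 V :=
  ((𝔛.Osh h𝔛.1).obj.map (homOfLE e).op).hom

/-- Restriction of sections. -/
def sres {U V : (𝔛.X 0).Opens} (e : V ≤ U) (x : Sec h𝔛.1 𝔐 U) : Sec h𝔛.1 𝔐 V :=
  (𝔐.realMod h𝔛.1).val.map (homOfLE e).op x

theorem rres_rres {U V W : (𝔛.X 0).Opens} (e : V ≤ U) (e' : W ≤ V) (r : Rng h𝔛 U) :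
    rres h𝔛 e' (rres h𝔛 e r) = rres h𝔛 (e'.trans e) r :=
  (ConcreteCategory.congr_hom ((𝔛.Osh h𝔛.1).obj.map_comp (homOfLE e).op (homOfLE e').op) r).symm

theorem sres_sres {U V W : (𝔛.X 0).Opens} (e : V ≤ U) (e' : W ≤ V) (x : Sec h𝔛.1 𝔐 U) :
    sres h𝔛 𝔐 e' (sres h𝔛 𝔐 e x) = sres h𝔛 𝔐 (e'.trans e) x :=
  (ConcreteCategory.congr_hom ((𝔐.realMod h𝔛.1).val.presheaf.map_comp (homOfLE e).op (homOfLE e').op) x).symm

theorem pr_sres (k : ℕ) {U V : (𝔛.X 0).Opens} (e : V ≤ U) (x : Sec h𝔛.1 𝔐 U) :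
    pr h𝔛.1 𝔐 k V (sres h𝔛 𝔐 e x) =
      (𝔐.F k).presheaf.map (homOfLE (fun _ hy => e hy : 𝔛.lvU h𝔛.1 k V ≤ 𝔛.lvU h𝔛.1 k U)).op
        (pr h𝔛.1 𝔐 k U x) :=
  pr_res h𝔛.1 𝔐 k (homOfLE e) x

theorem rproj_rres (k : ℕ) {U V : (𝔛.X 0).Opens} (e : V ≤ U) (r : Rng h𝔛 U) :
    rproj h𝔛.1 k V (rres h𝔛 e r) =
      (𝔛.X k).presheaf.map (homOfLE (fun _ hy => e hy : 𝔛.lvU h𝔛.1 k V ≤ 𝔛.lvU h𝔛.1 k U)).op
        (rproj h𝔛.1 k U r) :=
  rproj_res h𝔛.1 k (homOfLE e) r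

theorem pr_sum_smul {ι : Type*} [Fintype ι] (k : ℕ) (U : (𝔛.X 0).Opens) (c : ι → Rng h𝔛 U)
    (t : ι → Sec h𝔛.1 𝔐 U) :
    pr h𝔛.1 𝔐 k U (∑ i, c i • t i) = ∑ i, rproj h𝔛.1 k U (c i) • pr h𝔛.1 𝔐 k U (t i) := by
  rw [map_sum]
  exact Finset.sum_congr rfl fun i _ => pr_smul h𝔛.1 𝔐 k U (c i) (t i)

/-- Generators and relations of a coherent system over an affine open, valid on basic opens. -/
theorem affGen (h𝔐 : 𝔐.IsCoh) {U : (𝔛.X 0).Opens} (hU : IsAffineOpen U) :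
    ∃ (n m : ℕ) (t : ULift.{u} (Fin n) → Sec h𝔛.1 𝔐 U)
      (g : ULift.{u} (Fin m) → ULift.{u} (Fin n) → Rng h𝔛 U),
      (∀ j, ∑ i, g j i • t i = 0) ∧
      (∀ y, ∃ c : ULift.{u} (Fin n) → Rng h𝔛 U, ∑ i, c i • t i = y) ∧
      (∀ (r : Rng h𝔛 U) (y : Sec h𝔛.1 𝔐 (basic h𝔛.1 U r)),
        ∃ c : ULift.{u} (Fin n) → Rng h𝔛 (basic h𝔛.1 U r),
          ∑ i, c i • sres h𝔛 𝔐 (basic_le h𝔛.1 U r) (t i) = y) ∧
      ∀ (r : Rng h𝔛 U) (c : ULift.{u} (Fin n) → Rng h𝔛 (basic h𝔛.1 U r)),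
        ∑ i, c i • sres h𝔛 𝔐 (basic_le h𝔛.1 U r) (t i) = 0 →
          ∃ d : ULift.{u} (Fin m) → Rng h𝔛 (basic h𝔛.1 U r),
            ∀ i, ∑ j, d j * rres h𝔛 (basic_le h𝔛.1 U r) (g j i) = c i := by
  classical
  obtain ⟨hN, hC, hK⟩ := affRing h𝔛 hU
  obtain ⟨hfin, hlev⟩ := affSec h𝔛 𝔐 h𝔐 hU
  obtain ⟨n, t₀, ht₀⟩ := Module.Finite.exists_fin (R := Rng h𝔛 U) (M := Sec h𝔛.1 𝔐 U)
  let t : ULift.{u} (Fin n) → Sec h𝔛.1 𝔐 U := fun i => t₀ i.down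
  have hsp : ∀ y, ∃ c : ULift.{u} (Fin n) → Rng h𝔛 U, ∑ i, c i • t i = y := fun y => by
    obtain ⟨c, hc⟩ := Submodule.mem_span_range_iff_exists_fun (Rng h𝔛 U) |>.mp (ht₀.ge (Submodule.mem_top : y ∈ ⊤))
    refine ⟨fun i => c i.down, ?_⟩
    rw [← hc]
    exact Fintype.sum_equiv Equiv.ulift _ _ fun i => rfl
  let φ : (ULift.{u} (Fin n) → Rng h𝔛 U) →ₗ[Rng h𝔛 U] Sec h𝔛.1 𝔐 U := Fintype.linearCombination _ t
  have hφ : ∀ c, φ c = ∑ i, c i • t i := fun c => Fintype.linearCombination_apply _ _ _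
  obtain ⟨m, g₀, hg₀⟩ := Submodule.fg_iff_exists_fin_generating_family.mp (IsNoetherian.noetherian (LinearMap.ker φ))
  let g : ULift.{u} (Fin m) → ULift.{u} (Fin n) → Rng h𝔛 U := fun j => g₀ j.down
  have hrel0 : ∀ j, ∑ i, g j i • t i = 0 := fun j => by
    rw [← hφ, ← LinearMap.mem_ker, ← hg₀]
    exact Submodule.subset_span ⟨j.down, rfl⟩
  have hK0 : ∀ c, φ c = 0 → ∃ d : ULift.{u} (Fin m) → Rng h𝔛 U, ∀ i, ∑ j, d j * g j i = c i := fun c hc => by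
    rw [← LinearMap.mem_ker, ← hg₀, Submodule.mem_span_range_iff_exists_fun] at hc
    obtain ⟨d, rfl⟩ := hc
    refine ⟨fun j => d j.down, fun i => ?_⟩
    rw [Finset.sum_apply]
    exact Fintype.sum_equiv Equiv.ulift _ _ fun j => rfl
  -- generators and relations on the levels
  have hlevgen : ∀ k (y : Γ(𝔐.F k, 𝔛.lvU h𝔛.1 k U)), ∃ c : ULift.{u} (Fin n) → Γ(𝔛.X k, 𝔛.lvU h𝔛.1 k U),
      ∑ i, c i • pr h𝔛.1 𝔐 k U (t i) = y := fun k y => by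
    obtain ⟨x, rfl⟩ := (hlev k).1 y
    obtain ⟨c, rfl⟩ := hsp x
    exact ⟨_, (pr_sum_smul h𝔛 𝔐 k U c t).symm⟩
  have hlevrel : ∀ k (c : ULift.{u} (Fin n) → Γ(𝔛.X k, 𝔛.lvU h𝔛.1 k U)),
      ∑ i, c i • pr h𝔛.1 𝔐 k U (t i) = 0 → ∃ d : ULift.{u} (Fin m) → Γ(𝔛.X k, 𝔛.lvU h𝔛.1 k U),
        ∀ i, ∑ j, d j * rproj h𝔛.1 k U (g j i) = c i := fun k c hc => by
    choose c' hc' using fun i => surjective_rproj h𝔛.1 k hU (c i)
    have h1 : φ c' ∈ RingHom.ker (rproj h𝔛.1 0 U) ^ (k + 1) • (⊤ : Submodule (Rng h𝔛 U) (Sec h𝔛.1 𝔐 U)) := by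
      rw [← (hlev k).2, hφ, pr_sum_smul]
      simpa only [hc'] using hc
    have htop : (⊤ : Submodule (Rng h𝔛 U) (Sec h𝔛.1 𝔐 U)) = Submodule.map φ ⊤ :=
      (Submodule.map_top φ ▸ (LinearMap.range_eq_top.mpr fun y => by
        obtain ⟨c, hc⟩ := hsp y
        exact ⟨c, (hφ c).trans hc⟩)).symm
    rw [htop, ← Submodule.map_smul''] at h1
    obtain ⟨e, he, hee⟩ := h1
    obtain ⟨d, hd⟩ := hK0 (c' - e) (by rw [map_sub, hee, sub_self])
    refine ⟨fun j => rproj h𝔛.1 k U (d j), fun i => ?_⟩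
    have he' : rproj h𝔛.1 k U (e i) = 0 := by
      have : e i ∈ RingHom.ker (rproj h𝔛.1 0 U) ^ (k + 1) := by
        refine Submodule.smul_induction_on (p := fun z => z i ∈ RingHom.ker (rproj h𝔛.1 0 U) ^ (k + 1)) he
          (fun a ha b _ => ?_) (fun a b ha hb => add_mem ha hb)
        exact Ideal.mul_mem_right _ _ ha
      rw [← hK k] at this
      exact this
    simp only [← map_mul, ← map_sum, hd i, Pi.sub_apply, map_sub, he', hc', sub_zero]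
  refine ⟨n, m, t, g, hrel0, hsp, fun r y => ?_, fun r c hc => ?_⟩
  all_goals have hV := isAffineOpen_basic h𝔛.1 hU r
  all_goals obtain ⟨hNV, hCV, hKV⟩ := affRing h𝔛 hV
  all_goals obtain ⟨hfinV, hlevV⟩ := affSec h𝔛 𝔐 h𝔐 hV
  · let V := basic h𝔛.1 U r
    let N := Submodule.span (Rng h𝔛 V) (Set.range fun i => sres h𝔛 𝔐 (basic_le h𝔛.1 U r) (t i))
    have hy : (⊤ : Submodule (Rng h𝔛 V) (Sec h𝔛.1 𝔐 V)) ≤ N := by
      refine Submodule.le_of_le_smul_of_le_jacobson_bot (I := RingHom.ker (rproj h𝔛.1 0 V)) hfinV.fg_top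
        (IsAdicComplete.le_jacobson_bot _) fun z _ => ?_
      obtain ⟨c, hc⟩ := gen_basic (h𝔐 0).1 (isAffineOpen_lvU h𝔛.1 0 hU) (rproj h𝔛.1 0 U r)
        (lvU_basic h𝔛.1 0 U r) (fun _ hx => basic_le h𝔛.1 U r hx) (fun i => pr h𝔛.1 𝔐 0 U (t i))
        (hlevgen 0) (pr h𝔛.1 𝔐 0 V z)
      choose c' hc' using fun i => surjective_rproj h𝔛.1 0 hV (c i)
      refine Submodule.mem_sup.mpr ⟨∑ i, c' i • sres h𝔛 𝔐 (basic_le h𝔛.1 U r) (t i),
        Submodule.sum_mem _ fun i _ => Submodule.smul_mem _ _ (Submodule.subset_span ⟨i, rfl⟩),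
        z - ∑ i, c' i • sres h𝔛 𝔐 (basic_le h𝔛.1 U r) (t i), ?_, add_sub_cancel _ _⟩
      rw [← pow_one (RingHom.ker (rproj h𝔛.1 0 V)), ← (hlevV 0).2, map_sub, pr_sum_smul h𝔛, sub_eq_zero]
      simp only [hc', pr_sres h𝔛]
      exact hc.symm
    exact (Submodule.mem_span_range_iff_exists_fun _).mp (hy Submodule.mem_top)
  · let V := basic h𝔛.1 U r
    let N := Submodule.span (Rng h𝔛 V)
      (Set.range fun j => fun i => rres h𝔛 (basic_le h𝔛.1 U r) (g j i))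
    haveI := hCV
    have hcN : c ∈ N := by
      refine mem_of_forall_mem_sup (RingHom.ker (rproj h𝔛.1 0 V)) N c fun k => ?_
      obtain ⟨d, hd⟩ := rel_basic (h𝔐 k).1 (isAffineOpen_lvU h𝔛.1 k hU) (rproj h𝔛.1 k U r)
        (lvU_basic h𝔛.1 k U r) (fun _ hx => basic_le h𝔛.1 U r hx) (fun i => pr h𝔛.1 𝔐 k U (t i))
        (fun j i => rproj h𝔛.1 k U (g j i)) (hlevrel k) (fun i => rproj h𝔛.1 k V (c i)) (by
          refine Eq.trans ?_ ((congrArg (pr h𝔛.1 𝔐 k V) hc).trans (map_zero _))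
          rw [pr_sum_smul]
          exact Finset.sum_congr rfl fun i _ => congrArg (rproj h𝔛.1 k V (c i) • ·) (pr_sres h𝔛 𝔐 k _ (t i)).symm)
      choose d' hd' using fun j => surjective_rproj h𝔛.1 k hV (d j)
      refine Submodule.mem_sup.mpr ⟨∑ j, d' j • fun i => rres h𝔛 (basic_le h𝔛.1 U r) (g j i),
        Submodule.sum_mem _ fun j _ => Submodule.smul_mem _ _ (Submodule.subset_span ⟨j, rfl⟩),
        c - ∑ j, d' j • fun i => rres h𝔛 (basic_le h𝔛.1 U r) (g j i), ?_, add_sub_cancel _ _⟩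
      rw [pi_eq_sum_univ (c - _)]
      refine Submodule.sum_mem _ fun i _ => Submodule.smul_mem_smul ?_ Submodule.mem_top
      rw [← hKV k, RingHom.mem_ker, Pi.sub_apply, Finset.sum_apply, map_sub, map_sum, sub_eq_zero]
      refine (hd i).symm.trans (Finset.sum_congr rfl fun j _ => ?_)
      rw [Pi.smul_apply, smul_eq_mul, map_mul, hd', rproj_rres]
    obtain ⟨d, rfl⟩ := (Submodule.mem_span_range_iff_exists_fun _).mp hcN
    exact ⟨d, fun i => by rw [Finset.sum_apply]; rfl⟩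

end Groth.Agent.FModLib
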