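import Groth.Agent.FModLib.LimH

/-!
# The cohomology of a limit, with its canonical projections
-/

set_option linter.style.haveILetI false
set_option backward.isDefEq.respectTransparency false
set_option backward.isDefEq.respectTransparency.types false

universe u

open CategoryTheory CategoryTheory.Limits TopologicalSpace Opposite Abelian DerivedCategory

noncomputable section

namespace Groth.Agent.FModLib

open Groth.Agent

open Pretriangulated in
/-- A derived limit of objects of a full subcategory in degree zero is the limit. -/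
theorem rlim_cone_iso {C T : Type*} [Category C] [Preadditive C] [Category T] [Preadditive T] [HasZeroObject T]
    [HasShift T ℤ] [∀ n : ℤ, (shiftFunctor T n).Additive] [Pretriangulated T] (Φ : C ⥤ T) [Φ.Full] [Φ.Faithful]
    [Φ.Additive] {F : ℕ → C} {t : ∀ n, F (n + 1) ⟶ F n} {L : C} (π : ∀ n, L ⟶ F n)
    (hπ : ∀ n, π (n + 1) ≫ t n = π n)
    (hlift : ∀ g : ∀ n, L ⟶ F n, (∀ n, g (n + 1) ≫ t n = g n) → ∃ φ : L ⟶ L, ∀ n, φ ≫ π n = g n)
    (hext : ∀ u v : L ⟶ L, (∀ n, u ≫ π n = v ≫ π n) → u = v)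
    [HasProduct fun n => Φ.obj (F n)] {a : ∀ n, Φ.obj L ⟶ Φ.obj (F n)}
    (hL : CohCx.IsRlimVia (fun n => Φ.obj (F n)) (fun n => Φ.map (t n)) (Φ.obj L) a)
    (hneg : ∀ n, ∀ b : Φ.obj L ⟶ (Φ.obj (F n))⟦(0 : ℤ) - 1⟧, b = 0) :
    ∃ φ : L ⟶ L, IsIso φ ∧ ∀ n, Φ.map (φ ≫ π n) = a n := by
  choose g hg using fun n => Φ.map_surjective (a n)
  have hgt : ∀ n, g (n + 1) ≫ t n = g n := fun n => Φ.map_injective (by
    rw [Functor.map_comp, hg, hg]
    exact DLim.rlim_comp_t hL n)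
  obtain ⟨φ, hφ⟩ := hlift g hgt
  let s := shiftFunctorZero T ℤ
  have hn : ∀ {P Q : T} (f : P ⟶ Q), s.inv.app P ≫ f⟦(0 : ℤ)⟧' = f ≫ s.inv.app Q := fun f => (s.inv.naturality f).symm
  obtain ⟨y, hy⟩ := DLim.rlim_exists_lift hL 0 (S := Φ.obj L) (fun n => Φ.map (π n) ≫ s.inv.app (Φ.obj (F n)))
    (fun n => by rw [Category.assoc, hn, ← Functor.map_comp_assoc, hπ])
  obtain ⟨ψ, hψ⟩ := Φ.map_surjective (y ≫ s.hom.app (Φ.obj L))
  have hψg : ∀ n, ψ ≫ g n = π n := fun n => Φ.map_injective (by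
    rw [Functor.map_comp, hψ, hg, Category.assoc]
    refine ((congrArg (y ≫ ·) (s.hom.naturality (a n)).symm).trans ?_)
    rw [reassoc_of% hy n, s.inv_hom_id_app]
    exact Category.comp_id _)
  refine ⟨φ, ⟨ψ, ?_, hext _ _ fun n => by rw [Category.assoc, hφ, hψg, Category.id_comp]⟩, fun n => by rw [hφ, hg]⟩
  rw [← sub_eq_zero]
  refine Φ.map_injective ?_
  rw [Functor.map_zero, ← cancel_mono (s.inv.app (Φ.obj L)), zero_comp]
  refine DLim.rlim_eq_zero hL 0 (fun b => ⟨fun _ => 0, fun n => ?_⟩) _ fun n => ?_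
  · rw [zero_comp, sub_zero, hneg n (b n)]
  · rw [Category.assoc, hn, ← hg, ← Functor.map_comp_assoc, Preadditive.sub_comp, Category.assoc, hψg, hφ,
      Category.id_comp, sub_self, Functor.map_zero, zero_comp]

variable {X : TopCat.{u}} [HasDerivedCategory.{u} (CohTop.Ab X)]

theorem single_zero_of_neg {P Q : CohTop.Ab X}
    (b : (singleFunctor (CohTop.Ab X) 0).obj P ⟶ ((singleFunctor (CohTop.Ab X) 0).obj Q)⟦(0 : ℤ) - 1⟧) : b = 0 :=
  haveI : (((singleFunctor (CohTop.Ab X) 0).obj Q)⟦(0 : ℤ) - 1⟧).IsGE 1 :=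
    DerivedCategory.TStructure.t.isGE_shift ((singleFunctor (CohTop.Ab X) 0).obj Q) 0 ((0 : ℤ) - 1) 1 (by simp)
  DerivedCategory.TStructure.t.zero_of_isLE_of_isGE b 0 1 (by lia) inferInstance inferInstance

/-- The cohomology of the limit of a system acyclic on a basis with surjective transition maps is the
limit of the cohomology through the projections, when the system one degree below has no `lim¹`. -/
theorem H_lim_canonical (F : ℕ → CohTop.Ab X) (t : ∀ n, F (n + 1) ⟶ F n) (B : Set (Opens X)) (hB : Opens.IsBasis B)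
    (h1 : ∀ U ∈ B, ∀ (p n : ℕ), Subsingleton (CohTop.HU (F n) (p + 1) U))
    (h2 : ∀ U ∈ B, CohCx.LimOneIsZero (fun n => (F n).obj.obj (op U))
      (fun n => ((t n).hom.app (op U)).hom))
    (p : ℕ) (hML : ∀ q : ℕ, q + 1 = p → CohCx.LimOneIsZero (fun k => Sheaf.H (F k) q) (fun k => Sheaf.H.map (t k) q)) :
    (∀ y : Sheaf.H (limit (CohCx.opSequence F t)) p,
      (∀ k, Sheaf.H.map (limit.π (CohCx.opSequence F t) (op k)) p y = 0) → y = 0) ∧
    (∀ x : ∀ k, Sheaf.H (F k) p, (∀ k, Sheaf.H.map (t k) p (x (k + 1)) = x k) →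
      ∃ y : Sheaf.H (limit (CohCx.opSequence F t)) p, ∀ k, Sheaf.H.map (limit.π (CohCx.opSequence F t) (op k)) p y = x k) := by
  let Φ := singleFunctor (CohTop.Ab X) 0
  haveI : HasProduct fun n => Φ.obj (F n) := DLim.hasProduct_nat _
  obtain ⟨⟨a₀, c, hT⟩, -⟩ := DLim.isRlim_single F t (DLim.isCoveredBy_of_isBasis hB) h1 h2
  let a : ∀ n, Φ.obj (limit (CohCx.opSequence F t)) ⟶ Φ.obj (F n) := fun n => a₀ ≫ Pi.π _ n
  have hL : CohCx.IsRlimVia (fun n => Φ.obj (F n)) (fun n => Φ.map (t n)) (Φ.obj (limit (CohCx.opSequence F t))) a := by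
    refine ⟨c, ?_⟩
    rw [show Pi.lift a = a₀ from Pi.hom_ext _ _ fun n => Pi.lift_π _ _]
    exact hT
  let D := CohCx.opSequence F t
  have hπt : ∀ n, limit.π D (op (n + 1)) ≫ t n = limit.π D (op n) := fun n => by
    have h := limit.w D (homOfLE (Nat.le_add_right n 1)).op
    erw [Functor.ofOpSequence_map_homOfLE_succ] at h
    exact h
  obtain ⟨φ, hφiso, hφ⟩ := rlim_cone_iso (F := F) (t := t) Φ (fun n => limit.π D (op n)) hπt
    (fun g hg => ⟨limit.lift D ⟨_, NatTrans.ofOpSequence g fun n => by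
        erw [Functor.ofOpSequence_map_homOfLE_succ]
        exact (Category.id_comp _).trans (hg n).symm⟩, fun n => limit.lift_π _ _⟩)
    (fun u v h => limit.hom_ext fun n => h n.unop) hL (fun n b => single_zero_of_neg b)
  have key : ∀ (k : ℕ) (z : Sheaf.H (limit D) p),
      Ext.homAddEquiv (Sheaf.H.map (limit.π D (op k)) p (Sheaf.H.map φ p z)) =
        (Ext.homAddEquiv z ≫ (a k)⟦(p : ℤ)⟧' : Φ.obj (cst X) ⟶ (Φ.obj (F k))⟦(p : ℤ)⟧) := fun k z => by
    rw [← Sheaf.H.map_comp_apply, hom_map, hφ]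
  have hone : ∀ b : ∀ n, Φ.obj (cst X) ⟶ (Φ.obj (F n))⟦(p : ℤ) - 1⟧, ∃ w : ∀ n, Φ.obj (cst X) ⟶ (Φ.obj (F n))⟦(p : ℤ) - 1⟧,
      ∀ n, w n - w (n + 1) ≫ (Φ.map (t n))⟦(p : ℤ) - 1⟧' = b n := by
    intro b
    rcases p with _ | q
    · refine ⟨fun _ => 0, fun k => ?_⟩
      rw [zero_comp, sub_zero]
      exact (single_zero_of_neg (b k)).symm
    · exact hom_lim_one q _ (by simp) (hML q rfl) b
  refine ⟨fun y' hy' => ?_, fun x hx => ?_⟩
  · obtain ⟨z, rfl⟩ : ∃ z, Sheaf.H.map φ p z = y' := ⟨Sheaf.H.map (inv φ) p y', by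
      rw [← Sheaf.H.map_comp_apply, IsIso.inv_hom_id, Sheaf.H.map_id_apply]⟩
    have hz : Ext.homAddEquiv z = 0 := DLim.rlim_eq_zero hL (p : ℤ) hone _ fun k => by
      rw [← key, hy' k, map_zero]
    rw [Ext.homAddEquiv.map_eq_zero_iff.1 hz, map_zero]
  · obtain ⟨z, hz⟩ := DLim.rlim_exists_lift hL (p : ℤ) (fun k => Ext.homAddEquiv (x k)) fun k => by
      rw [← hom_map, hx k]
    refine ⟨Sheaf.H.map φ p (Ext.homAddEquiv.symm z), fun k => Ext.homAddEquiv.injective ?_⟩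
    rw [key, AddEquiv.apply_symm_apply]
    exact hz k

end Groth.Agent.FModLib
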