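import Groth.Agent.FModLib.MLCore
import Groth.Prelude.Def_CohCx

/-!
# A Mittag-Leffler sequence has no `lim¹`
-/

universe u

namespace Groth.Agent.FModLib

variable {W : ℕ → Type u} [∀ k, AddCommGroup (W k)] (t : ∀ k, W (k + 1) →+ W k)

/-- Iterated images. -/
def iterIm : ℕ → (∀ k, Set (W k)) → ∀ k, Set (W k)
  | 0, F => F
  | d + 1, F => iterIm d fun k => t k '' F (k + 1)

theorem iterIm_succ : ∀ (d : ℕ) (F : ∀ k, Set (W k)) (n : ℕ), iterIm t (d + 1) F n = t n '' iterIm t d F (n + 1)
  | 0, _, _ => rfl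
  | d + 1, F, n => iterIm_succ d (fun k => t k '' F (k + 1)) n

/-- Finite partial sums. -/
def partSum (b : ∀ k, W k) : ℕ → ∀ k, W k
  | 0, _ => 0
  | d + 1, k => b k + t k (partSum b d (k + 1))

theorem partSum_succ_sub (b : ∀ k, W k) : ∀ (d n : ℕ),
    partSum t b (d + 1) n - partSum t b d n ∈ iterIm t d (fun _ => Set.univ) n
  | 0, _ => trivial
  | d + 1, n => by
    rw [iterIm_succ]
    refine ⟨_, partSum_succ_sub b d (n + 1), ?_⟩
    rw [map_sub]
    exact (add_sub_add_left_eq_sub _ _ _).symm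

/-- A system with stationary images has no `lim¹`. -/
theorem limOne_of_iterIm (S : ∀ n, AddSubgroup (W n)) (r : ℕ → ℕ)
    (h : ∀ n d, r n ≤ d → iterIm t d (fun _ => Set.univ) n = (S n : Set (W n))) : CohCx.LimOneIsZero W t := by
  intro b
  let N : ℕ → ℕ := fun n => ∑ m ∈ Finset.range (n + 1), r m
  have hN : ∀ n, N n ≤ N (n + 1) := fun n => by
    show N n ≤ ∑ m ∈ Finset.range (n + 1 + 1), r m
    rw [Finset.sum_range_succ]
    exact Nat.le_add_right _ _
  have hrN : ∀ n, r n ≤ N n := fun n =>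
    Finset.single_le_sum (fun m _ => Nat.zero_le (r m)) (Finset.self_mem_range_succ n)
  have hsub : ∀ n a c, r n ≤ a → a ≤ c → partSum t b c n - partSum t b a n ∈ S n := by
    intro n a c ha hac
    induction c, hac using Nat.le_induction with
    | base => rw [sub_self]; exact zero_mem _
    | succ c hc ih =>
      have h1 : partSum t b (c + 1) n - partSum t b c n ∈ (S n : Set (W n)) :=
        h n c (ha.trans hc) ▸ partSum_succ_sub t b c n
      have h2 := add_mem h1 ih
      rwa [sub_add_sub_cancel] at h2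
  have hsurj : ∀ n, ∀ x ∈ S n, ∃ y ∈ S (n + 1), t n y = x := by
    intro n x hx
    have hd := h n (max (r n) (r (n + 1)) + 1) (Nat.le_succ_of_le (le_max_left _ _))
    rw [iterIm_succ, h (n + 1) _ (le_max_right _ _)] at hd
    exact (hd.symm ▸ hx : x ∈ t n '' (S (n + 1) : Set (W (n + 1))))
  choose g hg hgt using hsurj
  let e : ∀ n, S n := fun n => ⟨partSum t b (N (n + 1) + 1) n - partSum t b (N n) n,
    hsub n _ _ (hrN n) (Nat.le_succ_of_le (hN n))⟩
  let v : ∀ n, S n := fun n => Nat.rec (motive := fun n => S n) 0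
    (fun m vm => ⟨g m ((vm : W m) - (e m : W m)) (sub_mem vm.2 (e m).2), hg _ _ _⟩) n
  refine ⟨fun n => partSum t b (N n) n + (v n : W n), funext fun n => ?_⟩
  have hv : t n (v (n + 1) : W (n + 1)) = (v n : W n) - (e n : W n) := hgt _ _ _
  show partSum t b (N n) n + (v n : W n) - t n (partSum t b (N (n + 1)) (n + 1) + (v (n + 1) : W (n + 1))) = b n
  rw [map_add, hv]
  show _ - (_ + (_ - (b n + t n (partSum t b (N (n + 1)) (n + 1)) - partSum t b (N n) n))) = b n
  abel

theorem image_trs {A : Type u} [CommRing A] [∀ k, Module A (W k)] (tl : ∀ k, W (k + 1) →ₗ[A] W k) :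
    ∀ (d j : ℕ) (F : ∀ k, Set (W k)),
      MLCore.trs tl d j '' F (j + d) = iterIm (fun k => (tl k).toAddMonoidHom) d F j
  | 0, j, F => Set.image_id (F j)
  | d + 1, j, F => by
    refine Eq.trans ?_ (image_trs tl d j fun k => (tl k).toAddMonoidHom '' F (k + 1))
    exact Set.image_comp (MLCore.trs tl d j) (tl (j + d)) (F (j + d + 1))

theorem limOne_of_range {A : Type u} [CommRing A] [∀ k, Module A (W k)] (tl : ∀ k, W (k + 1) →ₗ[A] W k)
    (h : ∀ j, ∃ r₀, ∀ d, r₀ ≤ d → LinearMap.range (MLCore.trs tl d j) = LinearMap.range (MLCore.trs tl r₀ j)) :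
    CohCx.LimOneIsZero W fun k => (tl k).toAddMonoidHom := by
  choose r hr using h
  refine limOne_of_iterIm _ (fun n => (LinearMap.range (MLCore.trs tl (r n) n)).toAddSubgroup) r fun n d hd => ?_
  rw [← image_trs tl d n (fun _ => Set.univ), Set.image_univ]
  exact congrArg SetLike.coe (hr n d hd)

end Groth.Agent.FModLib
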