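import Groth.Agent.FModLib.MLTrans
import Groth.Agent.FModLib.LimHCan
import Groth.Agent.FModLib.LimOneML
import Groth.Agent.FModLib.AffSec
import Groth.Agent.SiteBase.CoLift
import Groth.Agent.SiteBase.CechPost
import Groth.Agent.SiteBase.DLim.Single
import Groth.Agent.SiteBase.ModColim
import Groth.Agent.QCoh.Bound
import Groth.Agent.H9Misc.BrownGroth
import Groth.Agent.TriCat.KInjRes

/-!
# The cohomology of a coherent module on a proper formal scheme as the limit of the levels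
-/

set_option linter.style.haveILetI false
set_option backward.isDefEq.respectTransparency false
set_option backward.isDefEq.respectTransparency.types false

universe u

open CategoryTheory CategoryTheory.Limits AlgebraicGeometry TopologicalSpace Opposite Topology

noncomputable section

namespace Groth.Agent.FModLib

open Groth.Agent

theorem isCocontinuous_map {Z X : TopCat.{u}} (g : Z ⟶ X) [IsIso g] :
    (Opens.map g).IsCocontinuous (Opens.grothendieckTopology X) (Opens.grothendieckTopology Z) := by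
  refine ⟨fun {U} S hS => ?_⟩
  intro x hx
  have hgi : ∀ y, g (inv g y) = y := fun y => ConcreteCategory.congr_hom (IsIso.inv_hom_id g) y
  have hig : ∀ z, inv g (g z) = z := fun z => ConcreteCategory.congr_hom (IsIso.hom_inv_id g) z
  have hz : g (inv g x) = x := hgi x
  obtain ⟨V, i, hi, hxV⟩ := hS (inv g x) (show g (inv g x) ∈ U by rw [hz]; exact hx)
  let W : Opens X := (Opens.map (inv g)).obj V
  have hWU : W ≤ U := fun y hy => by
    have h1 : g (inv g y) ∈ U := i.le hy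
    rwa [hgi y] at h1
  have hgW : (Opens.map g).obj W ≤ V := fun z hz' => by
    have h1 : inv g (g z) ∈ V := hz'
    rwa [hig z] at h1
  refine ⟨W, homOfLE hWU, ?_, hxV⟩
  show S ((Opens.map g).map (homOfLE hWU))
  rw [show (Opens.map g).map (homOfLE hWU) = homOfLE hgW ≫ i from Subsingleton.elim _ _]
  exact S.downward_closed hi _

variable {A : Type u} [CommRing A] {J : Ideal A} {𝔛 : FSch.Sys.{u}} (h𝔛 : 𝔛.IsLocNoethFormal)
  (f : 𝔛 ⟶ FSch.spf A J) (hf : FSch.IsProperHom f) (𝔉 : FSch.ModF 𝔛 h𝔛.1) (h𝔉 : FSch.IsCohF 𝔛 h𝔛.1 𝔉)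

/-- The levels as abelian sheaves on the common space. -/
abbrev levAb (k : ℕ) : CohTop.Ab (𝔛.X 0).toPresheafedSpace.carrier :=
  (SheafOfModules.toSheaf _).obj ((FSch.levelMor 𝔛 h𝔛.1 k).push.obj ((FSch.levelMor 𝔛 h𝔛.1 k).pull.obj 𝔉))

/-- Their transitions. -/
abbrev levAbTrans (k : ℕ) : levAb h𝔛 𝔉 (k + 1) ⟶ levAb h𝔛 𝔉 k :=
  (SheafOfModules.toSheaf _).map (FSch.levelTrans 𝔛 h𝔛.1 𝔉 k)

include h𝔉 in
theorem subsingleton_HU_levAb {U : (𝔛.X 0).Opens} (hU : IsAffineOpen U) (q k : ℕ) :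
    Subsingleton (CohTop.HU (levAb h𝔛 𝔉 k) (q + 1) U) := by
  haveI := isCocontinuous_map (𝔛.gInv h𝔛.1 k)
  haveI : (Opens.map (𝔛.gInv h𝔛.1 k)).IsEquivalence :=
    inferInstanceAs (Opens.mapMapIso (asIso (𝔛.gInv h𝔛.1 k))).functor.IsEquivalence
  obtain ⟨e⟩ := SiteBase.nonempty_HU_push_addEquiv (J := Opens.grothendieckTopology (𝔛.X k).toPresheafedSpace.carrier)
    (K := Opens.grothendieckTopology (𝔛.X 0).toPresheafedSpace.carrier) (Opens.map (𝔛.gInv h𝔛.1 k)) U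
    (fun I _ q => SiteBase.subsingleton_HU_push_injective (Opens.map (𝔛.gInv h𝔛.1 k))
      (Opens.grothendieckTopology (𝔛.X 0).toPresheafedSpace.carrier)
      (Opens.grothendieckTopology (𝔛.X k).toPresheafedSpace.carrier) I U q)
    (Coh.toAb (lev h𝔛.1 k 𝔉)) (q + 1)
  exact @Equiv.subsingleton _ _ e.toEquiv
    (QCoh.subsingleton_HU_of_isAffineOpen (isCoh_levSys h𝔛 𝔉 h𝔉 k).1 (isAffineOpen_lvU h𝔛.1 k hU) q)

include h𝔉 in
theorem surjective_levAb {U : (𝔛.X 0).Opens} (hU : IsAffineOpen U) (k : ℕ) :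
    Function.Surjective ((levAbTrans h𝔛 𝔉 k).hom.app (op U)).hom := by
  intro y
  obtain ⟨x, hx⟩ := (tr_surjective_and_ker h𝔛 (levSys h𝔛.1 𝔉) (isCoh_levSys h𝔛 𝔉 h𝔉) k hU).1 y
  refine ⟨x, Eq.trans ?_ hx⟩
  exact congrArg (fun φ : (FSch.levelMor 𝔛 h𝔛.1 (k + 1)).push.obj _ ⟶ _ => φ.val.app (op U) x)
    (levelTrans_eq h𝔛.1 𝔉 k).symm

include hf h𝔉 in
set_option maxHeartbeats 1000000 in
theorem limOne_levAb [IsNoetherianRing A] (q : ℕ) :
    CohCx.LimOneIsZero (fun k => Sheaf.H (levAb h𝔛 𝔉 k) q) (fun k => Sheaf.H.map (levAbTrans h𝔛 𝔉 k) q) := by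
  intro b
  have hs : ∀ k, Function.Surjective (eC h𝔛 𝔉 k q) := fun k => (ExtShX.pushHMap_bijective _ q _).2
  choose b' hb' using fun k => hs k (b k)
  obtain ⟨w, hw⟩ := limOne_of_range (W := fun k => Coh.HH ((adicOf f hf).X k) (lev h𝔛.1 k 𝔉) q) (A := A)
    (fun k => trH (adicModOf h𝔛 f hf 𝔉 h𝔉) q k)
    (fun j => exists_range_trsH_eq (adicModOf h𝔛 f hf 𝔉 h𝔉) q hf.2 j) b'
  refine ⟨fun k => eC h𝔛 𝔉 k q (w k), funext fun k => ?_⟩
  refine Eq.trans ?_ (hb' k)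
  refine Eq.trans ?_ (congrArg (eC h𝔛 𝔉 k q) (congrFun hw k))
  exact (congrArg (eC h𝔛 𝔉 k q (w k) - ·) (eC_trans h𝔛 f hf 𝔉 h𝔉 k q (w (k + 1)))).trans (map_sub _ _ _).symm

include h𝔉 in
theorem exists_iso_limit : ∃ E : (SheafOfModules.toSheaf _).obj 𝔉 ≅ limit (CohCx.opSequence (levAb h𝔛 𝔉) (levAbTrans h𝔛 𝔉)),
    ∀ k, E.hom ≫ limit.π (CohCx.opSequence (levAb h𝔛 𝔉) (levAbTrans h𝔛 𝔉)) (op k) =
      (SheafOfModules.toSheaf _).map ((FSch.levelMor 𝔛 h𝔛.1 k).adj.unit.app 𝔉) := by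
  haveI := isIso_toReal h𝔛 𝔉 h𝔉
  let D₀ := FSch.levelSysOf 𝔛 h𝔛.1 (levSys h𝔛.1 𝔉).F (levSys h𝔛.1 𝔉).toPush
  let T := SheafOfModules.toSheaf.{u} (ModSite.ringSh (𝔛.Osh h𝔛.1))
  haveI := SiteBase.preservesLimitsOfSize_toSheaf (R := ModSite.ringSh (𝔛.Osh h𝔛.1))
  haveI : PreservesLimitsOfSize.{0, 0} T := preservesLimitsOfSize_shrink.{0, u, 0, u} _
  let D := CohCx.opSequence (levAb h𝔛 𝔉) (levAbTrans h𝔛 𝔉)
  let c : D₀ ⋙ T ⟶ D :=
    NatTrans.ofOpSequence (fun n => 𝟙 _) fun n => by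
      refine (Category.comp_id _).trans (Eq.trans ?_ (Category.id_comp _).symm)
      refine (congrArg T.map ((FSch.levelSysOf_map_succ 𝔛 h𝔛.1 _ _ n).trans (levelTrans_eq h𝔛.1 𝔉 n))).trans ?_
      exact (Functor.ofOpSequence_map_homOfLE_succ (X := levAb h𝔛 𝔉) (levAbTrans h𝔛 𝔉) n).symm
  haveI : ∀ n : ℕᵒᵖ, IsIso (c.app n) := fun n => inferInstanceAs (IsIso (𝟙 _))
  haveI : IsIso c := NatIso.isIso_of_isIso_app c
  let e₁ : T.obj 𝔉 ≅ T.obj (limit D₀) := T.mapIso (asIso (toReal h𝔛.1 𝔉) : 𝔉 ≅ limit D₀)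
  refine ⟨e₁ ≪≫ preservesLimitIso T D₀ ≪≫ HasLimit.isoOfNatIso (asIso c), fun k => ?_⟩
  rw [Iso.trans_hom, Iso.trans_hom, Category.assoc, Category.assoc, HasLimit.isoOfNatIso_hom_π,
    preservesLimitIso_hom_π_assoc]
  refine (congrArg (fun x => e₁.hom ≫ x) (Category.comp_id _)).trans ?_
  exact (T.map_comp (toReal h𝔛.1 𝔉) _).symm.trans (congrArg T.map (toReal_proj h𝔛.1 𝔉 k))

include hf h𝔉 in
theorem hF_to_levels_bijective [IsNoetherianRing A] (n : ℕ) :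
    (∀ x : FSch.HF 𝔛 h𝔛.1 𝔉 n,
      (∀ k : ℕ, Sheaf.H.map ((SheafOfModules.toSheaf _).map ((FSch.levelMor 𝔛 h𝔛.1 k).adj.unit.app 𝔉)) n x = 0) → x = 0) ∧
    (∀ y : ∀ k : ℕ, FSch.HF 𝔛 h𝔛.1 ((FSch.levelMor 𝔛 h𝔛.1 k).push.obj ((FSch.levelMor 𝔛 h𝔛.1 k).pull.obj 𝔉)) n,
      (∀ k : ℕ, Sheaf.H.map ((SheafOfModules.toSheaf _).map (FSch.levelTrans 𝔛 h𝔛.1 𝔉 k)) n (y (k + 1)) = y k) →
      ∃ x : FSch.HF 𝔛 h𝔛.1 𝔉 n, ∀ k : ℕ,
        Sheaf.H.map ((SheafOfModules.toSheaf _).map ((FSch.levelMor 𝔛 h𝔛.1 k).adj.unit.app 𝔉)) n x = y k) := by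
  letI : HasDerivedCategory.{u} (CohTop.Ab (𝔛.X 0).toPresheafedSpace.carrier) :=
    Groth.Agent.H9Misc.BrownGroth.smallDerived _ fun K => by
      obtain ⟨I, s, hI, hs, -, -⟩ := Groth.Agent.TriCat.exists_kInjective_resolution'.{u} K
      exact ⟨I, s, hI, hs⟩
  obtain ⟨E, hE⟩ := exists_iso_limit h𝔛 𝔉 h𝔉
  obtain ⟨hi, hs⟩ := H_lim_canonical (levAb h𝔛 𝔉) (levAbTrans h𝔛 𝔉) {U | IsAffineOpen U} (𝔛.X 0).isBasis_affineOpens
    (fun U hU q k => subsingleton_HU_levAb h𝔛 𝔉 h𝔉 hU q k)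
    (fun U hU b => by
      obtain ⟨w, hw⟩ := DLim.limOne_of_eventually_surjective 0 (fun k => (levAb h𝔛 𝔉 k).obj.obj (op U))
        (fun k => ((levAbTrans h𝔛 𝔉 k).hom.app (op U)).hom) (fun k _ => surjective_levAb h𝔛 𝔉 h𝔉 hU k) b
      exact ⟨w, funext hw⟩)
    n (fun q _ => limOne_levAb h𝔛 f hf 𝔉 h𝔉 q)
  refine ⟨fun x hx => ?_, fun y hy => ?_⟩
  · have h0 := hi (Sheaf.H.map E.hom n x) fun k => by
      rw [← Sheaf.H.map_comp_apply, hE k]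
      exact hx k
    have h1 := congrArg (Sheaf.H.map E.inv n) h0
    rwa [map_zero, ← Sheaf.H.map_comp_apply, E.hom_inv_id, Sheaf.H.map_id_apply] at h1
  · obtain ⟨z, hz⟩ := hs y hy
    refine ⟨Sheaf.H.map E.inv n z, fun k => ?_⟩
    refine ((Sheaf.H.map_comp_apply _ _ _).symm.trans ?_).trans (hz k)
    exact congrArg (fun φ => Sheaf.H.map φ n z)
      ((congrArg (E.inv ≫ ·) (hE k).symm).trans (E.inv_hom_id_assoc _))

end Groth.Agent.FModLib
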