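import Groth.Agent.FModLib.Coh
import Groth.Agent.QCoh.Sections

/-!
# The levels of the module of a coherent system
-/

set_option backward.isDefEq.respectTransparency false
set_option backward.isDefEq.respectTransparency.types false
set_option linter.style.haveILetI false

universe u

open CategoryTheory CategoryTheory.Limits AlgebraicGeometry TopologicalSpace Opposite

noncomputable section

namespace Groth.Agent.FModLib

variable {𝔛 : FSch.Sys.{u}} (h : 𝔛.IsFormal) (k : ℕ)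

/-- The open of the common space corresponding to an open of a level. -/
def lowU (A : (𝔛.X k).Opens) : (𝔛.X 0).Opens := (𝔛.toX k) ⁻¹ᵁ A

theorem lvU_lowU (A : (𝔛.X k).Opens) : 𝔛.lvU h k (lowU k A) = A := by
  change (Opens.map (𝔛.gInv h k ≫ (𝔛.toX k).base)).obj A = A
  rw [FSch.Sys.gInv_toX_base]
  rfl

theorem lowU_mono {A B : (𝔛.X k).Opens} (e : B ≤ A) : lowU k B ≤ lowU k A := fun _ hx => e hx

theorem gInv_toX_apply (q : 𝔛.X 0) : 𝔛.gInv h k ((𝔛.toX k).base q) = q :=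
  congrArg (fun f : (𝔛.X 0).carrier ⟶ (𝔛.X 0).carrier => f q) (FSch.Sys.toX_base_gInv 𝔛 h k)

theorem map_map_of {X : Scheme.{u}} (F : X.Modules) {U V W W' : X.Opens} (a : V ⟶ U) (b : W ⟶ V)
    (c : W' ⟶ U) (d : W ⟶ W') (x : Γ(F, U)) :
    F.presheaf.map b.op (F.presheaf.map a.op x) = F.presheaf.map d.op (F.presheaf.map c.op x) := by
  rw [QCoh.map_map, QCoh.map_map]
  exact congrArg (fun i : W ⟶ U => F.presheaf.map i.op x) (Subsingleton.elim _ _)

/-- The direct image from a level is full. -/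
theorem push_level_full (h𝔛 : 𝔛.IsLocNoethFormal) {F G : (𝔛.X k).Modules}
    (χ : (FSch.levelMor 𝔛 h𝔛.1 k).push.obj F ⟶ (FSch.levelMor 𝔛 h𝔛.1 k).push.obj G) :
    ∃ φ : F ⟶ G, (FSch.levelMor 𝔛 h𝔛.1 k).push.map φ = χ := by
  let c : ∀ A : (𝔛.X k).Opens, Γ(F, A) → Γ(G, A) := fun A x =>
    G.presheaf.map (homOfLE (lvU_lowU h𝔛.1 k A).ge).op
      (χ.val.app (op (lowU k A)) (F.presheaf.map (homOfLE (lvU_lowU h𝔛.1 k A).le).op x))
  have hχ : ∀ {U V : (𝔛.X 0).Opens} (i : V ⟶ U) (x : Γ(F, 𝔛.lvU h𝔛.1 k U)),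
      χ.val.app (op V) (F.presheaf.map ((Opens.map (𝔛.gInv h𝔛.1 k)).map i).op x) =
        G.presheaf.map ((Opens.map (𝔛.gInv h𝔛.1 k)).map i).op (χ.val.app (op U) x) :=
    fun i x => PresheafOfModules.naturality_apply χ.val i.op x
  have hnat : ∀ {A B : (𝔛.X k).Opens} (i : B ⟶ A) (x : Γ(F, A)),
      c B (F.presheaf.map i.op x) = G.presheaf.map i.op (c A x) := by
    intro A B i x
    let j : lowU k B ⟶ lowU k A := homOfLE (lowU_mono k i.le)
    have e₁ : F.presheaf.map (homOfLE (lvU_lowU h𝔛.1 k B).le).op (F.presheaf.map i.op x) =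
        F.presheaf.map ((Opens.map (𝔛.gInv h𝔛.1 k)).map j).op
          (F.presheaf.map (homOfLE (lvU_lowU h𝔛.1 k A).le).op x) := map_map_of F _ _ _ _ x
    dsimp only [c]
    rw [e₁, hχ j]
    exact map_map_of G _ _ _ _ _
  have hsmul : ∀ (A : (𝔛.X k).Opens) (r : Γ(𝔛.X k, A)) (x : Γ(F, A)), c A (r • x) = r • c A x := by
    intro A r x
    rw [← sub_eq_zero]
    refine QCoh.eq_zero_of_locally A _ fun p hp => ?_
    obtain ⟨q, rfl⟩ := (FComplLib.surjective_toX h𝔛.1 k).surj p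
    obtain ⟨_, ⟨V, hV, rfl⟩, hqV, hVA⟩ :=
      (𝔛.X 0).isBasis_affineOpens.exists_subset_of_mem_open (show q ∈ lowU k A from hp) (lowU k A).2
    have hle : 𝔛.lvU h𝔛.1 k V ≤ A := (show 𝔛.lvU h𝔛.1 k V ≤ 𝔛.lvU h𝔛.1 k (lowU k A) from
      fun _ hy => hVA hy).trans (lvU_lowU h𝔛.1 k A).le
    have hqB : (𝔛.toX k) q ∈ 𝔛.lvU h𝔛.1 k V := by
      show 𝔛.gInv h𝔛.1 k ((𝔛.toX k).base q) ∈ V
      rw [gInv_toX_apply]
      exact hqV
    refine ⟨𝔛.lvU h𝔛.1 k V, homOfLE hle, hqB, ?_⟩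
    obtain ⟨R, hR⟩ := surjective_rproj h𝔛.1 k hV ((𝔛.X k).presheaf.map (homOfLE hle).op r)
    have hc : ∀ y : Γ(F, A), G.presheaf.map (homOfLE hle).op (c A y) =
        χ.val.app (op V) (F.presheaf.map (homOfLE hle).op y) := by
      intro y
      let j : V ⟶ lowU k A := homOfLE (SetLike.coe_subset_coe.mp hVA)
      have e₁ : F.presheaf.map (homOfLE hle).op y = F.presheaf.map ((Opens.map (𝔛.gInv h𝔛.1 k)).map j).op
          (F.presheaf.map (homOfLE (lvU_lowU h𝔛.1 k A).le).op y) := by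
        rw [QCoh.map_map]
        exact congrArg (fun i : _ ⟶ A => F.presheaf.map i.op y) (Subsingleton.elim _ _)
      rw [e₁, hχ j]
      dsimp only [c]
      rw [QCoh.map_map]
      exact congrArg (fun i => G.presheaf.map (Quiver.Hom.op i) _) (Subsingleton.elim _ _)
    rw [map_sub, hc, QCoh.map_smul', QCoh.map_smul', hc, ← hR]
    refine sub_eq_zero.mpr ?_
    exact map_smul (χ.val.app (op V)).hom R
      (show ((FSch.levelMor 𝔛 h𝔛.1 k).push.obj F).val.obj (op V) from F.presheaf.map (homOfLE hle).op x)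
  let θ : F.presheaf ⟶ G.presheaf :=
    { app := fun A => AddCommGrpCat.ofHom (AddMonoidHom.mk' (c A.unop) fun x y => by
        dsimp only [c]
        erw [map_add, map_add, map_add])
      naturality := fun A B i => AddCommGrpCat.ext fun x => hnat i.unop x }
  refine ⟨⟨PresheafOfModules.homMk θ fun A r x => hsmul A.unop r x⟩, ?_⟩
  apply SheafOfModules.hom_ext
  refine PresheafOfModules.hom_ext fun U => ModuleCat.hom_ext (LinearMap.ext fun x => ?_)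
  show c (𝔛.lvU h𝔛.1 k U.unop) x = χ.val.app U x
  have hlow : lowU k (𝔛.lvU h𝔛.1 k U.unop) ≤ U.unop := by
    intro q hq
    have h2 : 𝔛.gInv h𝔛.1 k ((𝔛.toX k).base q) ∈ U.unop := hq
    rwa [gInv_toX_apply] at h2
  dsimp only [c]
  rw [show F.presheaf.map (homOfLE (lvU_lowU h𝔛.1 k (𝔛.lvU h𝔛.1 k U.unop)).le).op x =
    F.presheaf.map ((Opens.map (𝔛.gInv h𝔛.1 k)).map (homOfLE hlow)).op x from
      congrArg (fun i : _ ⟶ 𝔛.lvU h𝔛.1 k U.unop => F.presheaf.map i.op x) (Subsingleton.elim _ _),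
    hχ (homOfLE hlow), QCoh.map_map]
  exact QCoh.map_id' _ _

theorem push_level_faithful {F G : (𝔛.X k).Modules} {φ φ' : F ⟶ G}
    (e : (FSch.levelMor 𝔛 h k).push.map φ = (FSch.levelMor 𝔛 h k).push.map φ') : φ = φ' := by
  refine Scheme.Modules.hom_ext _ _ fun A => ?_
  have key : ∀ A', A' = 𝔛.lvU h k (lowU k A) → φ.app A' = φ'.app A' := by
    rintro _ rfl
    ext x
    exact congrArg (fun f : (FSch.levelMor 𝔛 h k).push.obj F ⟶ (FSch.levelMor 𝔛 h k).push.obj G =>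
      f.val.app (op (lowU k A)) x) e
  exact key A (lvU_lowU h k A).symm

variable (h𝔛 : 𝔛.IsLocNoethFormal) (𝔐 : FSch.ModSys 𝔛)

/-- The projection to a level is an epimorphism. -/
theorem epi_realProj (h𝔐 : 𝔐.IsCoh) : Epi (FSch.realProj 𝔛 h𝔛.1 𝔐.F 𝔐.toPush k) := by
  refine epi_of_locally _ fun W s => ?_
  refine ⟨{ arrows := fun W' _ => ∃ V : (𝔛.X 0).Opens, IsAffineOpen V ∧ W' ≤ V ∧ V ≤ W
            downward_closed := fun ⟨V, hV, h1, h2⟩ a => ⟨V, hV, a.le.trans h1, h2⟩ }, ?_, ?_⟩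
  · intro x hx
    obtain ⟨_, ⟨V, hV, rfl⟩, hxV, hVW⟩ :=
      (𝔛.X 0).isBasis_affineOpens.exists_subset_of_mem_open (show x ∈ W from hx) W.2
    exact ⟨V, homOfLE (SetLike.coe_subset_coe.mp hVW), ⟨V, hV, le_rfl, SetLike.coe_subset_coe.mp hVW⟩, hxV⟩
  · intro W' a ha
    obtain ⟨V, hV, h1, h2⟩ := ha
    obtain ⟨z, hz⟩ := ((affSec h𝔛 𝔐 h𝔐 hV).2 k).1
      ((𝔐.F k).presheaf.map ((Opens.map (𝔛.gInv h𝔛.1 k)).map (homOfLE h2)).op s)
    refine ⟨sres h𝔛 𝔐 h1 z, ?_⟩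
    refine (pr_sres h𝔛 𝔐 k h1 z).trans ?_
    rw [hz]
    refine Eq.trans (QCoh.map_map _ _ _) ?_
    exact congrArg (fun i => (𝔐.F k).presheaf.map (Quiver.Hom.op i) s) (Subsingleton.elim _ _)

/-- Maps to modules on a level factor through the projection. -/
theorem exists_factor (h𝔐 : 𝔐.IsCoh) (N : (𝔛.X k).Modules)
    (ψ : 𝔐.realMod h𝔛.1 ⟶ (FSch.levelMor 𝔛 h𝔛.1 k).push.obj N) :
    ∃ φ : 𝔐.F k ⟶ N, FSch.realProj 𝔛 h𝔛.1 𝔐.F 𝔐.toPush k ≫ (FSch.levelMor 𝔛 h𝔛.1 k).push.map φ = ψ := by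
  let p := FSch.realProj 𝔛 h𝔛.1 𝔐.F 𝔐.toPush k
  haveI : Epi p := epi_realProj k h𝔛 𝔐 h𝔐
  have hker : kernel.ι p ≫ ψ = 0 := by
    apply SheafOfModules.hom_ext
    refine PresheafOfModules.hom_ext fun U => ModuleCat.hom_ext (LinearMap.ext fun z => ?_)
    show ψ.val.app U ((kernel.ι p).val.app U z) = 0
    refine QCoh.eq_zero_of_locally (M := N) (𝔛.lvU h𝔛.1 k U.unop) _ fun q hq => ?_
    obtain ⟨_, ⟨V, hV, rfl⟩, hqV, hVU⟩ :=
      (𝔛.X 0).isBasis_affineOpens.exists_subset_of_mem_open (show 𝔛.gInv h𝔛.1 k q ∈ U.unop from hq) U.unop.2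
    let j : V ⟶ U.unop := homOfLE (SetLike.coe_subset_coe.mp hVU)
    refine ⟨𝔛.lvU h𝔛.1 k V, (Opens.map (𝔛.gInv h𝔛.1 k)).map j, hqV, ?_⟩
    rw [show N.presheaf.map ((Opens.map (𝔛.gInv h𝔛.1 k)).map j).op (ψ.val.app U ((kernel.ι p).val.app U z)) =
      ψ.val.app (op V) ((𝔐.realMod h𝔛.1).val.map j.op ((kernel.ι p).val.app U z)) from
        (PresheafOfModules.naturality_apply ψ.val j.op _).symm]
    set w := (𝔐.realMod h𝔛.1).val.map j.op ((kernel.ι p).val.app U z) with hw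
    have hpw : pr h𝔛.1 𝔐 k V w = 0 := by
      rw [hw]
      refine (pr_res h𝔛.1 𝔐 k j _).trans (Eq.trans (congrArg _ ?_) (map_zero _))
      exact congrArg (fun f : kernel p ⟶ _ => f.val.app U z) (kernel.condition p)
    have hmem := (((affSec h𝔛 𝔐 h𝔐 hV).2 k).2 w).mp hpw
    refine Submodule.smul_induction_on (p := fun w => ψ.val.app (op V) w = 0) hmem (fun a ha b _ => ?_)
      (fun a b ha hb => ?_)
    · refine (map_smul (ψ.val.app (op V)).hom a b).trans ?_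
      show rproj h𝔛.1 k V a • (show Γ(N, 𝔛.lvU h𝔛.1 k V) from ψ.val.app (op V) b) = 0
      rw [← (affRing h𝔛 hV).2.2 k, RingHom.mem_ker] at ha
      rw [ha, zero_smul]
    · refine (map_add (ψ.val.app (op V)).hom a b).trans ?_
      show ψ.val.app (op V) a + ψ.val.app (op V) b = 0
      rw [ha, hb, add_zero]
  obtain ⟨φ, hφ⟩ := push_level_full k h𝔛 ((Abelian.epiIsCokernelOfKernel _ (kernelIsKernel p)).desc
    (CokernelCofork.ofπ ψ hker))
  refine ⟨φ, ?_⟩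
  rw [hφ]
  exact (Abelian.epiIsCokernelOfKernel _ (kernelIsKernel p)).fac (CokernelCofork.ofπ ψ hker) WalkingParallelPair.one

omit h𝔛 𝔐 in
theorem isIso_adjunct_of_factor {A B : Type*} [Category A] [Category B] {L : A ⥤ B} {R : B ⥤ A} (adj : L ⊣ R)
    {X : A} {Y : B} (p : X ⟶ R.obj Y) [Epi p]
    (hf : ∀ (N : B) (φ φ' : Y ⟶ N), R.map φ = R.map φ' → φ = φ')
    (hex : ∀ (N : B) (ψ : X ⟶ R.obj N), ∃ φ : Y ⟶ N, p ≫ R.map φ = ψ) :
    IsIso ((adj.homEquiv _ _).symm p) := by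
  refine isIso_of_coyoneda_map_bijective _ fun N => ⟨fun φ φ' e => ?_, fun ξ => ?_⟩
  · have e' := congrArg (adj.homEquiv _ _) e
    simp only [Adjunction.homEquiv_naturality_right, Equiv.apply_symm_apply] at e'
    exact hf _ _ _ ((cancel_epi p).mp e')
  · obtain ⟨φ, hφ⟩ := hex N (adj.homEquiv _ _ ξ)
    refine ⟨φ, (adj.homEquiv _ _).injective ?_⟩
    simp only [Adjunction.homEquiv_naturality_right, Equiv.apply_symm_apply]
    exact hφ

/-- The level of the module of a coherent system is the level of the system. -/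
theorem isIso_adjunct (h𝔐 : 𝔐.IsCoh) :
    IsIso (((FSch.levelMor 𝔛 h𝔛.1 k).adj.homEquiv _ _).symm (FSch.realProj 𝔛 h𝔛.1 𝔐.F 𝔐.toPush k)) :=
  @isIso_adjunct_of_factor _ _ _ _ _ _ (FSch.levelMor 𝔛 h𝔛.1 k).adj _ _ _ (epi_realProj k h𝔛 𝔐 h𝔐)
    (fun _ _ _ e => push_level_faithful h𝔛.1 k e) (exists_factor k h𝔛 𝔐 h𝔐)

end Groth.Agent.FModLib
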