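import Groth.Agent.FComplLib.AffSysSec
import Groth.Agent.Algz7.Tilde
import Groth.Agent.SheafHomX.Coherent

/-!
# Modules on an affine scheme given by generators and relations
-/

set_option backward.isDefEq.respectTransparency false
set_option backward.isDefEq.respectTransparency.types false
set_option linter.style.haveILetI false

universe u

open CategoryTheory CategoryTheory.Limits AlgebraicGeometry TopologicalSpace Opposite

noncomputable section

namespace Groth.Agent.FModLib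

open FComplLib

variable {R : Type u} [CommRing R]

/-- A scalar as a global function. -/
def scal (r : R) : Γ(Spec (CommRingCat.of R), ⊤) := (Scheme.ΓSpecIso (CommRingCat.of R)).inv r

/-- A scalar-linear map on global sections. -/
theorem app_top_sum {M N : (Spec (CommRingCat.of R)).Modules} (φ : M ⟶ N) {ι : Type*} [Fintype ι]
    (c : ι → Γ(Spec (CommRingCat.of R), ⊤)) (x : ι → Γ(M, ⊤)) :
    φ.app ⊤ (∑ i, c i • x i) = ∑ i, c i • φ.app ⊤ (x i) :=
  (map_sum (φ.app ⊤).hom _ _).trans (Finset.sum_congr rfl fun i _ => φ.app_smul _ _)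

theorem hom_tilde_ext {Q : ModuleCat.{u} R} {P : (Spec (CommRingCat.of R)).Modules}
    {φ φ' : tilde (R := CommRingCat.of R) Q ⟶ P}
    (e : ∀ x, φ.app ⊤ (θ Q x) = φ'.app ⊤ (θ Q x)) : φ = φ' := by
  apply ((tilde.adjunction (R := CommRingCat.of R)).homEquiv Q P).injective
  rw [Adjunction.homEquiv_unit, Adjunction.homEquiv_unit]
  exact ModuleCat.hom_ext (LinearMap.ext e)

/-- An object corepresenting the tuples killed by `g` is the cokernel of `g`. -/
theorem isCoh_and_presented [IsNoetherianRing R] (M : (Spec (CommRingCat.of R)).Modules) {n m : ℕ}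
    (t : ULift.{u} (Fin n) → Γ(M, ⊤)) (g : ULift.{u} (Fin m) → ULift.{u} (Fin n) → R)
    (hrel : ∀ j, ∑ i, scal (g j i) • t i = 0)
    (hex : ∀ (N : (Spec (CommRingCat.of R)).Modules) (s : ULift.{u} (Fin n) → Γ(N, ⊤)),
      (∀ j, ∑ i, scal (g j i) • s i = 0) → ∃! φ : M ⟶ N, ∀ i, φ.app ⊤ (t i) = s i) :
    Coh.IsCoh M ∧ (∀ y : Γ(M, ⊤), ∃ c : ULift.{u} (Fin n) → R, ∑ i, scal (c i) • t i = y) ∧
      ∀ c : ULift.{u} (Fin n) → R, ∑ i, scal (c i) • t i = 0 →
        ∃ d : ULift.{u} (Fin m) → R, ∀ i, ∑ j, d j * g j i = c i := by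
  classical
  let K : Submodule R (ULift.{u} (Fin n) → R) := Submodule.span R (Set.range g)
  let Q : ModuleCat.{u} R := ModuleCat.of R ((ULift.{u} (Fin n) → R) ⧸ K)
  let q : ULift.{u} (Fin n) → Q := fun i => Submodule.Quotient.mk (Pi.single i 1)
  have hqc : ∀ c : ULift.{u} (Fin n) → R, (Submodule.Quotient.mk c : Q) = ∑ i, c i • q i := by
    intro c
    have hc : c = ∑ i, c i • (Pi.single i 1 : ULift.{u} (Fin n) → R) := pi_eq_sum_univ' c
    conv_lhs => rw [hc]
    exact (map_sum K.mkQ _ _).trans (Finset.sum_congr rfl fun i _ => map_smul K.mkQ _ _)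
  have hθc : ∀ c : ULift.{u} (Fin n) → R, θ Q (Submodule.Quotient.mk c) = ∑ i, scal (c i) • θ Q (q i) := by
    intro c
    rw [hqc, map_sum]
    exact Finset.sum_congr rfl fun i _ => θ_smul Q (c i) (q i)
  obtain ⟨φ, hφ, -⟩ := hex (tilde (R := CommRingCat.of R) Q) (fun i => θ Q (q i)) fun j => by
    rw [← hθc, (Submodule.Quotient.mk_eq_zero K).mpr (Submodule.subset_span ⟨j, rfl⟩), map_zero]
  let M₀ := (moduleSpecΓFunctor (R := CommRingCat.of R)).obj M
  let t₀ : ULift.{u} (Fin n) → M₀ := t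
  let L : (ULift.{u} (Fin n) → R) →ₗ[R] M₀ := Fintype.linearCombination R t₀
  have hL : ∀ c, L c = (show M₀ from ∑ i, scal (c i) • t i) := fun c => by
    rw [Fintype.linearCombination_apply]
    exact Finset.sum_congr rfl fun i _ => moduleSpec_smul M (c i) (t₀ i)
  have hK : K ≤ LinearMap.ker L := by
    rw [Submodule.span_le]
    rintro _ ⟨j, rfl⟩
    exact LinearMap.mem_ker.mpr ((hL (g j)).trans (hrel j))
  let L' : Q →ₗ[R] M₀ := K.liftQ L hK
  obtain ⟨ψ, hψ⟩ := exists_hom_tilde Q M L'.toAddMonoidHom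
    fun a x => (map_smul L' a x).trans (moduleSpec_smul M a (L' x))
  have hψq : ∀ i, ψ.app ⊤ (θ Q (q i)) = t i := fun i => by
    rw [hψ]
    show L (Pi.single i 1) = t₀ i
    rw [Fintype.linearCombination_apply]
    simp only [Pi.single_apply, ite_smul, one_smul, zero_smul, Finset.sum_ite_eq', Finset.mem_univ, if_true]
  have h1 : φ ≫ ψ = 𝟙 M := by
    obtain ⟨α, -, hu⟩ := hex M t hrel
    rw [hu (φ ≫ ψ) fun i => ?_, hu (𝟙 M) fun i => rfl]
    rw [Scheme.Modules.Hom.comp_app]
    exact (congrArg (ψ.app ⊤) (hφ i)).trans (hψq i)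
  have h2 : ψ ≫ φ = 𝟙 _ := by
    refine hom_tilde_ext fun x => ?_
    obtain ⟨c, rfl⟩ := Submodule.Quotient.mk_surjective K x
    rw [hθc, app_top_sum, app_top_sum]
    refine Finset.sum_congr rfl fun i _ => congrArg (scal (c i) • ·) ?_
    rw [Scheme.Modules.Hom.comp_app]
    exact (congrArg (φ.app ⊤) (hψq i)).trans (hφ i)
  have hinj : ∀ x, ψ.app ⊤ x = 0 → x = 0 := fun x hx => by
    have h3 := congrArg (fun f : tilde (R := CommRingCat.of R) Q ⟶ _ => f.app ⊤ x) h2
    simp only [Scheme.Modules.Hom.comp_app] at h3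
    exact h3.symm.trans ((congrArg (φ.app ⊤) hx).trans (map_zero (φ.app ⊤).hom))
  haveI : Module.Finite R Q := inferInstanceAs (Module.Finite R ((ULift.{u} (Fin n) → R) ⧸ K))
  refine ⟨SheafHomX.isCoh_of_iso (⟨ψ, φ, h2, h1⟩ : tilde (R := CommRingCat.of R) Q ≅ M)
    (Algz7.isCoh_tilde (A := R) Q), fun y => ?_, fun c hc => ?_⟩
  · obtain ⟨x, hx⟩ := (bijective_θ Q).2 (φ.app ⊤ y)
    obtain ⟨c, rfl⟩ := Submodule.Quotient.mk_surjective K x
    refine ⟨c, ?_⟩
    have h3 := congrArg (fun f : M ⟶ M => f.app ⊤ y) h1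
    simp only [Scheme.Modules.Hom.comp_app] at h3
    refine Eq.trans ?_ h3
    refine Eq.trans ?_ (congrArg (ψ.app ⊤) hx)
    rw [hθc, app_top_sum]
    exact Finset.sum_congr rfl fun i _ => congrArg (scal (c i) • ·) (hψq i).symm
  · have h4 : θ Q (Submodule.Quotient.mk c) = 0 := hinj _ (by
      rw [hθc, app_top_sum]
      exact (Finset.sum_congr rfl fun i _ => congrArg (scal (c i) • ·) (hψq i)).trans hc)
    rw [← map_zero (θ Q)] at h4
    have h5 := (Submodule.Quotient.mk_eq_zero K).mp ((bijective_θ Q).1 h4)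
    obtain ⟨d, hd⟩ := (Submodule.mem_span_range_iff_exists_fun R).mp h5
    exact ⟨d, fun i => by rw [← hd, Finset.sum_apply]; rfl⟩

end Groth.Agent.FModLib
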