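import Groth.Agent.FModLib.Pres
import Groth.Agent.FModLib.Levels
import Groth.Agent.FModLib.Univ
import Groth.Agent.QCoh.PullbackBC
import Groth.Agent.KZ.PerfCoh

/-!
# The levels of a presented module on a formal scheme
-/

set_option backward.isDefEq.respectTransparency false
set_option backward.isDefEq.respectTransparency.types false
set_option linter.style.haveILetI false

universe u

open CategoryTheory CategoryTheory.Limits AlgebraicGeometry TopologicalSpace Opposite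

noncomputable section

namespace Groth.Agent.FModLib

variable {𝔛 : FSch.Sys.{u}} (h : 𝔛.IsFormal) (k : ℕ) (𝔉 : FSch.ModF 𝔛 h)

/-- The level of a module. -/
abbrev lev : (𝔛.X k).Modules := (FSch.levelMor 𝔛 h k).pull.obj 𝔉

/-- The image of a section on a level. -/
def toLev (U : (𝔛.X 0).Opens) : ModSite.sect (O := 𝔛.Osh h) 𝔉 U →+ Γ(lev h k 𝔉, 𝔛.lvU h k U) :=
  (((FSch.levelMor 𝔛 h k).adj.unit.app 𝔉).val.app (op U)).hom.toAddMonoidHom

theorem toLev_smul (U : (𝔛.X 0).Opens) (r : (𝔛.Osh h).obj.obj (op U)) (x : ModSite.sect (O := 𝔛.Osh h) 𝔉 U) :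
    toLev h k 𝔉 U (r • x) = rproj h k U r • toLev h k 𝔉 U x :=
  map_smul (((FSch.levelMor 𝔛 h k).adj.unit.app 𝔉).val.app (op U)).hom r x

theorem toLev_mres {U V : (𝔛.X 0).Opens} (e : V ≤ U) (x : ModSite.sect (O := 𝔛.Osh h) 𝔉 U) :
    toLev h k 𝔉 V (mres 𝔉 e x) =
      (lev h k 𝔉).presheaf.map ((Opens.map (𝔛.gInv h k)).map (homOfLE e)).op (toLev h k 𝔉 U x) :=
  PresheafOfModules.naturality_apply ((FSch.levelMor 𝔛 h k).adj.unit.app 𝔉).val (homOfLE e).op x

theorem toLev_sum_smul (U : (𝔛.X 0).Opens) {ι : Type*} [Fintype ι] (c : ι → (𝔛.Osh h).obj.obj (op U))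
    (x : ι → ModSite.sect (O := 𝔛.Osh h) 𝔉 U) :
    toLev h k 𝔉 U (∑ i, c i • x i) = ∑ i, rproj h k U (c i) • toLev h k 𝔉 U (x i) :=
  (map_sum (toLev h k 𝔉 U) _ _).trans (Finset.sum_congr rfl fun i _ => toLev_smul h k 𝔉 U (c i) (x i))

section

variable {Y : Scheme.{u}} {B : Y.Opens} (hB : IsAffineOpen B)

theorem bijective_map_top (N : (Spec Γ(Y, B)).Modules) :
    Function.Bijective (N.presheaf.map (homOfLE (le_top : hB.fromSpec ⁻¹ᵁ B ≤ ⊤)).op) :=
  Function.bijective_iff_has_inverse.mpr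
    ⟨N.presheaf.map (homOfLE hB.fromSpec_preimage_self.ge).op,
      fun x => (QCoh.map_map _ _ _).trans (QCoh.map_id' _ _),
      fun x => (QCoh.map_map _ _ _).trans (QCoh.map_id' _ _)⟩

theorem fromSpec_app_scal (r : Γ(Y, B)) :
    hB.fromSpec.app B r = (Spec Γ(Y, B)).presheaf.map (homOfLE (le_top : hB.fromSpec ⁻¹ᵁ B ≤ ⊤)).op
      (scal (R := Γ(Y, B)) r) := by
  rw [hB.fromSpec_app_self]
  rfl

theorem homEquiv_restrict_apply (M : Y.Modules) (N : (Spec Γ(Y, B)).Modules)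
    (φ : M.restrict hB.fromSpec ⟶ N) (x : Γ(M, B)) :
    ((Scheme.Modules.restrictAdjunction hB.fromSpec).homEquiv M N φ).app B x =
      N.presheaf.map (homOfLE (le_top : hB.fromSpec ⁻¹ᵁ B ≤ ⊤)).op (φ.app ⊤ (QCoh.toChart hB M x)) := by
  rw [Adjunction.homEquiv_unit, Scheme.Modules.Hom.comp_app]
  refine Eq.trans ?_ (congrArg (fun f => f (QCoh.toChart hB M x))
    (φ.mapPresheaf.naturality (homOfLE (le_top : hB.fromSpec ⁻¹ᵁ B ≤ ⊤)).op))
  refine congrArg (φ.app (hB.fromSpec ⁻¹ᵁ B)) ?_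
  show ((Scheme.Modules.restrictAdjunction hB.fromSpec).unit.app M).app B x = _
  rw [Scheme.Modules.restrictAdjunction_unit_app_app]
  exact ((QCoh.map_map _ _ _).trans (congrArg (fun i => M.presheaf.map (Quiver.Hom.op i) x) (Subsingleton.elim _ _))).symm

end

variable {V : (𝔛.X 0).Opens} {n m : ℕ} {t : ULift.{u} (Fin n) → ModSite.sect (O := 𝔛.Osh h) 𝔉 V}
  {g : ULift.{u} (Fin m) → ULift.{u} (Fin n) → (𝔛.Osh h).obj.obj (op V)}

theorem bijective_mres_push (hB : IsAffineOpen (𝔛.lvU h k V)) (N : (Spec Γ(𝔛.X k, 𝔛.lvU h k V)).Modules)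
    (W : (𝔛.X 0).Opens) :
    Function.Bijective (mres (O := 𝔛.Osh h)
      ((FSch.levelMor 𝔛 h k).push.obj ((Scheme.Modules.pushforward hB.fromSpec).obj N))
      (inf_le_left : W ⊓ V ≤ W)) := by
  have e : hB.fromSpec ⁻¹ᵁ (𝔛.lvU h k W) ≤ hB.fromSpec ⁻¹ᵁ (𝔛.lvU h k (W ⊓ V)) := fun x hx =>
    ⟨hx, (show hB.fromSpec x ∈ 𝔛.lvU h k V from hB.fromSpec_preimage_self.ge (Set.mem_univ x))⟩
  exact Function.bijective_iff_has_inverse.mpr ⟨N.presheaf.map (homOfLE e).op,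
    fun x => (QCoh.map_map _ _ _).trans (QCoh.map_id' _ _),
    fun x => (QCoh.map_map _ _ _).trans (QCoh.map_id' _ _)⟩

/-- Sections of the level over an affine open are presented by the images. -/
theorem levelPres (hn : IsLocallyNoetherian (𝔛.X k)) (hP : IsPres (O := 𝔛.Osh h) 𝔉 V t g) (hV : IsAffineOpen V) :
    Coh.IsCoh ((lev h k 𝔉).restrict (isAffineOpen_lvU h k hV).fromSpec) ∧
      (∀ y : Γ(lev h k 𝔉, 𝔛.lvU h k V), ∃ c : ULift.{u} (Fin n) → Γ(𝔛.X k, 𝔛.lvU h k V),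
        ∑ i, c i • toLev h k 𝔉 V (t i) = y) ∧
      ∀ c : ULift.{u} (Fin n) → Γ(𝔛.X k, 𝔛.lvU h k V), ∑ i, c i • toLev h k 𝔉 V (t i) = 0 →
        ∃ d : ULift.{u} (Fin m) → Γ(𝔛.X k, 𝔛.lvU h k V),
          ∀ i, ∑ j, d j * rproj h k V (g j i) = c i := by
  set hB := isAffineOpen_lvU h k hV
  haveI : IsNoetherianRing Γ(𝔛.X k, 𝔛.lvU h k V) := IsLocallyNoetherian.component_noetherian ⟨_, hB⟩
  let L := lev h k 𝔉
  let t' : ULift.{u} (Fin n) → Γ(L.restrict hB.fromSpec, ⊤) := fun i => QCoh.toChart hB L (toLev h k 𝔉 V (t i))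
  have hsum : ∀ c : ULift.{u} (Fin n) → Γ(𝔛.X k, 𝔛.lvU h k V),
      QCoh.toChart hB L (∑ i, c i • toLev h k 𝔉 V (t i)) =
        (show Γ(L.restrict hB.fromSpec, ⊤) from ∑ i, scal (c i) • t' i) := by
    intro c
    refine (map_sum (AddMonoidHom.mk' (QCoh.toChart hB L) (QCoh.toChart_add hB L)) _ _).trans
      (Finset.sum_congr rfl fun i _ => ?_)
    exact (QCoh.toChart_smul hB L (c i) _).trans (FComplLib.moduleSpec_smul _ (c i) _)
  have hz : QCoh.toChart hB L 0 = 0 := map_zero (AddMonoidHom.mk' (QCoh.toChart hB L) (QCoh.toChart_add hB L))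
  obtain ⟨hc, hg, hr⟩ := isCoh_and_presented (R := Γ(𝔛.X k, 𝔛.lvU h k V)) (L.restrict hB.fromSpec) t'
    (fun j i => rproj h k V (g j i)) (fun j => by
      refine Eq.trans (hsum _).symm ?_
      rw [← toLev_sum_smul, hP.rel0 j, map_zero]
      exact hz) (fun N s hs => by
      let j' := hB.fromSpec
      let G := (FSch.levelMor 𝔛 h k).push.obj ((Scheme.Modules.pushforward j').obj N)
      let ρ := N.presheaf.map (homOfLE (le_top : j' ⁻¹ᵁ 𝔛.lvU h k V ≤ ⊤)).op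
      obtain ⟨α, hα, hu⟩ := hP.exists_hom (G := G) (bijective_mres_push h k hB N) (fun i => ρ (s i)) (fun j => by
        refine Eq.trans (Finset.sum_congr rfl fun i _ => ?_) ((map_sum ρ.hom _ _).symm.trans
          ((congrArg ρ (hs j)).trans (map_zero ρ.hom)))
        refine Eq.trans ?_ (QCoh.map_smul' (M := N) _ (scal (rproj h k V (g j i))) (s i)).symm
        exact congrArg (· • ρ (s i)) (fromSpec_app_scal hB (rproj h k V (g j i))))
      let adj := (FSch.levelMor 𝔛 h k).adj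
      let radj := Scheme.Modules.restrictAdjunction j'
      have key : ∀ φ : L.restrict j' ⟶ N, ∀ i,
          ((adj.homEquiv _ _) ((radj.homEquiv L N) φ)).val.app (op V) (t i) = ρ (φ.app ⊤ (t' i)) := by
        intro φ i
        rw [Adjunction.homEquiv_unit]
        exact homEquiv_restrict_apply hB L N φ (toLev h k 𝔉 V (t i))
      refine ⟨(radj.homEquiv L N).symm ((adj.homEquiv _ _).symm α), fun i => ?_, fun φ hφ => ?_⟩
      · refine (bijective_map_top hB N).1 ?_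
        refine Eq.trans (key _ i).symm ?_
        simp only [Equiv.apply_symm_apply]
        exact hα i
      · have e := hu (adj.homEquiv _ _ (radj.homEquiv L N φ)) fun i => (key φ i).trans (congrArg ρ (hφ i))
        rw [← e, Equiv.symm_apply_apply, Equiv.symm_apply_apply])
  refine ⟨hc, fun y => ?_, fun c hc0 => hr c ?_⟩
  · obtain ⟨c, hc'⟩ := hg (QCoh.toChart hB L y)
    exact ⟨c, (QCoh.bijective_toChart hB L).1 ((hsum c).trans hc')⟩
  · exact (hsum c).symm.trans ((congrArg (QCoh.toChart hB L) hc0).trans hz)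

/-- The levels of a coherent module are coherent. -/
theorem isCoh_lev (hn : IsLocallyNoetherian (𝔛.X k)) (h𝔉 : FSch.IsCohF 𝔛 h 𝔉) : Coh.IsCoh (lev h k 𝔉) := by
  refine KZ.isCoh_of_local fun x => ?_
  obtain ⟨q, rfl⟩ := (FComplLib.surjective_toX h k).surj x
  obtain ⟨U, n, m, t, g, hqU, hP⟩ := exists_isPres (O := 𝔛.Osh h) h𝔉 q
  obtain ⟨_, ⟨W, hW, rfl⟩, hqW, hWU⟩ := (𝔛.X 0).isBasis_affineOpens.exists_subset_of_mem_open hqU U.2
  refine ⟨_, (isAffineOpen_lvU h k hW).fromSpec, inferInstance, ?_,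
    (levelPres h k 𝔉 hn (hP.mono (SetLike.coe_subset_coe.mp hWU)) hW).1⟩
  rw [(isAffineOpen_lvU h k hW).range_fromSpec]
  show 𝔛.gInv h k ((𝔛.toX k).base q) ∈ W
  rw [gInv_toX_apply]
  exact hqW

end Groth.Agent.FModLib
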