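import Groth.Agent.SiteBase.DLim.Single
import Groth.Agent.SiteBase.DLim.Top
import Groth.Agent.H9Misc.BrownGroth
import Groth.Prelude.Def_DCoh2

/-!
# Cohomology of the limit of an inverse system of sheaves
-/

set_option autoImplicit false
set_option linter.style.haveILetI false

universe u

open CategoryTheory CategoryTheory.Limits TopologicalSpace Opposite Abelian DerivedCategory

noncomputable section

namespace Groth.Agent.FModLib

open Pretriangulated in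
/-- Homomorphisms into a derived limit. -/
theorem exists_lim_hom {T : Type*} [Category T] [Preadditive T] [HasZeroObject T] [HasShift T ℤ]
    [∀ n : ℤ, (shiftFunctor T n).Additive] [Pretriangulated T] {K : ℕ → T} {t : ∀ n, K (n + 1) ⟶ K n}
    [HasProduct K] {L : T} {a : ∀ n, L ⟶ K n} (hL : CohCx.IsRlimVia K t L a) (m : ℤ) (S : T)
    (A : ℕ → Type u) [∀ k, AddCommGroup (A k)] (tA : ∀ k, A (k + 1) →+ A k)
    (e : ∀ k, A k ≃+ (S ⟶ (K k)⟦m⟧)) (he : ∀ k z, e k (tA k z) = e (k + 1) z ≫ (t k)⟦m⟧')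
    (hone : ∀ b : ∀ n, S ⟶ (K n)⟦m - 1⟧, ∃ w : ∀ n, S ⟶ (K n)⟦m - 1⟧,
      ∀ n, w n - w (n + 1) ≫ (t n)⟦m - 1⟧' = b n)
    {H : Type u} [AddCommGroup H] (eH : H ≃+ (S ⟶ L⟦m⟧)) :
    ∃ φ : H →+ (∀ k, A k), Function.Injective φ ∧
      ∀ x : ∀ k, A k, (x ∈ φ.range ↔ ∀ k, tA k (x (k + 1)) = x k) := by
  let φ : H →+ (∀ k, A k) :=
    AddMonoidHom.mk' (fun y k => (e k).symm (eH y ≫ (a k)⟦m⟧')) fun y y' => funext fun k => by
      simp [Preadditive.add_comp]
  have hφ : ∀ y k, e k (φ y k) = eH y ≫ (a k)⟦m⟧' := fun y k => (e k).apply_symm_apply _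
  refine ⟨φ, (injective_iff_map_eq_zero _).2 fun y hy => ?_, fun x => ⟨?_, fun hx => ?_⟩⟩
  · refine eH.map_eq_zero_iff.1 (DLim.rlim_eq_zero hL m hone _ fun k => ?_)
    rw [← hφ, congrFun hy k]
    exact map_zero (e k)
  · rintro ⟨y, rfl⟩ k
    refine (e k).injective ?_
    rw [he, hφ, hφ, Category.assoc, ← Functor.map_comp, DLim.rlim_comp_t hL k]
  · obtain ⟨y, hy⟩ := DLim.rlim_exists_lift hL m (fun k => e k (x k)) fun k => by rw [← he, hx k]
    refine ⟨eH.symm y, funext fun k => (e k).injective ?_⟩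
    rw [hφ, AddEquiv.apply_symm_apply, hy]

variable {X : TopCat.{u}} [HasDerivedCategory.{u} (CohTop.Ab X)]

variable (X) in
/-- The constant sheaf of integers. -/
abbrev cst : CohTop.Ab X :=
  (constantSheaf (Opens.grothendieckTopology X) AddCommGrpCat.{u}).obj (AddCommGrpCat.of (ULift.{u} ℤ))

theorem hom_map {F G : CohTop.Ab X} (f : F ⟶ G) (n : ℕ) (x : Sheaf.H F n) :
    Ext.homAddEquiv (Sheaf.H.map f n x) =
      (Ext.homAddEquiv x ≫ ((singleFunctor (CohTop.Ab X) 0).map f)⟦(n : ℤ)⟧' :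
        (singleFunctor (CohTop.Ab X) 0).obj (cst X) ⟶ ((singleFunctor (CohTop.Ab X) 0).obj G)⟦(n : ℤ)⟧) := by
  rw [Sheaf.H.map_apply, Ext.homAddEquiv_apply, Ext.comp_hom, Ext.mk₀_hom]
  exact ShiftedHom.comp_mk₀ _ _ _ _

theorem hom_lim_one {F : ℕ → CohTop.Ab X} {t : ∀ n, F (n + 1) ⟶ F n} (n : ℕ) (m : ℤ) (hm : m = n)
    (hML : CohCx.LimOneIsZero (fun k => Sheaf.H (F k) n) (fun k => Sheaf.H.map (t k) n))
    (b : ∀ k, (singleFunctor (CohTop.Ab X) 0).obj (cst X) ⟶ ((singleFunctor (CohTop.Ab X) 0).obj (F k))⟦m⟧) :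
    ∃ w : ∀ k, (singleFunctor (CohTop.Ab X) 0).obj (cst X) ⟶ ((singleFunctor (CohTop.Ab X) 0).obj (F k))⟦m⟧,
      ∀ k, w k - w (k + 1) ≫ ((singleFunctor (CohTop.Ab X) 0).map (t k))⟦m⟧' = b k := by
  subst hm
  obtain ⟨w, hw⟩ := hML fun k => Ext.homAddEquiv.symm (b k)
  refine ⟨fun k => Ext.homAddEquiv (w k), fun k => ?_⟩
  have h := congrArg Ext.homAddEquiv (congrFun hw k)
  rw [map_sub, hom_map, AddEquiv.apply_symm_apply] at h
  exact h

/-- The cohomology of the limit of a system acyclic on a basis with surjective transition maps is the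
limit of the cohomology, when the system one degree below has no `lim¹`. -/
theorem exists_H_lim (F : ℕ → CohTop.Ab X) (t : ∀ n, F (n + 1) ⟶ F n) (B : Set (Opens X)) (hB : Opens.IsBasis B)
    (h1 : ∀ U ∈ B, ∀ (p n : ℕ), Subsingleton (CohTop.HU (F n) (p + 1) U))
    (h2 : ∀ U ∈ B, CohCx.LimOneIsZero (fun n => (F n).obj.obj (op U))
      (fun n => ((t n).hom.app (op U)).hom))
    (p : ℕ) (hML : ∀ q : ℕ, q + 1 = p → CohCx.LimOneIsZero (fun k => Sheaf.H (F k) q) (fun k => Sheaf.H.map (t k) q)) :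
    ∃ φ : Sheaf.H (limit (CohCx.opSequence F t)) p →+ (∀ k, Sheaf.H (F k) p), Function.Injective φ ∧
      ∀ x : ∀ k, Sheaf.H (F k) p, (x ∈ φ.range ↔ ∀ k, Sheaf.H.map (t k) p (x (k + 1)) = x k) := by
  let Φ := singleFunctor (CohTop.Ab X) 0
  haveI : HasProduct fun n => Φ.obj (F n) := DLim.hasProduct_nat _
  obtain ⟨⟨a₀, c, hT⟩, -⟩ := DLim.isRlim_single F t (DLim.isCoveredBy_of_isBasis hB) h1 h2
  let a : ∀ n, Φ.obj (limit (CohCx.opSequence F t)) ⟶ Φ.obj (F n) := fun n => a₀ ≫ Pi.π _ n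
  have hL : CohCx.IsRlimVia (fun n => Φ.obj (F n)) (fun n => Φ.map (t n)) (Φ.obj (limit (CohCx.opSequence F t))) a := by
    refine ⟨c, ?_⟩
    rw [show Pi.lift a = a₀ from Pi.hom_ext _ _ fun n => Pi.lift_π _ _]
    exact hT
  refine exists_lim_hom hL (p : ℤ) (Φ.obj (cst X)) (fun k => Sheaf.H (F k) p) (fun k => Sheaf.H.map (t k) p)
    (fun k => Ext.homAddEquiv) (fun k z => hom_map (t k) p z) (fun b => ?_) Ext.homAddEquiv
  rcases p with _ | q
  · refine ⟨fun _ => 0, fun k => ?_⟩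
    rw [zero_comp, sub_zero]
    haveI : ((Φ.obj (F k))⟦((0 : ℕ) : ℤ) - 1⟧).IsGE 1 :=
      DerivedCategory.TStructure.t.isGE_shift (Φ.obj (F k)) 0 (((0 : ℕ) : ℤ) - 1) 1 (by simp)
    exact (DerivedCategory.TStructure.t.zero_of_isLE_of_isGE (b k) 0 1 (by lia) inferInstance inferInstance).symm
  · exact hom_lim_one q _ (by simp) (hML q rfl) b

end Groth.Agent.FModLib
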