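import Groth.Agent.FModLib.AffSec
import Groth.Agent.QCoh.Localize

/-!
# Generators and relations over basic opens
-/

set_option backward.isDefEq.respectTransparency false
set_option backward.isDefEq.respectTransparency.types false
set_option linter.style.haveILetI false

universe u

open CategoryTheory CategoryTheory.Limits AlgebraicGeometry TopologicalSpace Opposite

noncomputable section

namespace Groth.Agent.FModLib

open FComplLib

section scheme

variable {X : Scheme.{u}} {F : X.Modules} {U V : X.Opens} {ι κ : Type*} [Fintype ι] [Fintype κ]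

/-- Generators restrict to generators on basic opens. -/
theorem gen_basic (hF : Coh.IsQCoh F) (hU : IsAffineOpen U) (f : Γ(X, U)) (hV : V = X.basicOpen f)
    (hle : V ≤ U) (t : ι → Γ(F, U)) (ht : ∀ y : Γ(F, U), ∃ c : ι → Γ(X, U), ∑ i, c i • t i = y)
    (s : Γ(F, V)) :
    ∃ c : ι → Γ(X, V), ∑ i, c i • F.presheaf.map (homOfLE hle).op (t i) = s := by
  subst hV
  obtain ⟨N, y, hy⟩ := QCoh.exists_pow_smul_eq_map hF hU f s
  obtain ⟨c, hc⟩ := ht y
  have hu : IsUnit (X.presheaf.map (homOfLE hle).op f) :=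
    RingedSpace.isUnit_res_basicOpen X.toLocallyRingedSpace.toRingedSpace f
  obtain ⟨v, hv⟩ := hu.pow N
  refine ⟨fun i => (↑v⁻¹ : Γ(X, X.basicOpen f)) * X.presheaf.map (homOfLE hle).op (c i), ?_⟩
  simp only [mul_smul, ← Finset.smul_sum, ← QCoh.map_smul']
  rw [← map_sum, hc, hy, ← hv, smul_smul, Units.inv_mul, one_smul]

/-- Generators of relations restrict to generators of relations on basic opens. -/
theorem rel_basic (hF : Coh.IsQCoh F) (hU : IsAffineOpen U) (f : Γ(X, U)) (hV : V = X.basicOpen f)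
    (hle : V ≤ U) (t : ι → Γ(F, U)) (g : κ → ι → Γ(X, U))
    (hg : ∀ c : ι → Γ(X, U), ∑ i, c i • t i = 0 → ∃ d : κ → Γ(X, U), ∀ i, ∑ j, d j * g j i = c i)
    (c : ι → Γ(X, V)) (hc : ∑ i, c i • F.presheaf.map (homOfLE hle).op (t i) = 0) :
    ∃ d : κ → Γ(X, V), ∀ i, ∑ j, d j * X.presheaf.map (homOfLE hle).op (g j i) = c i := by
  classical
  subst hV
  have hloc := hU.isLocalization_basicOpen f
  have hex : ∀ i, ∃ (N : ℕ) (a : Γ(X, U)),
      X.presheaf.map (homOfLE hle).op a = c i * X.presheaf.map (homOfLE hle).op f ^ N := by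
    intro i
    obtain ⟨⟨a, _, N, rfl⟩, ha⟩ := IsLocalization.surj (Submonoid.powers f) (c i)
    refine ⟨N, a, ?_⟩
    exact ha.symm.trans (congrArg (c i * ·) (map_pow (X.presheaf.map (homOfLE hle).op).hom f N))
  choose N a ha using hex
  let M := ∑ i, N i
  let a' : ι → Γ(X, U) := fun i => a i * f ^ (M - N i)
  have ha' : ∀ i, X.presheaf.map (homOfLE hle).op (a' i) = c i * X.presheaf.map (homOfLE hle).op f ^ M := fun i => by
    have hi : N i ≤ M := Finset.single_le_sum (fun j _ => Nat.zero_le (N j)) (Finset.mem_univ i)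
    rw [map_mul, map_pow, ha i, mul_assoc, ← pow_add, Nat.add_sub_cancel' hi]
  have h0 : F.presheaf.map (homOfLE (X.basicOpen_le f)).op (∑ i, a' i • t i) = 0 := by
    rw [map_sum]
    refine Eq.trans (Finset.sum_congr rfl fun i _ => ?_)
      ((Finset.smul_sum (r := X.presheaf.map (homOfLE hle).op f ^ M)).symm.trans
        ((congrArg _ hc).trans (smul_zero _)))
    rw [QCoh.map_smul', ha', smul_smul, mul_comm]
  obtain ⟨L, hL⟩ := QCoh.exists_pow_smul_eq_zero hF hU f _ h0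
  obtain ⟨d, hd⟩ := hg (fun i => f ^ L * a' i) (by
    simp only [mul_smul, ← Finset.smul_sum]
    exact hL)
  have hu : IsUnit (X.presheaf.map (homOfLE hle).op f) :=
    RingedSpace.isUnit_res_basicOpen X.toLocallyRingedSpace.toRingedSpace f
  obtain ⟨v, hv⟩ := hu.pow (L + M)
  refine ⟨fun j => (↑v⁻¹ : Γ(X, X.basicOpen f)) * X.presheaf.map (homOfLE hle).op (d j), fun i => ?_⟩
  simp only [mul_assoc, ← Finset.mul_sum, ← map_mul, ← map_sum, hd i]
  rw [map_mul, map_pow, ha', mul_comm (c i), ← mul_assoc (_ ^ L), ← pow_add, ← hv, ← mul_assoc,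
    Units.inv_mul, one_mul]

end scheme

variable {𝔛 : FSch.Sys.{u}} (h : 𝔛.IsFormal)

theorem lvU_zero (U : (𝔛.X 0).Opens) : 𝔛.lvU h 0 U = U := by
  change (Opens.map ((𝔛.toX 0).base ≫ 𝔛.gInv h 0)).obj U = U
  rw [FSch.Sys.toX_base_gInv]
  rfl

/-- The basic open of a function on an open of the formal scheme. -/
def basic (U : (𝔛.X 0).Opens) (r : (𝔛.Osh h).obj.obj (op U)) : (𝔛.X 0).Opens :=
  (𝔛.X 0).basicOpen (rproj h 0 U r)

theorem basic_le (U : (𝔛.X 0).Opens) (r : (𝔛.Osh h).obj.obj (op U)) : basic h U r ≤ U :=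
  ((𝔛.X 0).basicOpen_le _).trans (lvU_zero h U).le

theorem lvU_basic (k : ℕ) (U : (𝔛.X 0).Opens) (r : (𝔛.Osh h).obj.obj (op U)) :
    𝔛.lvU h k (basic h U r) = (𝔛.X k).basicOpen (rproj h k U r) := by
  induction k with
  | zero => exact lvU_zero h _
  | succ k ih =>
    have hinj : ∀ {A B : (𝔛.X (k + 1)).Opens}, (𝔛.ι k) ⁻¹ᵁ A = (𝔛.ι k) ⁻¹ᵁ B → A = B := by
      intro A B hAB
      refine Opens.ext (Set.ext fun y => ?_)
      obtain ⟨x, rfl⟩ := (h k).2 y
      exact SetLike.ext_iff.mp hAB x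
    refine hinj ?_
    rw [𝔛.lvU_succ h k, ih, Scheme.preimage_basicOpen, ← rproj_rtr h k U r, rtr, Scheme.Hom.appLE,
      CommRingCat.hom_comp, RingHom.comp_apply, Scheme.basicOpen_res]
    refine inf_eq_right.mpr ?_
    exact ((𝔛.X k).basicOpen_le _).trans (𝔛.lvU_succ h k U).le

theorem exists_basic {U W : (𝔛.X 0).Opens} (hU : IsAffineOpen U) (x : 𝔛.X 0) (hxU : x ∈ U) (hxW : x ∈ W) :
    ∃ r : (𝔛.Osh h).obj.obj (op U), x ∈ basic h U r ∧ basic h U r ≤ W := by
  obtain ⟨f, hf, hxf⟩ := (isAffineOpen_lvU h 0 hU).exists_basicOpen_le (V := W) ⟨x, hxW⟩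
    ((lvU_zero h U).ge hxU)
  obtain ⟨r, rfl⟩ := surjective_rproj h 0 hU f
  exact ⟨r, hxf, hf⟩

theorem isAffineOpen_basic {U : (𝔛.X 0).Opens} (hU : IsAffineOpen U) (r : (𝔛.Osh h).obj.obj (op U)) :
    IsAffineOpen (basic h U r) :=
  (isAffineOpen_lvU h 0 hU).basicOpen _

end Groth.Agent.FModLib
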