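import Mathlib

/-!
# The Mittag-Leffler condition from finite generation of the graded obstructions
-/

set_option linter.style.haveILetI false

universe u v w

namespace Groth.Agent.FModLib.MLCore

variable {A : Type u} [CommRing A] {J : Ideal A} {r : ℕ} (a : Fin r → A) (ha : ∀ i, a i ∈ J)
  {W : ℕ → Type v} [∀ k, AddCommGroup (W k)] [∀ k, Module A (W k)]
  {Z : ℕ → Type w} [∀ k, AddCommGroup (Z k)] [∀ k, Module A (Z k)]
  (tr : ∀ k, W (k + 1) →ₗ[A] W k) (U : ∀ k, Fin r → (W k →ₗ[A] W (k + 1)))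
  (δ : ∀ k, W k →ₗ[A] Z k) (T : ∀ k, Fin r → (Z k →ₗ[A] Z (k + 1)))

/-- The composite transition. -/
def trs : ∀ d j, W (j + d) →ₗ[A] W j
  | 0, _ => LinearMap.id
  | d + 1, j => (trs d j).comp (tr (j + d))

/-- Sums of `m`-fold products. -/
def S : ℕ → ∀ k, Submodule A (W k)
  | 0, _ => ⊤
  | _ + 1, 0 => ⊥
  | m + 1, k + 1 => ⨆ i, (S m k).map (U k i)

variable (htrU : ∀ k i x, tr k (U k i x) = a i • x)

include ha htrU in
theorem trs_S : ∀ (m d j : ℕ), m ≤ d → ∀ x ∈ S U m (j + d), trs tr d j x ∈ J ^ m • (⊤ : Submodule A (W j)) := by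
  intro m
  induction m with
  | zero => intro d j _ x _; rw [pow_zero, Ideal.one_eq_top, Submodule.top_smul]; trivial
  | succ m ih =>
    intro d j hd
    obtain ⟨d, rfl⟩ : ∃ e, d = e + 1 := ⟨d - 1, by omega⟩
    suffices h : S U (m + 1) (j + (d + 1)) ≤ (J ^ (m + 1) • (⊤ : Submodule A (W j))).comap (trs tr (d + 1) j) from h
    show (⨆ i, (S U m (j + d)).map (U (j + d) i)) ≤ _
    refine iSup_le fun i => ?_
    rintro _ ⟨x, hx, rfl⟩
    show trs tr d j (tr (j + d) (U (j + d) i x)) ∈ (J ^ (m + 1) • ⊤ : Submodule A (W j))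
    rw [htrU, map_smul, pow_succ', Submodule.mul_smul]
    exact Submodule.smul_mem_smul (ha i) (ih d j (by omega) x hx)

variable (hδU : ∀ k i x, δ (k + 1) (U k i x) = T k i (δ k x))
  (hex : ∀ k x, δ k x = 0 → ∃ y, tr k y = x)
  (c : ℕ) (hgen : ∀ k, c ≤ k → LinearMap.range (δ (k + 1)) ≤ ⨆ i, (LinearMap.range (δ k)).map (T k i))

include hδU hgen in
theorem exists_delta_eq : ∀ (m k : ℕ), c + m ≤ k → ∀ x : W k, ∃ s ∈ S U m k, δ k x = δ k s := by
  intro m
  induction m with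
  | zero => intro k _ x; exact ⟨x, trivial, rfl⟩
  | succ m ih =>
    intro k hk x
    obtain ⟨k, rfl⟩ : ∃ l, k = l + 1 := ⟨k - 1, by omega⟩
    obtain ⟨f, hf, hfsum⟩ := Submodule.mem_iSup_iff_exists_finsupp _ _ |>.1 (hgen k (by omega) ⟨x, rfl⟩)
    choose z hz hzf using hf
    choose y hy using hz
    choose s hs hsy using fun i => ih k (by omega) (y i)
    refine ⟨∑ i, U k i (s i), Submodule.sum_mem _ fun i _ =>
      Submodule.mem_iSup_of_mem i ⟨s i, hs i, rfl⟩, ?_⟩
    rw [map_sum, ← hfsum, Finsupp.sum_fintype _ _ (fun _ => rfl)]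
    exact Finset.sum_congr rfl fun i _ => by rw [hδU, ← hsy, hy, hzf]

include ha htrU hδU hex hgen in
/-- The images in a fixed level are stationary. -/
theorem exists_range_eq (hkill : ∀ k, ∀ b ∈ J ^ (k + 1), ∀ x : W k, b • x = 0) (j : ℕ) :
    ∃ r₀, ∀ d, r₀ ≤ d → LinearMap.range (trs tr d j) = LinearMap.range (trs tr r₀ j) := by
  refine ⟨c + j + 1, fun d hd => ?_⟩
  induction d, hd using Nat.le_induction with
  | base => rfl
  | succ d hd ih =>
    refine le_antisymm ?_ ?_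
    · rintro _ ⟨x, rfl⟩
      rw [← ih]
      exact ⟨tr (j + d) x, rfl⟩
    · rw [← ih]
      rintro _ ⟨x, rfl⟩
      obtain ⟨s, hs, hsx⟩ := exists_delta_eq U δ T hδU c hgen (j + 1) (j + d) (by omega) x
      obtain ⟨y, hy⟩ := hex (j + d) (x - s) (by rw [map_sub, hsx, sub_self])
      refine ⟨y, ?_⟩
      have h0 : trs tr d j s = 0 := by
        refine Submodule.smul_induction_on (trs_S a ha tr U htrU (j + 1) d j (by omega) s hs)
          (fun b hb z _ => hkill j b hb z) (fun z z' h h' => by rw [h, h', add_zero])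
      show trs tr d j (tr (j + d) y) = _
      rw [hy, map_sub, h0, sub_zero]

end Groth.Agent.FModLib.MLCore
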