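import Groth.Agent.FModLib.AdicML
import Groth.Agent.FModLib.LevelSys
import Groth.Prelude.Def_ARSys

/-!
# Transferring the Mittag-Leffler property to the cohomology on the common space
-/

set_option linter.style.haveILetI false
set_option backward.isDefEq.respectTransparency false
set_option backward.isDefEq.respectTransparency.types false

universe u v

open CategoryTheory CategoryTheory.Limits AlgebraicGeometry TopologicalSpace Opposite Topology
open Groth.Agent.PnCoh.Finite (mapLin)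

noncomputable section

namespace Groth.Agent.FModLib

open Groth.Agent

/-- Subobjects of abelian groups are compared by ranges. -/
theorem imageSubobject_le_of_range_le {P Q R : AddCommGrpCat.{u}} (f : P ⟶ R) (g : Q ⟶ R)
    (h : ∀ x, ∃ y, g y = f x) : imageSubobject f ≤ imageSubobject g := by
  have hinj : Function.Injective (imageSubobject g).arrow := (AddCommGrpCat.mono_iff_injective _).1 inferInstance
  have hlift : ∀ x, ∃ w, (imageSubobject g).arrow w = f x := fun x => by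
    obtain ⟨y, hy⟩ := h x
    exact ⟨factorThruImageSubobject g y, (ConcreteCategory.congr_hom (imageSubobject_arrow_comp g) y).trans hy⟩
  choose w hw using hlift
  refine imageSubobject_le _ (AddCommGrpCat.ofHom (AddMonoidHom.mk' w fun a b => hinj ?_)) (ConcreteCategory.hom_ext _ _ hw)
  rw [map_add, hw, hw, hw, map_add]

theorem isML_of_range {A : Type u} [CommRing A] {G : ℕ → AddCommGrpCat.{u}} (t : ∀ k, G (k + 1) ⟶ G k)
    {W : ℕ → Type u} [∀ k, AddCommGroup (W k)] [∀ k, Module A (W k)] (tr : ∀ k, W (k + 1) →ₗ[A] W k)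
    (e : ∀ k, W k → G k) (he : ∀ k, Function.Surjective (e k))
    (hc : ∀ k x, t k (e (k + 1) x) = e k (tr k x))
    (h : ∀ j, ∃ r₀, ∀ d, r₀ ≤ d → LinearMap.range (MLCore.trs tr d j) = LinearMap.range (MLCore.trs tr r₀ j)) :
    ARSys.IsML (Functor.ofOpSequence t) := by
  intro j
  obtain ⟨r₀, hr⟩ := h j
  have hshift : ∀ d x, ARSys.shiftMap (Functor.ofOpSequence t) d j (e (j + d) x) = e j (MLCore.trs tr d j x) := by
    intro d
    induction d with
    | zero =>
      intro x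
      show (Functor.ofOpSequence t).map (𝟙 (op j)) _ = _
      exact (ConcreteCategory.congr_hom ((Functor.ofOpSequence t).map_id (op j)) _).trans rfl
    | succ d ih =>
      intro x
      refine (ConcreteCategory.congr_hom (show ARSys.shiftMap (Functor.ofOpSequence t) (d + 1) j =
          (t (j + d) : (Functor.ofOpSequence t).obj (op (j + (d + 1))) ⟶ (Functor.ofOpSequence t).obj (op (j + d))) ≫
            ARSys.shiftMap (Functor.ofOpSequence t) d j from ?_) _).trans ?_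
      · rw [← Functor.ofOpSequence_map_homOfLE_succ t (j + d)]
        exact ((Functor.ofOpSequence t).map_comp _ _)
      exact (congrArg (ARSys.shiftMap (Functor.ofOpSequence t) d j) (hc (j + d) x)).trans (ih (tr (j + d) x))
  have hle : ∀ d d', LinearMap.range (MLCore.trs tr d j) ≤ LinearMap.range (MLCore.trs tr d' j) →
      imageSubobject (ARSys.shiftMap (Functor.ofOpSequence t) d j) ≤
        imageSubobject (ARSys.shiftMap (Functor.ofOpSequence t) d' j) := fun d d' hd => by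
    refine imageSubobject_le_of_range_le _ _ fun z => ?_
    obtain ⟨x, rfl⟩ := he (j + d) z
    obtain ⟨y, hy⟩ := hd ⟨x, rfl⟩
    exact ⟨e (j + d') y, (hshift d' y).trans ((congrArg (e j) hy).trans (hshift d x).symm)⟩
  exact ⟨r₀, fun s hs => le_antisymm (hle _ _ (hr s hs).le) (hle _ _ (hr s hs).ge)⟩

section Comp

variable {W Z X : TopCat.{u}} {f : W ⟶ Z} {g : Z ⟶ X}

theorem pushHMap_comp_eq (hf : IsClosedEmbedding f) (hg : IsClosedEmbedding g) (hfg : IsClosedEmbedding (f ≫ g))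
    (p : ℕ) (G : CohTop.Ab W) (x : CohTop.H G p) :
    ExtShX.pushHMap hg ((CohTop.push f).obj G) p (ExtShX.pushHMap hf G p x) = ExtShX.pushHMap hfg G p x := by
  induction p generalizing G with
  | zero =>
    refine ((ExtShX.pushHMap_zero hg _ _).trans (congrArg (PnCoh.pushH0 g _) (ExtShX.pushHMap_zero hf G x))).trans ?_
    refine Eq.trans ?_ (ExtShX.pushHMap_zero hfg G x).symm
    exact congrArg (Sheaf.H.equiv₀ ((CohTop.push g).obj ((CohTop.push f).obj G)) isTerminalTop).symm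
      ((Sheaf.H.equiv₀ ((CohTop.push f).obj G) isTerminalTop).apply_symm_apply _)
  | succ p ih =>
    let T : ShortComplex (CohTop.Ab W) :=
      ShortComplex.mk (Injective.ι G) (cokernel.π (Injective.ι G)) (cokernel.condition _)
    have hT : T.ShortExact := { exact := ShortComplex.exact_of_g_is_cokernel _ (cokernelIsCokernel _) }
    have hinj : Injective T.X₂ := Injective.injective_under G
    haveI := ClosedEmb.preservesFiniteColimits_push hf
    haveI := ExtShX.preservesFiniteLimits_push f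
    have hT' : (T.map (CohTop.push f)).ShortExact := hT.map_of_exact (CohTop.push f)
    haveI := ClosedEmb.preservesFiniteColimits_push hg
    haveI := ExtShX.preservesFiniteLimits_push g
    have hT'' : ((T.map (CohTop.push f)).map (CohTop.push g)).ShortExact := hT'.map_of_exact (CohTop.push g)
    have hT₂ : (T.map (CohTop.push (f ≫ g))).ShortExact := hT''
    obtain ⟨y, rfl⟩ := QCoh.Ab.connecting_surjective hT p inferInstance x
    refine ((congrArg _ (ExtShX.pushHMap_connecting hf hT hT' p y)).trans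
      (ExtShX.pushHMap_connecting hg hT' hT'' p _)).trans ?_
    exact (congrArg (QCoh.Ab.connecting hT'' p) (ih T.X₃ y)).trans (ExtShX.pushHMap_connecting hfg hT hT₂ p y).symm

theorem pushHMap_comp {h : W ⟶ X} (hf : IsClosedEmbedding f) (hg : IsClosedEmbedding g) (hh : IsClosedEmbedding h)
    (e : f ≫ g = h) (p : ℕ) (G : CohTop.Ab W) (x : CohTop.H G p)
    (c : (CohTop.push g).obj ((CohTop.push f).obj G) ⟶ (CohTop.push h).obj G)
    (hc : ∀ U : (Opens X)ᵒᵖ, ∃ i, c.hom.app U = G.obj.map i) :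
    Sheaf.H.map c p (ExtShX.pushHMap hg ((CohTop.push f).obj G) p (ExtShX.pushHMap hf G p x)) =
      ExtShX.pushHMap hh G p x := by
  subst e
  have hid : c = 𝟙 ((CohTop.push (f ≫ g)).obj G) := by
    refine Sheaf.hom_ext (NatTrans.ext (funext fun U => ?_))
    obtain ⟨i, hi⟩ := hc U
    rw [hi, show i = 𝟙 _ from Subsingleton.elim _ _]
    exact G.obj.map_id _
  rw [pushHMap_comp_eq hf hg hh, hid]
  exact Sheaf.H.map_id_apply _

end Comp

section Levels

variable {A : Type u} [CommRing A] {J : Ideal A} {𝔛 : FSch.Sys.{u}} (h𝔛 : 𝔛.IsLocNoethFormal)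
  (f : 𝔛 ⟶ FSch.spf A J) (hf : FSch.IsProperHom f) (𝔉 : FSch.ModF 𝔛 h𝔛.1) (h𝔉 : FSch.IsCohF 𝔛 h𝔛.1 𝔉)

/-- A proper morphism to a formal spectrum as an adic system. -/
def adicOf : AmpleVan.AdicSys A J where
  X := 𝔛.X
  p k := (f : FSch.Hom _ _).app k
  i := 𝔛.ι
  cart := hf.1

/-- The levels of a coherent module, as a system on the adic system. -/
def adicModOf : AmpleVan.AdicMod (adicOf f hf) where
  F k := lev h𝔛.1 k 𝔉
  coh := isCoh_levSys h𝔛 𝔉 h𝔉
  ψ k := (levSys h𝔛.1 𝔉).e k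
  noeth := h𝔛.2.2

theorem closed_gInv (k : ℕ) : IsClosedEmbedding (𝔛.gInv h𝔛.1 k) :=
  (TopCat.homeoOfIso (asIso (𝔛.gInv h𝔛.1 k))).isClosedEmbedding

/-- Cohomology of a level as cohomology on the common space. -/
def eC (k n : ℕ) : Coh.HH (𝔛.X k) (lev h𝔛.1 k 𝔉) n →+
    FSch.HF 𝔛 h𝔛.1 ((FSch.levelMor 𝔛 h𝔛.1 k).push.obj (lev h𝔛.1 k 𝔉)) n :=
  ExtShX.pushHMap (closed_gInv h𝔛 k) (Coh.toAb (lev h𝔛.1 k 𝔉)) n

theorem push_map_eq (k : ℕ) {N N' : (𝔛.X k).Modules} (φ : N ⟶ N') :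
    (SheafOfModules.toSheaf _).map ((FSch.levelMor 𝔛 h𝔛.1 k).push.map φ) =
      (CohTop.push (𝔛.gInv h𝔛.1 k)).map ((QCoh.toAbFunctor _).map φ) := by
  refine Sheaf.hom_ext (NatTrans.ext (funext fun U => ?_))
  rfl

set_option maxHeartbeats 1000000 in
theorem eC_trans (k n : ℕ) (z : Coh.HH (𝔛.X (k + 1)) (lev h𝔛.1 (k + 1) 𝔉) n) :
    Sheaf.H.map ((SheafOfModules.toSheaf _).map (FSch.levelTrans 𝔛 h𝔛.1 𝔉 k)) n (eC h𝔛 𝔉 (k + 1) n z) =
      eC h𝔛 𝔉 k n (trH (adicModOf h𝔛 f hf 𝔉 h𝔉) n k z) := by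
  let M := adicModOf h𝔛 f hf 𝔉 h𝔉
  haveI : IsClosedImmersion (𝔛.ι k) := (adicOf f hf).closed_i k
  have hw : ExtShX.pushHMap (𝔛.ι k).isClosedEmbedding (Coh.toAb (lev h𝔛.1 k 𝔉)) n (trH M n k z) =
      mapLin A (M.π k) n z := (eStep (S := adicOf f hf) k (M.F k) n).apply_symm_apply _
  have hπ : M.π k = (levSys h𝔛.1 𝔉).toPush k :=
    (Adjunction.homEquiv_unit _ _ _ _).symm
  rw [← levelTrans_eq, Functor.map_comp, Sheaf.H.map_comp_apply]
  refine Eq.trans ?_ (pushHMap_comp (𝔛.ι k).isClosedEmbedding (closed_gInv h𝔛 (k + 1)) (closed_gInv h𝔛 k)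
    (𝔛.ι_base_gInv h𝔛.1 k) n (Coh.toAb (lev h𝔛.1 k 𝔉)) (trH M n k z)
    ((SheafOfModules.toSheaf _).map ((FSch.pushCompare 𝔛 h𝔛.1 k).app (lev h𝔛.1 k 𝔉)))
    (fun U => ⟨_, rfl⟩))
  refine congrArg (Sheaf.H.map _ n) ?_
  refine (congrArg (fun c => Sheaf.H.map c n (eC h𝔛 𝔉 (k + 1) n z)) (push_map_eq h𝔛 (k + 1) _)).trans ?_
  refine (ExtShX.pushHMap_natural (closed_gInv h𝔛 (k + 1))
    ((QCoh.toAbFunctor _).map ((levSys h𝔛.1 𝔉).toPush k)) n z).symm.trans ?_
  rw [hw, hπ]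
  rfl

include hf h𝔉 in
/-- The cohomology of the levels is Mittag-Leffler. -/
theorem isML_levels [IsNoetherianRing A] (n : ℕ) :
    ARSys.IsML (Functor.ofOpSequence
      (X := fun k => AddCommGrpCat.of (FSch.HF 𝔛 h𝔛.1 ((FSch.levelMor 𝔛 h𝔛.1 k).push.obj ((FSch.levelMor 𝔛 h𝔛.1 k).pull.obj 𝔉)) n))
      (fun k => AddCommGrpCat.ofHom
        (Sheaf.H.map ((SheafOfModules.toSheaf _).map (FSch.levelTrans 𝔛 h𝔛.1 𝔉 k)) n))) := by
  let M := adicModOf h𝔛 f hf 𝔉 h𝔉
  have hc : ∀ k (x : Coh.HH (𝔛.X (k + 1)) (lev h𝔛.1 (k + 1) 𝔉) n), AddCommGrpCat.ofHom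
      (Sheaf.H.map ((SheafOfModules.toSheaf _).map (FSch.levelTrans 𝔛 h𝔛.1 𝔉 k)) n)
        (eC h𝔛 𝔉 (k + 1) n x) = eC h𝔛 𝔉 k n (trH M n k x) := fun k x => eC_trans h𝔛 f hf 𝔉 h𝔉 k n x
  have he : ∀ k, Function.Surjective (eC h𝔛 𝔉 k n) := fun k => (ExtShX.pushHMap_bijective _ n _).2
  have h : ∀ j, ∃ r₀, ∀ d, r₀ ≤ d → LinearMap.range (trsH M n d j) = LinearMap.range (trsH M n r₀ j) :=
    fun j => exists_range_trsH_eq M n hf.2 j
  exact isML_of_range (A := A) (W := fun k => Coh.HH ((adicOf f hf).X k) (M.F k) n)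
    (G := fun k => AddCommGrpCat.of (FSch.HF 𝔛 h𝔛.1
      ((FSch.levelMor 𝔛 h𝔛.1 k).push.obj ((FSch.levelMor 𝔛 h𝔛.1 k).pull.obj 𝔉)) n))
    _ (fun k => trH M n k) (fun k => eC h𝔛 𝔉 k n) he hc h

end Levels

end Groth.Agent.FModLib
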