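import Groth.Agent.FModLib.Algz
import Groth.Agent.Algz7.ClosedAlg
import Groth.Agent.CurveCohLib.Proper

/-!
# Monomorphisms and epimorphisms of completions over a complete base
-/

set_option backward.isDefEq.respectTransparency false
set_option backward.isDefEq.respectTransparency.types false
set_option linter.style.haveILetI false

universe u

open CategoryTheory CategoryTheory.Limits AlgebraicGeometry TopologicalSpace Opposite

noncomputable section

namespace Groth.Agent.FModLib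

open Groth.Agent

theorem mem_range_completionToX {A : Type u} [CommRing A] {J : Ideal A} {X : Scheme.{u}}
    (f : X ⟶ Spec (CommRingCat.of A)) (𝓘 : X.IdealSheafData) (h𝓘 : 𝓘 = (FSch.idealSpec A J).comap f) {x : X}
    (hx : f x ∈ PrimeSpectrum.zeroLocus (J : Set A)) : x ∈ Set.range (FSch.completionToX X 𝓘 0) := by
  show x ∈ Set.range (𝓘 ^ (0 + 1)).subschemeι
  rw [Scheme.IdealSheafData.range_subschemeι, zero_add, pow_one, h𝓘, Scheme.IdealSheafData.support_comap]
  show f x ∈ (FSch.idealSpec A J).support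
  rw [FSch.idealSpec]
  rw [← SetLike.mem_coe, Scheme.Hom.support_ker]
  refine subset_closure ?_
  have h : (f x : PrimeSpectrum A) ∈ Set.range (PrimeSpectrum.comap (Ideal.Quotient.mk J)) := by
    rw [range_comap_of_surjective _ _ Ideal.Quotient.mk_surjective, Ideal.mk_ker]
    exact hx
  obtain ⟨q, hq⟩ := h
  exact ⟨q, hq⟩

/-- A coherent module with zero completion vanishes if the structure map is closed. -/
theorem isZero_of_isZero_completion {A : Type u} [CommRing A] [IsNoetherianRing A] {J : Ideal A} [IsAdicComplete J A]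
    {X : Scheme.{u}} (f : X ⟶ Spec (CommRingCat.of A)) [IsLocallyNoetherian X] (hf : IsClosedMap f.base)
    (𝓘 : X.IdealSheafData) (h𝓘 : 𝓘 = (FSch.idealSpec A J).comap f)
    (h𝔛 : (FSch.completionAlong X 𝓘).IsLocNoethFormal) {M : X.Modules} (hM : Coh.IsCoh M)
    (hz : IsZero ((toY h𝔛.1 (FSch.completionToX X 𝓘) (FSch.completionToX_comm X 𝓘)).pull.obj M)) : IsZero M := by
  haveI := isIso_gamma (FSch.completionToX X 𝓘) (FSch.completionToX_comm X 𝓘) M h𝔛 hM
  let p := FSch.completionToX X 𝓘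
  let hp := FSch.completionToX_comm X 𝓘
  let A0 := (FSch.levelMor (FSch.completionAlong X 𝓘) h𝔛.1 0).adj
  haveI : (FSch.levelMor (FSch.completionAlong X 𝓘) h𝔛.1 0).pull.PreservesZeroMorphisms :=
    haveI : (FSch.levelMor (FSch.completionAlong X 𝓘) h𝔛.1 0).pull.IsLeftAdjoint := ⟨_, ⟨A0⟩⟩
    inferInstance
  have hsys : (sysOf p hp M).IsCoh := fun k => by
    haveI := h𝔛.2.2 k
    exact ZClosLib.isCoh_pullback (p k) hM
  have h0 : IsZero ((Scheme.Modules.pullback (p 0)).obj M) := by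
    have hi := isIso_adjunct 0 h𝔛 (sysOf p hp M) hsys
    exact (Functor.map_isZero _ (hz.of_iso (asIso (gamma h𝔛.1 p hp M)).symm)).of_iso
      (@asIso _ _ _ _ _ hi).symm
  haveI := h𝔛.2.2 0
  have hs := QCoh.support_eq_empty_of_isZero h0 (ZClosLib.isCoh_pullback (p 0) hM).1
  rw [QCoh.support_pullback (p 0) hM.1 hM.2] at hs
  refine CurveCohLib.isZero_of_subsingleton_stalks fun x0 => not_not.1 ((Set.eq_empty_iff_forall_notMem (s := CohB1.support M)).1 ?_ x0)
  show CohB1.support M = ∅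
  by_contra hne
  obtain ⟨c, hc⟩ := Set.nonempty_iff_ne_empty.2 hne
  obtain ⟨y, hy, hy'⟩ := IsClosed.exists_closed_singleton
    (hf _ (QCoh.isClosed_support_of_isFT hM.1 hM.2)) ⟨_, c, hc, rfl⟩
  obtain ⟨x, hxM, rfl⟩ := hy
  have hmem : f x ∈ PrimeSpectrum.zeroLocus (J : Set A) := fun a ha =>
    (show (⊥ : Ideal A).jacobson ≤ (f x).asIdeal from
      sInf_le ⟨bot_le, (PrimeSpectrum.isClosed_singleton_iff_isMaximal _).1 hy'⟩) (IsAdicComplete.le_jacobson_bot J ha)
  obtain ⟨z, hz'⟩ := mem_range_completionToX f 𝓘 h𝓘 hmem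
  have : z ∈ (p 0).base ⁻¹' CohB1.support M := show p 0 z ∈ _ from hz' ▸ hxM
  rw [hs] at this
  exact this

/-- Completion reflects and preserves monomorphisms and epimorphisms. -/
theorem mono_epi_completion_iff {A : Type u} [CommRing A] [IsNoetherianRing A] {J : Ideal A} [IsAdicComplete J A]
    {X : Scheme.{u}} (f : X ⟶ Spec (CommRingCat.of A)) [IsLocallyNoetherian X] (hf : IsClosedMap f.base)
    (𝓘 : X.IdealSheafData) (h𝓘 : 𝓘 = (FSch.idealSpec A J).comap f)
    (h𝔛 : (FSch.completionAlong X 𝓘).IsLocNoethFormal) {F G : X.Modules} (hF : Coh.IsCoh F) (hG : Coh.IsCoh G)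
    (u : F ⟶ G) :
    (Mono (FSch.ModSys.realModMap h𝔛.1 (FSch.complModMap 𝓘 u)) ↔ Mono u) ∧
    (Epi (FSch.ModSys.realModMap h𝔛.1 (FSch.complModMap 𝓘 u)) ↔ Epi u) := by
  obtain ⟨e1, he1⟩ := exists_pull_iso_of_eq 𝓘 h𝔛.1 F hF _ (complMod_toPush 𝓘 F)
  obtain ⟨e2, he2⟩ := exists_pull_iso_of_eq 𝓘 h𝔛.1 G hG _ (complMod_toPush 𝓘 G)
  have nu := pull_nat_of_components h𝔛.1 (FSch.completionToX X 𝓘) (FSch.completionToX_comm X 𝓘) u
    (FSch.complModMap 𝓘 u) e1.hom e2.hom _ _ he1 he2 (unit_compare_nat h𝔛.1 _ _ u)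
  let T := toY h𝔛.1 (FSch.completionToX X 𝓘) (FSch.completionToX_comm X 𝓘)
  haveI : PreservesFiniteLimits T.pull :=
    Groth.Agent.SiteBase.isFlat_of_relLift _ (Groth.Agent.FComplFlat.relLift X 𝓘 h𝔛.1)
  haveI : PreservesColimitsOfSize.{0, 0} T.pull := T.adj.leftAdjoint_preservesColimits
  haveI : T.pull.Additive := Functor.additive_of_preserves_binary_products _
  have ea : Arrow.mk (T.pull.map u) ≅ Arrow.mk (FSch.ModSys.realModMap h𝔛.1 (FSch.complModMap 𝓘 u)) :=
    Arrow.isoMk e1 e2 nu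
  have hmono : Mono (FSch.ModSys.realModMap h𝔛.1 (FSch.complModMap 𝓘 u)) ↔ Mono (T.pull.map u) :=
    ((MorphismProperty.monomorphisms _).arrow_mk_iso_iff ea).symm
  have hepi : Epi (FSch.ModSys.realModMap h𝔛.1 (FSch.complModMap 𝓘 u)) ↔ Epi (T.pull.map u) :=
    ((MorphismProperty.epimorphisms _).arrow_mk_iso_iff ea).symm
  refine ⟨hmono.trans ⟨fun h => ?_, fun _ => inferInstance⟩, hepi.trans ⟨fun h => ?_, fun _ => inferInstance⟩⟩
  · exact Preadditive.mono_of_kernel_iso_zero (isZero_of_isZero_completion f hf 𝓘 h𝓘 h𝔛 (QCoh.isCoh_kernel hF hG u)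
      ((isZero_kernel_of_mono (T.pull.map u)).of_iso (PreservesKernel.iso T.pull u))).isoZero
  · exact Preadditive.epi_of_cokernel_iso_zero (isZero_of_isZero_completion f hf 𝓘 h𝓘 h𝔛 (QCoh.isCoh_cokernel hF.1 hG u)
      ((isZero_cokernel_of_epi (T.pull.map u)).of_iso (PreservesCokernel.iso T.pull u))).isoZero

end Groth.Agent.FModLib
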