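import Groth.Agent.FModLib.Zero

/-!
# Injective and surjective maps of coherent modules form open sets
-/

set_option backward.isDefEq.respectTransparency false
set_option backward.isDefEq.respectTransparency.types false
set_option linter.style.haveILetI false

universe u

open CategoryTheory CategoryTheory.Limits AlgebraicGeometry TopologicalSpace Opposite

noncomputable section

namespace Groth.Agent.FModLib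

variable {𝔛 : FSch.Sys.{u}} (h𝔛 : 𝔛.IsLocNoethFormal) {𝔊 : FSch.ModF 𝔛 h𝔛.1}

/-- Sections of a coherent module over an affine open. -/
theorem affModule (h𝔊 : FSch.IsCohF 𝔛 h𝔛.1 𝔊) {U : (𝔛.X 0).Opens} (hU : IsAffineOpen U) :
    Module.Finite (Rng h𝔛 U) (FSect h𝔛 𝔊 U) ∧ ∀ k x, toLev h𝔛.1 k 𝔊 U x = 0 ↔
      x ∈ RingHom.ker (rproj h𝔛.1 0 U) ^ (k + 1) • (⊤ : Submodule (Rng h𝔛 U) (FSect h𝔛 𝔊 U)) := by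
  haveI := isIso_toReal h𝔛 𝔊 h𝔊
  obtain ⟨hfin, hlev⟩ := affSec h𝔛 (levSys h𝔛.1 𝔊) (isCoh_levSys h𝔛 𝔊 h𝔊) hU
  haveI := hfin
  let e : FSect h𝔛 𝔊 U ≃ₗ[Rng h𝔛 U] Sec h𝔛.1 (levSys h𝔛.1 𝔊) U :=
    LinearEquiv.ofBijective ((toReal h𝔛.1 𝔊).val.app (op U)).hom
      ⟨sect_injective_of_mono (O := 𝔛.Osh h𝔛.1) (toReal h𝔛.1 𝔊) U, fun y =>
        ⟨(inv (toReal h𝔛.1 𝔊)).val.app (op U) y,
          congrArg (fun f => f.val.app (op U) y) (IsIso.inv_hom_id (toReal h𝔛.1 𝔊))⟩⟩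
  refine ⟨Module.Finite.equiv e.symm, fun k x => ?_⟩
  have h1 : toLev h𝔛.1 k 𝔊 U x = pr h𝔛.1 (levSys h𝔛.1 𝔊) k U (e x) := (pr_toReal h𝔛.1 𝔊 k U x).symm
  rw [h1]
  refine ((hlev k).2 (e x)).trans ?_
  let J := RingHom.ker (rproj h𝔛.1 0 U) ^ (k + 1)
  have h2 : Submodule.map (e : FSect h𝔛 𝔊 U →ₗ[Rng h𝔛 U] Sec h𝔛.1 (levSys h𝔛.1 𝔊) U) (J • ⊤) = J • ⊤ := by
    rw [Submodule.map_smul'', Submodule.map_top, LinearEquiv.range]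
  refine ⟨fun hx => ?_, fun hx => h2 ▸ ⟨x, hx, rfl⟩⟩
  obtain ⟨y, hy, hyx⟩ : e x ∈ Submodule.map (e : FSect h𝔛 𝔊 U →ₗ[Rng h𝔛 U] _) (J • ⊤) := h2.symm ▸ hx
  exact e.injective hyx ▸ hy

theorem pull_map_eq_zero {𝔉 : FSch.ModF 𝔛 h𝔛.1} (ψ : 𝔉 ⟶ 𝔊) (k : ℕ)
    (h : ψ ≫ (FSch.levelMor 𝔛 h𝔛.1 k).adj.unit.app 𝔊 = 0) : (FSch.levelMor 𝔛 h𝔛.1 k).pull.map ψ = 0 := by
  haveI : (FSch.levelMor 𝔛 h𝔛.1 k).pull.IsLeftAdjoint := (FSch.levelMor 𝔛 h𝔛.1 k).adj.isLeftAdjoint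
  let A := (FSch.levelMor 𝔛 h𝔛.1 k).adj
  calc (FSch.levelMor 𝔛 h𝔛.1 k).pull.map ψ
      = (FSch.levelMor 𝔛 h𝔛.1 k).pull.map (ψ ≫ A.unit.app 𝔊) ≫ A.counit.app _ := by
        rw [Functor.map_comp, Category.assoc, A.left_triangle_components, Category.comp_id]
    _ = 0 := by rw [h, Functor.map_zero, zero_comp]

theorem comp_unit_zero {𝔉 : FSch.ModF 𝔛 h𝔛.1} (ψ : 𝔉 ⟶ 𝔊) : ∀ (k : ℕ),
    ψ ≫ (FSch.levelMor 𝔛 h𝔛.1 k).adj.unit.app 𝔊 = 0 → ψ ≫ (FSch.levelMor 𝔛 h𝔛.1 0).adj.unit.app 𝔊 = 0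
  | 0 => id
  | k + 1 => fun h => comp_unit_zero ψ k (by
      rw [← FSch.unit_levelTrans 𝔛 h𝔛.1 𝔊 k, reassoc_of% h, zero_comp])

theorem epi_add {𝔉 : FSch.ModF 𝔛 h𝔛.1} (h𝔉 : FSch.IsCohF 𝔛 h𝔛.1 𝔉) (h𝔊 : FSch.IsCohF 𝔛 h𝔛.1 𝔊)
    (θ ψ : 𝔉 ⟶ 𝔊) (k : ℕ) (hψ : ψ ≫ (FSch.levelMor 𝔛 h𝔛.1 k).adj.unit.app 𝔊 = 0) [Epi θ] : Epi (θ + ψ) := by
  haveI : (FSch.levelMor 𝔛 h𝔛.1 0).pull.IsLeftAdjoint := (FSch.levelMor 𝔛 h𝔛.1 0).adj.isLeftAdjoint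
  haveI : (FSch.levelMor 𝔛 h𝔛.1 0).pull.Additive := (FSch.levelMor 𝔛 h𝔛.1 0).adj.left_adjoint_additive
  refine (epi_iff_epi_lev h𝔛 (θ + ψ) h𝔉 h𝔊).mpr ?_
  rw [Functor.map_add, pull_map_eq_zero h𝔛 ψ 0 (comp_unit_zero h𝔛 ψ k hψ), add_zero]
  infer_instance

theorem exists_bound {𝔉 : FSch.ModF 𝔛 h𝔛.1} (h𝔉 : FSch.IsCohF 𝔛 h𝔛.1 𝔉) (h𝔊 : FSch.IsCohF 𝔛 h𝔛.1 𝔊)
    (θ : 𝔉 ⟶ 𝔊) [Mono θ] {U : (𝔛.X 0).Opens} (hU : IsAffineOpen U) :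
    ∃ c : ℕ, ∀ (k : ℕ) (ψ : 𝔉 ⟶ 𝔊), c ≤ k → ψ ≫ (FSch.levelMor 𝔛 h𝔛.1 k).adj.unit.app 𝔊 = 0 →
      ∀ x : FSect h𝔛 𝔉 U, (θ + ψ).val.app (op U) x = 0 → x = 0 := by
  obtain ⟨hfF, -⟩ := affModule h𝔛 h𝔉 hU
  obtain ⟨hfG, hG⟩ := affModule h𝔛 h𝔊 hU
  obtain ⟨hN, hC, -⟩ := affRing h𝔛 hU
  haveI := hfF; haveI := hfG
  let I := RingHom.ker (rproj h𝔛.1 0 U)
  let L : FSect h𝔛 𝔉 U →ₗ[Rng h𝔛 U] FSect h𝔛 𝔊 U := (θ.val.app (op U)).hom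
  have hLi : Function.Injective L := sect_injective_of_mono (O := 𝔛.Osh h𝔛.1) θ U
  obtain ⟨c, hc⟩ := I.exists_pow_inf_eq_pow_smul (LinearMap.range L)
  refine ⟨c, fun k ψ hk hψ x hx => ?_⟩
  let P : FSect h𝔛 𝔉 U →ₗ[Rng h𝔛 U] FSect h𝔛 𝔊 U := (ψ.val.app (op U)).hom
  have hP : LinearMap.range P ≤ I ^ (k + 1) • ⊤ := by
    rintro _ ⟨y, rfl⟩
    refine (hG k _).mp ?_
    exact congrArg (fun f : 𝔉 ⟶ _ => f.val.app (op U) y) hψ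
  have hgain : ∀ j, x ∈ I ^ j • (⊤ : Submodule (Rng h𝔛 U) (FSect h𝔛 𝔉 U)) → x ∈ I ^ (j + 1) • (⊤ : Submodule (Rng h𝔛 U) (FSect h𝔛 𝔉 U)) := by
    intro j hj
    have h1 : P x ∈ I ^ (j + (k + 1)) • (⊤ : Submodule (Rng h𝔛 U) (FSect h𝔛 𝔊 U)) := by
      rw [pow_add, ← smul_eq_mul, Submodule.smul_assoc]
      refine (show Submodule.map P (I ^ j • ⊤) ≤ _ from ?_) ⟨x, hj, rfl⟩
      rw [Submodule.map_smul'', Submodule.map_top]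
      exact Submodule.smul_mono le_rfl hP
    have h2 : L x = - P x := eq_neg_of_add_eq_zero_left hx
    have h3 : L x ∈ I ^ (j + (k + 1)) • (⊤ : Submodule (Rng h𝔛 U) (FSect h𝔛 𝔊 U)) ⊓ LinearMap.range L :=
      ⟨h2 ▸ neg_mem h1, LinearMap.mem_range_self L x⟩
    rw [hc _ (by omega : j + (k + 1) ≥ c)] at h3
    have h4 : L x ∈ Submodule.map L (I ^ (j + (k + 1) - c) • ⊤) := by
      rw [Submodule.map_smul'', Submodule.map_top]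
      exact Submodule.smul_mono le_rfl inf_le_right h3
    obtain ⟨y, hy, hyx⟩ := h4
    exact Submodule.smul_mono (Ideal.pow_le_pow_right (by omega : j + 1 ≤ j + (k + 1) - c)) le_rfl (hLi hyx ▸ hy)
  have hall : ∀ j, x ∈ I ^ j • (⊤ : Submodule (Rng h𝔛 U) (FSect h𝔛 𝔉 U)) := fun j => by
    induction j with
    | zero => rw [pow_zero, Ideal.one_eq_top, Submodule.top_smul]; exact Submodule.mem_top
    | succ j ih => exact hgain j ih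
  haveI : IsHausdorff I (FSect h𝔛 𝔉 U) := IsHausdorff.of_le_jacobson I _ (IsAdicComplete.le_jacobson_bot I)
  exact IsHausdorff.haus' (I := I) x fun j => SModEq.zero.mpr (hall j)

/-- Injective and surjective maps are open. -/
theorem exists_level_mono_epi [CompactSpace (𝔛.X 0)] {𝔉 : FSch.ModF 𝔛 h𝔛.1} (h𝔉 : FSch.IsCohF 𝔛 h𝔛.1 𝔉)
    (h𝔊 : FSch.IsCohF 𝔛 h𝔛.1 𝔊) (θ : 𝔉 ⟶ 𝔊) :
    ∃ n : ℕ, ∀ ψ : 𝔉 ⟶ 𝔊, ψ ≫ (FSch.levelMor 𝔛 h𝔛.1 n).adj.unit.app 𝔊 = 0 →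
      (Mono θ → Mono (θ + ψ)) ∧ (Epi θ → Epi (θ + ψ)) := by
  classical
  by_cases hm : Mono θ
  · choose V hV hxV hle using fun x : 𝔛.X 0 => exists_affine_le (𝔛 := 𝔛) (W := ⊤) (x := x) trivial
    obtain ⟨s, hs⟩ := isCompact_univ.elim_finite_subcover (fun x => ((V x : (𝔛.X 0).Opens) : Set (𝔛.X 0)))
      (fun x => (V x).2) (fun x _ => Set.mem_iUnion.mpr ⟨x, hxV x⟩)
    choose c hc using fun x => exists_bound h𝔛 h𝔉 h𝔊 θ (hV x)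
    refine ⟨s.sup c, fun ψ hψ => ⟨fun _ => ?_, fun h => epi_add h𝔛 h𝔉 h𝔊 θ ψ _ hψ⟩⟩
    refine Preadditive.mono_of_kernel_zero ?_
    apply SheafOfModules.hom_ext
    refine PresheafOfModules.hom_ext fun W => ModuleCat.hom_ext (LinearMap.ext fun z => ?_)
    show ((kernel.ι (θ + ψ)).val.app W z : FSect h𝔛 𝔉 W.unop) = 0
    refine eq_of_locally (O := 𝔛.Osh h𝔛.1) 𝔉 fun p hp => ?_
    obtain ⟨y, hy, hpy⟩ := Set.mem_iUnion₂.mp (hs (Set.mem_univ p))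
    obtain ⟨U, hU, hpU, eU⟩ := exists_affine_le (𝔛 := 𝔛) (W := W.unop ⊓ V y) ⟨hp, hpy⟩
    let K := kernel (θ + ψ)
    have hK := isCohF_kernel h𝔛 (θ + ψ) h𝔉 h𝔊
    obtain ⟨q, m, k, g, hP⟩ := affPres h𝔛 hK (hV y)
    have hk : ∀ i, (kernel.ι (θ + ψ)).val.app (op (V y)) (k i) = 0 := fun i =>
      hc y _ ψ (Finset.le_sup hy) hψ _
        (congrArg (fun f : K ⟶ 𝔊 => f.val.app (op (V y)) (k i)) (kernel.condition (θ + ψ)))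
    obtain ⟨d, hd⟩ := (hP.mono (eU.trans inf_le_right)).gen_aff h𝔛 hK hU (mres K (eU.trans inf_le_left) z)
    refine ⟨U, eU.trans inf_le_left, hpU, ?_⟩
    rw [mres_zero, ← mapp_res K (kernel.ι (θ + ψ)) (eU.trans inf_le_left) z, ← hd, mapp_sum_smul]
    refine Finset.sum_eq_zero fun i _ => ?_
    rw [mapp_res K (kernel.ι (θ + ψ)) (eU.trans inf_le_right) (k i), hk i, mres_zero, smul_zero]
  · exact ⟨0, fun ψ hψ => ⟨fun h => absurd h hm, fun h => epi_add h𝔛 h𝔉 h𝔊 θ ψ _ hψ⟩⟩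

end Groth.Agent.FModLib
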