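import Groth.Agent.FModLib.Abel2
import Groth.Prelude.Def_ModSite2

/-!
# Inverse images along continuous maps preserve finite presentation
-/

set_option backward.isDefEq.respectTransparency false
set_option backward.isDefEq.respectTransparency.types false
set_option linter.style.haveILetI false

universe u

open CategoryTheory CategoryTheory.Limits AlgebraicGeometry TopologicalSpace Opposite

noncomputable section

namespace Groth.Agent.FModLib

variable {X Y : TopCat.{u}} {O : TopCat.Sheaf CommRingCat.{u} X} {O' : TopCat.Sheaf CommRingCat.{u} Y}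

/-- Mathlib's direct image from an open. -/
abbrev jPush (O : TopCat.Sheaf CommRingCat.{u} X) (U : Opens X) : ModSite.Mod (O.over U) ⥤ ModSite.Mod O :=
  SheafOfModules.pushforward.{u} (SheafOfModules.pushforwardOver (R := ModSite.ringSh O) U)

/-- Restriction to an open and direct image from it. -/
def jAdj (O : TopCat.Sheaf CommRingCat.{u} X) (U : Opens X) : ModSite.restr O U ⊣ jPush O U :=
  SheafOfModules.overPushforwardOverAdj (R := ModSite.ringSh O) U

theorem bijective_mres_jPush {U : Opens X} (N : ModSite.Mod (O.over U)) (W : Opens X) :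
    Function.Bijective (mres ((jPush O U).obj N) (inf_le_left : W ⊓ U ≤ W)) := by
  let a : (Over.star U).obj (W ⊓ U) ⟶ (Over.star U).obj W := (Over.star U).map (homOfLE inf_le_left)
  let b : (Over.star U).obj W ⟶ (Over.star U).obj (W ⊓ U) :=
    Over.homMk (prod.lift prod.fst (homOfLE (le_inf (prod.snd : (U ⨯ W) ⟶ W).le (prod.fst : (U ⨯ W) ⟶ U).le))) (Subsingleton.elim _ _)
  have hab : a ≫ b = 𝟙 _ := Over.OverMorphism.ext (Subsingleton.elim _ _)
  have hba : b ≫ a = 𝟙 _ := Over.OverMorphism.ext (Subsingleton.elim _ _)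
  show Function.Bijective (N.val.map a.op)
  refine Function.bijective_iff_has_inverse.mpr ⟨N.val.map b.op, fun x => ?_, fun x => ?_⟩
  · refine (ConcreteCategory.congr_hom (N.val.presheaf.map_comp a.op b.op) x).symm.trans ?_
    rw [← op_comp, hba]
    exact ConcreteCategory.congr_hom (N.val.presheaf.map_id _) x
  · refine (ConcreteCategory.congr_hom (N.val.presheaf.map_comp b.op a.op) x).symm.trans ?_
    rw [← op_comp, hab]
    exact ConcreteCategory.congr_hom (N.val.presheaf.map_id _) x

variable (φ : X ⟶ Y)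
  (sharp : O' ⟶ ((Opens.map φ).sheafPushforwardContinuous CommRingCat.{u} (Opens.grothendieckTopology Y)
    (Opens.grothendieckTopology X)).obj O)

/-- The morphism of ringed spaces. -/
abbrev rmor : ModSite.RMor O O' := ModSite.RMor.ofFlat (Opens.map φ) sharp

/-- The image of a section in the inverse image. -/
def toPull (F : ModSite.Mod O') (V : Opens Y) :
    ModSite.sect F V →+ ModSite.sect ((rmor φ sharp).pull.obj F) ((Opens.map φ).obj V) :=
  (((rmor φ sharp).adj.unit.app F).val.app (op V)).hom.toAddMonoidHom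

theorem toPull_smul (F : ModSite.Mod O') (V : Opens Y) (r : O'.obj.obj (op V)) (x : ModSite.sect F V) :
    toPull φ sharp F V (r • x) = sharp.hom.app (op V) r • toPull φ sharp F V x :=
  map_smul (((rmor φ sharp).adj.unit.app F).val.app (op V)).hom r x

theorem toPull_sum_smul (F : ModSite.Mod O') (V : Opens Y) {ι : Type*} [Fintype ι] (c : ι → O'.obj.obj (op V))
    (x : ι → ModSite.sect F V) :
    toPull φ sharp F V (∑ i, c i • x i) = ∑ i, sharp.hom.app (op V) (c i) • toPull φ sharp F V (x i) :=
  (map_sum (toPull φ sharp F V) _ _).trans (Finset.sum_congr rfl fun i _ => toPull_smul φ sharp F V (c i) (x i))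

variable {F : ModSite.Mod O'} {V : Opens Y} {n m : ℕ} {t : ULift.{u} (Fin n) → ModSite.sect F V}
  {g : ULift.{u} (Fin m) → ULift.{u} (Fin n) → O'.obj.obj (op V)}

theorem bijective_mres_rpush {N : ModSite.Mod O}
    (hN : ∀ W : Opens X, Function.Bijective (mres N (inf_le_left : W ⊓ (Opens.map φ).obj V ≤ W))) (W : Opens Y) :
    Function.Bijective (mres ((rmor φ sharp).push.obj N) (inf_le_left : W ⊓ V ≤ W)) :=
  hN ((Opens.map φ).obj W)

/-- The inverse image of a presented module has the universal property of the cokernel. -/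
theorem existsUnique_pull_restr (hP : IsPres F V t g) (N : ModSite.Mod (O.over ((Opens.map φ).obj V)))
    (s : ULift.{u} (Fin n) → ModSite.sect N (Over.mk (𝟙 ((Opens.map φ).obj V))))
    (hs : ∀ j, ∑ i, (show (O.over ((Opens.map φ).obj V)).obj.obj (op (Over.mk (𝟙 _))) from sharp.hom.app (op V) (g j i)) • s i = 0) :
    ∃! a : (ModSite.restr O ((Opens.map φ).obj V)).obj ((rmor φ sharp).pull.obj F) ⟶ N,
      ∀ i, a.val.app (op (Over.mk (𝟙 _))) (toPull φ sharp F V (t i)) = s i := by
  let U := (Opens.map φ).obj V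
  let G := (jPush O U).obj N
  let A := (rmor φ sharp).adj
  let B := jAdj O U
  let e : (Over.star U).obj U ⟶ Over.mk (𝟙 U) := Over.mkIdTerminal.from _
  have hGb : Function.Bijective (N.val.map e.op) := by
    let e' : Over.mk (𝟙 U) ⟶ (Over.star U).obj U := Over.homMk (prod.lift (𝟙 U) (𝟙 U)) (Subsingleton.elim _ _)
    have h1 : e ≫ e' = 𝟙 _ := Over.OverMorphism.ext (Subsingleton.elim _ _)
    have h2 : e' ≫ e = 𝟙 _ := Over.OverMorphism.ext (Subsingleton.elim _ _)
    refine Function.bijective_iff_has_inverse.mpr ⟨N.val.map e'.op, fun x => ?_, fun x => ?_⟩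
    · refine (ConcreteCategory.congr_hom (N.val.presheaf.map_comp e.op e'.op) x).symm.trans ?_
      rw [← op_comp, h2]
      exact ConcreteCategory.congr_hom (N.val.presheaf.map_id _) x
    · refine (ConcreteCategory.congr_hom (N.val.presheaf.map_comp e'.op e.op) x).symm.trans ?_
      rw [← op_comp, h1]
      exact ConcreteCategory.congr_hom (N.val.presheaf.map_id _) x
  have key : ∀ (a : (ModSite.restr O U).obj ((rmor φ sharp).pull.obj F) ⟶ N) i,
      (A.homEquiv _ _ (B.homEquiv _ _ a)).val.app (op V) (t i) =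
        (show ModSite.sect ((rmor φ sharp).push.obj G) V from
          N.val.map e.op (a.val.app (op (Over.mk (𝟙 U))) (toPull φ sharp F V (t i)))) := by
    intro a i
    rw [Adjunction.homEquiv_unit, Adjunction.homEquiv_unit]
    refine Eq.trans ?_ (PresheafOfModules.naturality_apply a.val e.op _)
    rfl
  obtain ⟨α, hα, hu⟩ := hP.exists_hom (G := (rmor φ sharp).push.obj G)
    (bijective_mres_rpush φ sharp (bijective_mres_jPush N)) (fun i => N.val.map e.op (s i)) (fun j => by
      refine Eq.trans (Finset.sum_congr rfl fun i _ => ?_)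
        ((map_sum (N.val.map e.op).hom _ _).symm.trans ((congrArg (N.val.map e.op) (hs j)).trans (map_zero (N.val.map e.op).hom)))
      refine Eq.trans ?_ (PresheafOfModules.map_smul (R := (ModSite.ringSh (O.over U)).obj) _ e.op _ (s i)).symm
      refine congrArg (fun z : (O.over U).obj.obj (op ((Over.star U).obj U)) => z • N.val.map e.op (s i)) ?_
      exact congrArg (fun f : ((Over.star U).obj U).left ⟶ U => O.obj.map f.op (sharp.hom.app (op V) (g j i)))
        (Subsingleton.elim ((Over.forgetAdjStar U).counit.app U) e.left))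
  refine ⟨(B.homEquiv _ _).symm ((A.homEquiv _ _).symm α), fun i => ?_, fun a ha => ?_⟩
  · refine hGb.1 (Eq.trans (key _ i).symm ?_)
    simp only [Equiv.apply_symm_apply]
    exact hα i
  · have h3 := hu (A.homEquiv _ _ (B.homEquiv _ _ a)) fun i => (key a i).trans (congrArg (N.val.map e.op) (ha i))
    rw [← h3, Equiv.symm_apply_apply, Equiv.symm_apply_apply]

/-- The inverse image of a presented module has a finite presentation. -/
theorem exists_presentation_pull (hP : IsPres F V t g) :
    ∃ P : (((rmor φ sharp).pull.obj F).over ((Opens.map φ).obj V)).Presentation, P.IsFinite := by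
  let U := (Opens.map φ).obj V
  let P := (rmor φ sharp).pull.obj F
  let z : ULift.{u} (Fin m) → ModSite.sect (SheafOfModules.free (R := ModSite.ringSh (O.over U)) (ULift.{u} (Fin n))) (Over.mk (𝟙 U)) :=
    fun j => ∑ i, (show (O.over U).obj.obj (op (Over.mk (𝟙 U))) from sharp.hom.app (op V) (g j i)) •
      SiteBase.basicSec (O.over U) (Over.mk (𝟙 U)) n i
  let ψ := homOf (C := Over U) (O := O.over U) (T := Over.mk (𝟙 U)) Over.mkIdTerminal z
  let π := homU P (fun i => toPull φ sharp F V (t i))
  have hb : ∀ (M : ModSite.Mod (O.over U)) (f : SheafOfModules.free (R := ModSite.ringSh (O.over U)) (ULift.{u} (Fin n)) ⟶ M) j,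
      f.val.app (op (Over.mk (𝟙 U))) (ψ.val.app (op (Over.mk (𝟙 U))) (SiteBase.basicSec (O.over U) (Over.mk (𝟙 U)) m j)) =
        ∑ i, (show (O.over U).obj.obj (op (Over.mk (𝟙 U))) from sharp.hom.app (op V) (g j i)) •
          f.val.app (op (Over.mk (𝟙 U))) (SiteBase.basicSec (O.over U) (Over.mk (𝟙 U)) n i) := by
    intro M f j
    rw [show ψ.val.app (op (Over.mk (𝟙 U))) (SiteBase.basicSec (O.over U) (Over.mk (𝟙 U)) m j) = z j from by
      refine (homOf_basic (C := Over U) (O := O.over U) (T := Over.mk (𝟙 U)) Over.mkIdTerminal z _ j).trans ?_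
      rw [show Over.mkIdTerminal.from (Over.mk (𝟙 U)) = 𝟙 _ from Over.mkIdTerminal.hom_ext _ _, op_id]
      exact congr($((SheafOfModules.free (R := ModSite.ringSh (O.over U)) (ULift.{u} (Fin n))).val.presheaf.map_id _) (z j))]
    exact (map_sum (f.val.app _).hom _ _).trans (Finset.sum_congr rfl fun i _ => map_smul (f.val.app _).hom _ _)
  have hw : ψ ≫ π = 0 := by
    refine SiteBase.free_hom_ext_term Over.mkIdTerminal fun j => ?_
    refine (hb _ π j).trans ?_
    refine Eq.trans (Finset.sum_congr rfl fun i _ =>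
      congrArg (fun y : ModSite.sect P U => sharp.hom.app (op V) (g j i) • y) (homU_basic P _ i)) ?_
    exact (toPull_sum_smul φ sharp F V (g j) t).symm.trans
      ((congrArg (toPull φ sharp F V) (hP.rel0 j)).trans (map_zero _))
  let Q := cokernel ψ
  let κ : Q ⟶ (ModSite.restr O U).obj P := cokernel.desc ψ π hw
  have hκ : ∀ i, κ.val.app (op (Over.mk (𝟙 U))) ((cokernel.π ψ).val.app _
      (SiteBase.basicSec (O.over U) (Over.mk (𝟙 U)) n i)) = toPull φ sharp F V (t i) := fun i =>
    (congrArg (fun f : _ ⟶ (ModSite.restr O U).obj P => f.val.app (op (Over.mk (𝟙 U)))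
      (SiteBase.basicSec (O.over U) (Over.mk (𝟙 U)) n i)) (cokernel.π_desc ψ π hw)).trans (homU_basic P _ i)
  haveI : IsIso κ := isIso_of_coyoneda_map_bijective _ fun N => by
    refine ⟨fun a b hab => ?_, fun ξ => ?_⟩
    · have hkill : ∀ j, ∑ i, (show (O.over U).obj.obj (op (Over.mk (𝟙 U))) from sharp.hom.app (op V) (g j i)) •
          a.val.app (op (Over.mk (𝟙 U))) (toPull φ sharp F V (t i)) = 0 := fun j => by
        refine Eq.trans (Finset.sum_congr rfl fun i _ => (map_smul (a.val.app (op (Over.mk (𝟙 U)))).hom _ _).symm)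
          ((map_sum (a.val.app (op (Over.mk (𝟙 U)))).hom _ _).symm.trans ?_)
        refine (congrArg (a.val.app _) ((toPull_sum_smul φ sharp F V (g j) t).symm.trans
          ((congrArg (toPull φ sharp F V) (hP.rel0 j)).trans (map_zero _)))).trans ?_
        exact map_zero (a.val.app _).hom
      refine (existsUnique_pull_restr φ sharp hP N _ hkill).unique (fun i => rfl) fun i => ?_
      rw [← hκ i]
      exact (congrArg (fun f : Q ⟶ N => f.val.app _ _) hab).symm
    · let s : ULift.{u} (Fin n) → ModSite.sect N (Over.mk (𝟙 U)) := fun i =>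
        (cokernel.π ψ ≫ ξ).val.app _ (SiteBase.basicSec (O.over U) (Over.mk (𝟙 U)) n i)
      obtain ⟨a, ha, -⟩ := existsUnique_pull_restr φ sharp hP N s fun j => by
        refine (hb _ (cokernel.π ψ ≫ ξ) j).symm.trans ?_
        exact congrArg (fun f : _ ⟶ N => f.val.app _ (SiteBase.basicSec (O.over U) (Over.mk (𝟙 U)) m j))
          (show ψ ≫ cokernel.π ψ ≫ ξ = 0 by simp)
      refine ⟨a, (cancel_epi (cokernel.π ψ)).mp (SiteBase.free_hom_ext_term Over.mkIdTerminal fun i => ?_)⟩
      refine Eq.trans ?_ (ha i)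
      exact congrArg (a.val.app (op (Over.mk (𝟙 U)))) (hκ i)
  refine ⟨SheafOfModules.presentationOfIsCokernelFree ψ π hw
    (IsColimit.ofIsoColimit (cokernelIsCokernel ψ) (Cofork.ext (asIso κ) (cokernel.π_desc ψ π hw))), ⟨?_, ?_⟩⟩
  · exact ⟨inferInstanceAs (Finite (ULift.{u} (Fin n)))⟩
  · exact ⟨inferInstanceAs (Finite (ULift.{u} (Fin m)))⟩

/-- Inverse images preserve finite presentation. -/
theorem isFinitePresentation_pull
    (hF : ∀ y : Y, ∃ (V : Opens Y) (n m : ℕ) (t : ULift.{u} (Fin n) → ModSite.sect F V)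
      (g : ULift.{u} (Fin m) → ULift.{u} (Fin n) → O'.obj.obj (op V)), y ∈ V ∧ IsPres F V t g) :
    SheafOfModules.IsFinitePresentation.{u} (R := ModSite.ringSh O) ((rmor φ sharp).pull.obj F) := by
  choose V n m t g hxV hP using fun x : X => hF (φ x)
  choose P hPf using fun x => exists_presentation_pull φ sharp (hP x)
  have hcov : (Opens.grothendieckTopology X).CoversTop (fun x => (Opens.map φ).obj (V x)) :=
    (_root_.Opens.coversTop_iff _ _).mpr (eq_top_iff.mpr fun x _ => Opens.mem_iSup.mpr ⟨x, hxV x⟩)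
  let σ := SheafOfModules.QuasicoherentData.mk (M := (rmor φ sharp).pull.obj F) (↥X)
    (fun x => (Opens.map φ).obj (V x)) hcov P
  have hσ : σ.IsFinitePresentation := by constructor; exact hPf
  constructor
  exact ⟨σ, hσ⟩

end Groth.Agent.FModLib
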