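import Groth.Agent.FModLib.ToScheme
import Groth.Prelude.Def_FSch6

/-!
# Inverse images of modules of coherent systems
-/

set_option backward.isDefEq.respectTransparency false
set_option backward.isDefEq.respectTransparency.types false
set_option linter.style.haveILetI false

universe u v

open CategoryTheory CategoryTheory.Limits AlgebraicGeometry TopologicalSpace Opposite

noncomputable section

namespace Groth.Agent.FModLib

/-- The adjunct of a map to a direct image, around a square of adjunctions. -/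
theorem isIso_adjunct_square {P Q R S : Type*} [Category.{v} P] [Category.{v} Q] [Category.{v} R] [Category.{v} S]
    {AL : Q ⥤ P} {AR : P ⥤ Q} (A : AL ⊣ AR) {BL : S ⥤ Q} {BR : Q ⥤ S} (B : BL ⊣ BR)
    {CL : R ⥤ P} {CR : P ⥤ R} (C : CL ⊣ CR) {DL : S ⥤ R} {DR : R ⥤ S} (D : DL ⊣ DR)
    (s : AR ⋙ BR ≅ CR ⋙ DR) {M : S} {N : R} (r : M ⟶ DR.obj N) (hr : IsIso ((D.homEquiv _ _).symm r)) :
    IsIso ((A.homEquiv _ _).symm ((B.homEquiv _ _).symm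
      (r ≫ DR.map (C.unit.app N) ≫ s.inv.app (CL.obj N)))) := by
  refine isIso_of_coyoneda_map_bijective _ fun Z => ?_
  let ψ := (A.homEquiv _ _).symm ((B.homEquiv _ _).symm (r ≫ DR.map (C.unit.app N) ≫ s.inv.app (CL.obj N)))
  have key : ∀ χ : CL.obj N ⟶ Z, B.homEquiv _ _ (A.homEquiv _ _ (ψ ≫ χ)) =
      D.homEquiv _ _ ((D.homEquiv _ _).symm r ≫ C.homEquiv _ _ χ) ≫ s.inv.app Z := by
    intro χ
    have hn : s.inv.app (CL.obj N) ≫ BR.map (AR.map χ) = DR.map (CR.map χ) ≫ s.inv.app Z := (s.inv.naturality χ).symm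
    rw [Adjunction.homEquiv_naturality_right, Equiv.apply_symm_apply, Adjunction.homEquiv_naturality_right,
      Equiv.apply_symm_apply, Adjunction.homEquiv_naturality_right, Equiv.apply_symm_apply, Adjunction.homEquiv_unit,
      Category.assoc, Category.assoc, hn, Functor.map_comp, Category.assoc, Category.assoc]
  refine ⟨fun χ χ' e => ?_, fun ξ => ?_⟩
  · have e' := congrArg (fun f => B.homEquiv _ _ (A.homEquiv _ _ f)) e
    have e'' := (cancel_mono _).1 ((key χ).symm.trans (e'.trans (key χ')))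
    exact (C.homEquiv _ _).injective ((cancel_epi _).1 ((D.homEquiv _ _).injective e''))
  · refine ⟨(C.homEquiv _ _).symm (inv ((D.homEquiv _ _).symm r) ≫
      (D.homEquiv _ _).symm (B.homEquiv _ _ (A.homEquiv _ _ ξ) ≫ s.hom.app Z)), ?_⟩
    refine (A.homEquiv _ _).injective ((B.homEquiv _ _).injective ((key _).trans ?_))
    rw [Equiv.apply_symm_apply, IsIso.hom_inv_id_assoc, Equiv.apply_symm_apply, Category.assoc, s.hom_inv_id_app]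
    exact Category.comp_id _

/-- A map of the shape of a transition of inverse images carries units to units. -/
theorem adjunct_square_app {W X Y Z : Scheme.{u}} (i : W ⟶ X) (g : X ⟶ Z) (φ : W ⟶ Y) (j : Y ⟶ Z)
    (w : i ≫ g = φ ≫ j) {M : Z.Modules} {N : Y.Modules} (h : (Scheme.Modules.pullback j).obj M ⟶ N)
    (V : Z.Opens) (y : Γ(M, V)) (e : i ⁻¹ᵁ (g ⁻¹ᵁ V) ≤ φ ⁻¹ᵁ (j ⁻¹ᵁ V)) :
    ((Scheme.Modules.pullbackPushforwardAdjunction i).homEquiv _ _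
        ((Scheme.Modules.pullbackComp i g).hom.app M ≫ (Scheme.Modules.pullbackCongr w).hom.app M ≫
          (Scheme.Modules.pullbackComp φ j).inv.app M ≫ (Scheme.Modules.pullback φ).map h)).app (g ⁻¹ᵁ V)
        (((Scheme.Modules.pullbackPushforwardAdjunction g).unit.app M).app V y) =
      ((Scheme.Modules.pullback φ).obj N).presheaf.map (homOfLE e).op
        (((Scheme.Modules.pullbackPushforwardAdjunction φ).unit.app N).app (j ⁻¹ᵁ V)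
          (((Scheme.Modules.pullbackPushforwardAdjunction j).homEquiv _ _ h).app V y)) := by
  let b := (Scheme.Modules.pullbackComp φ j).inv.app M ≫ (Scheme.Modules.pullback φ).map h
  have hb : b.app ((φ ≫ j) ⁻¹ᵁ V) (((Scheme.Modules.pullbackPushforwardAdjunction (φ ≫ j)).unit.app M).app V y) =
      ((Scheme.Modules.pullbackPushforwardAdjunction φ).unit.app N).app (j ⁻¹ᵁ V)
        (((Scheme.Modules.pullbackPushforwardAdjunction j).homEquiv _ _ h).app V y) := by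
    rw [← unit_comp_app φ j M V y, Adjunction.homEquiv_unit]
    refine (congrArg (((Scheme.Modules.pullback φ).map h).app ((φ ≫ j) ⁻¹ᵁ V))
      (congrArg (fun t => Scheme.Modules.Hom.app t ((φ ≫ j) ⁻¹ᵁ V)
        (((Scheme.Modules.pullbackPushforwardAdjunction φ).unit.app ((Scheme.Modules.pullback j).obj M)).app (j ⁻¹ᵁ V)
          (((Scheme.Modules.pullbackPushforwardAdjunction j).unit.app M).app V y)))
        ((Scheme.Modules.pullbackComp φ j).hom_inv_id_app M))).trans ?_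
    exact (congrArg (fun t => Scheme.Modules.Hom.app t (j ⁻¹ᵁ V)
        (((Scheme.Modules.pullbackPushforwardAdjunction j).unit.app M).app V y))
      ((Scheme.Modules.pullbackPushforwardAdjunction φ).unit.naturality h)).symm
  have ha := adjunct_comp_congr_app i g w M V y
  refine Eq.trans ?_ (congrArg (((Scheme.Modules.pullback φ).obj N).presheaf.map (homOfLE e).op) hb)
  rw [show (Scheme.Modules.pullbackComp i g).hom.app M ≫ (Scheme.Modules.pullbackCongr w).hom.app M ≫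
      (Scheme.Modules.pullbackComp φ j).inv.app M ≫ (Scheme.Modules.pullback φ).map h =
    ((Scheme.Modules.pullbackComp i g).hom.app M ≫ (Scheme.Modules.pullbackCongr w).hom.app M) ≫ b from
    (Category.assoc _ _ _).symm, Adjunction.homEquiv_naturality_right]
  have e' : i ⁻¹ᵁ (g ⁻¹ᵁ V) ≤ (φ ≫ j) ⁻¹ᵁ V := e
  let z : Γ((Scheme.Modules.pullback (φ ≫ j)).obj M, (φ ≫ j) ⁻¹ᵁ V) :=
    ((Scheme.Modules.pullbackPushforwardAdjunction (φ ≫ j)).unit.app M).app V y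
  have hn : b.app (i ⁻¹ᵁ (g ⁻¹ᵁ V))
      (((Scheme.Modules.pullback (φ ≫ j)).obj M).presheaf.map (homOfLE e').op z) =
      ((Scheme.Modules.pullback φ).obj N).presheaf.map (homOfLE e').op (b.app ((φ ≫ j) ⁻¹ᵁ V) z) :=
    PresheafOfModules.naturality_apply b.val (homOfLE e').op z
  exact (congrArg (fun t => b.app (i ⁻¹ᵁ (g ⁻¹ᵁ V)) t) ha).trans hn

variable {𝔛 𝔜 : FSch.Sys.{u}} (f : 𝔛 ⟶ 𝔜) (𝔐 : FSch.ModSys 𝔜)

/-- The transition of the inverse-image system carries the units to the units. -/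
theorem toPush_pullback_unit (k : ℕ) (W : (𝔜.X (k + 1)).Opens) (y : Γ(𝔐.F (k + 1), W))
    (e : 𝔛.ι k ⁻¹ᵁ ((f : FSch.Hom 𝔛 𝔜).app (k + 1) ⁻¹ᵁ W) ≤ (f : FSch.Hom 𝔛 𝔜).app k ⁻¹ᵁ (𝔜.ι k ⁻¹ᵁ W)) :
    ((FSch.ModSys.pullback f 𝔐).toPush k).app ((f : FSch.Hom 𝔛 𝔜).app (k + 1) ⁻¹ᵁ W)
        (((Scheme.Modules.pullbackPushforwardAdjunction ((f : FSch.Hom 𝔛 𝔜).app (k + 1))).unit.app (𝔐.F (k + 1))).app W y) =
      ((Scheme.Modules.pullback ((f : FSch.Hom 𝔛 𝔜).app k)).obj (𝔐.F k)).presheaf.map (homOfLE e).op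
        (((Scheme.Modules.pullbackPushforwardAdjunction ((f : FSch.Hom 𝔛 𝔜).app k)).unit.app (𝔐.F k)).app
          (𝔜.ι k ⁻¹ᵁ W) ((𝔐.toPush k).app W y)) := by
  have he : ((FSch.ModSys.pullback f 𝔐).e k).hom =
      (Scheme.Modules.pullbackComp (𝔛.ι k) ((f : FSch.Hom 𝔛 𝔜).app (k + 1))).hom.app (𝔐.F (k + 1)) ≫
        (Scheme.Modules.pullbackCongr ((f : FSch.Hom 𝔛 𝔜).comm k).symm).hom.app (𝔐.F (k + 1)) ≫
          (Scheme.Modules.pullbackComp ((f : FSch.Hom 𝔛 𝔜).app k) (𝔜.ι k)).inv.app (𝔐.F (k + 1)) ≫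
            (Scheme.Modules.pullback ((f : FSch.Hom 𝔛 𝔜).app k)).map (𝔐.e k).hom := by
    rw [FSch.ModSys.pullback_e]
    simp only [FSch.ModSys.pullTrans, Iso.trans_hom, Iso.app_hom, Functor.mapIso_hom, Category.assoc]
    rfl
  unfold FSch.ModSys.toPush
  rw [he]
  exact adjunct_square_app (𝔛.ι k) ((f : FSch.Hom 𝔛 𝔜).app (k + 1)) ((f : FSch.Hom 𝔛 𝔜).app k) (𝔜.ι k)
    ((f : FSch.Hom 𝔛 𝔜).comm k).symm (𝔐.e k).hom W y e

variable (h𝔛 : 𝔛.IsFormal) (h𝔜 : 𝔜.IsFormal)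

/-- The map from the module of a system to the direct image of a level of the inverse-image system. -/
def pullComp (k : ℕ) :
    𝔐.realMod h𝔜 ⟶ (FSch.pushF f h𝔛 h𝔜).obj
      ((FSch.levelMor 𝔛 h𝔛 k).push.obj ((FSch.ModSys.pullback f 𝔐).F k)) :=
  FSch.realProj 𝔜 h𝔜 𝔐.F 𝔐.toPush k ≫
    (FSch.levelMor 𝔜 h𝔜 k).push.map
      ((ModSite.RMor.ofScheme ((f : FSch.Hom 𝔛 𝔜).app k)).adj.unit.app (𝔐.F k)) ≫
    (FSch.lvPushSq f h𝔛 h𝔜 k).inv.app ((FSch.ModSys.pullback f 𝔐).F k)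

set_option maxHeartbeats 1000000 in
theorem pullComp_trans (k : ℕ) :
    pullComp f 𝔐 h𝔛 h𝔜 (k + 1) ≫ (FSch.pushF f h𝔛 h𝔜).map
        ((FSch.levelMor 𝔛 h𝔛 (k + 1)).push.map ((FSch.ModSys.pullback f 𝔐).toPush k) ≫
          (FSch.pushCompare 𝔛 h𝔛 k).app ((FSch.ModSys.pullback f 𝔐).F k)) = pullComp f 𝔐 h𝔛 h𝔜 k := by
  apply SheafOfModules.hom_ext
  refine PresheafOfModules.hom_ext fun V => ModuleCat.hom_ext (LinearMap.ext fun x => ?_)
  obtain ⟨V⟩ := V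
  let φ := (f : FSch.Hom 𝔛 𝔜).app k
  let φ' := (f : FSch.Hom 𝔛 𝔜).app (k + 1)
  let P := (Scheme.Modules.pullback φ).obj (𝔐.F k)
  let V' : (𝔛.X 0).Opens := (f : FSch.Hom 𝔛 𝔜).app 0 ⁻¹ᵁ V
  let W := 𝔜.lvU h𝔜 (k + 1) V
  let y : Γ(𝔐.F (k + 1), W) := pr h𝔜 𝔐 (k + 1) V x
  let uy := ((Scheme.Modules.pullbackPushforwardAdjunction φ').unit.app (𝔐.F (k + 1))).app W y
  let a : 𝔛.lvU h𝔛 (k + 1) V' ⟶ φ' ⁻¹ᵁ W := homOfLE (FSch.Hom.lvU_preimage f h𝔛 h𝔜 (k + 1) V).ge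
  let b : 𝔛.lvU h𝔛 k V' ⟶ 𝔛.ι k ⁻¹ᵁ 𝔛.lvU h𝔛 (k + 1) V' := homOfLE (𝔛.lvU_le h𝔛 k V')
  let c : 𝔛.lvU h𝔛 k V' ⟶ φ ⁻¹ᵁ (𝔜.lvU h𝔜 k V) := homOfLE (FSch.Hom.lvU_preimage f h𝔛 h𝔜 k V).ge
  let b' : 𝔜.lvU h𝔜 k V ⟶ 𝔜.ι k ⁻¹ᵁ W := homOfLE (𝔜.lvU_le h𝔜 k V)
  have e : 𝔛.ι k ⁻¹ᵁ (φ' ⁻¹ᵁ W) ≤ φ ⁻¹ᵁ (𝔜.ι k ⁻¹ᵁ W) := by
    rw [← Scheme.Hom.comp_preimage, ← Scheme.Hom.comp_preimage, (f : FSch.Hom 𝔛 𝔜).comm k]
  show P.presheaf.map b.op (((FSch.ModSys.pullback f 𝔐).toPush k).app (𝔛.lvU h𝔛 (k + 1) V')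
      (((Scheme.Modules.pullback φ').obj (𝔐.F (k + 1))).presheaf.map a.op uy)) =
    P.presheaf.map c.op
      (((Scheme.Modules.pullbackPushforwardAdjunction φ).unit.app (𝔐.F k)).app (𝔜.lvU h𝔜 k V) (pr h𝔜 𝔐 k V x))
  rw [← pr_tr h𝔜 𝔐 k V x]
  show _ = P.presheaf.map c.op (((Scheme.Modules.pullbackPushforwardAdjunction φ).unit.app (𝔐.F k)).app (𝔜.lvU h𝔜 k V)
    ((𝔐.F k).presheaf.map b'.op ((𝔐.toPush k).app W y)))
  rw [show ((Scheme.Modules.pullbackPushforwardAdjunction φ).unit.app (𝔐.F k)).app (𝔜.lvU h𝔜 k V)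
      ((𝔐.F k).presheaf.map b'.op ((𝔐.toPush k).app W y)) =
    P.presheaf.map ((Opens.map φ.base).map b').op
      (((Scheme.Modules.pullbackPushforwardAdjunction φ).unit.app (𝔐.F k)).app (𝔜.ι k ⁻¹ᵁ W) ((𝔐.toPush k).app W y)) from
    PresheafOfModules.naturality_apply ((Scheme.Modules.pullbackPushforwardAdjunction φ).unit.app (𝔐.F k)).val b'.op _]
  rw [show ((FSch.ModSys.pullback f 𝔐).toPush k).app (𝔛.lvU h𝔛 (k + 1) V')
      (((Scheme.Modules.pullback φ').obj (𝔐.F (k + 1))).presheaf.map a.op uy) =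
    P.presheaf.map ((Opens.map (𝔛.ι k).base).map a).op
      (((FSch.ModSys.pullback f 𝔐).toPush k).app (φ' ⁻¹ᵁ W) uy) from
    PresheafOfModules.naturality_apply ((FSch.ModSys.pullback f 𝔐).toPush k).val a.op uy]
  rw [show ((FSch.ModSys.pullback f 𝔐).toPush k).app (φ' ⁻¹ᵁ W) uy = _ from toPush_pullback_unit f 𝔐 k W y e,
    QCoh.map_map, QCoh.map_map, QCoh.map_map]
  exact congrArg (fun i => P.presheaf.map (Quiver.Hom.op i) _) (Subsingleton.elim _ _)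

/-- The comparison from the inverse image of the module to the module of the inverse-image system. -/
def pullGamma : (FSch.pullF f h𝔛 h𝔜).obj (𝔐.realMod h𝔜) ⟶ (FSch.ModSys.pullback f 𝔐).realMod h𝔛 :=
  limit.lift (FSch.levelSysOf 𝔛 h𝔛 (FSch.ModSys.pullback f 𝔐).F (FSch.ModSys.pullback f 𝔐).toPush)
    { pt := (FSch.pullF f h𝔛 h𝔜).obj (𝔐.realMod h𝔜)
      π := NatTrans.ofOpSequence
        (fun k => ((FSch.homMor f h𝔛 h𝔜).adj.homEquiv _ _).symm (pullComp f 𝔐 h𝔛 h𝔜 k)) fun k => by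
        rw [FSch.levelSysOf_map_succ]
        refine (Category.id_comp _).trans ?_
        refine Eq.trans ?_ ((FSch.homMor f h𝔛 h𝔜).adj.homEquiv_naturality_right_symm _ _)
        rw [pullComp_trans] }

theorem pullGamma_proj (k : ℕ) :
    pullGamma f 𝔐 h𝔛 h𝔜 ≫ FSch.realProj 𝔛 h𝔛 (FSch.ModSys.pullback f 𝔐).F (FSch.ModSys.pullback f 𝔐).toPush k =
      ((FSch.homMor f h𝔛 h𝔜).adj.homEquiv _ _).symm (pullComp f 𝔐 h𝔛 h𝔜 k) :=
  limit.lift_π _ (op k)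

/-- The inverse image of the module of a coherent system is the module of the inverse-image system. -/
theorem exists_iso_pullF_realMod (h𝔛' : 𝔛.IsLocNoethFormal) (h𝔜' : 𝔜.IsLocNoethFormal) (h𝔐 : 𝔐.IsCoh) :
    ∃ e : (FSch.pullF f h𝔛'.1 h𝔜'.1).obj (𝔐.realMod h𝔜'.1) ≅ (FSch.ModSys.pullback f 𝔐).realMod h𝔛'.1,
      ∀ k : ℕ, (FSch.homMor f h𝔛'.1 h𝔜'.1).adj.homEquiv _ _ e.hom ≫
          (FSch.pushF f h𝔛'.1 h𝔜'.1).map (FSch.realProj 𝔛 h𝔛'.1 _ _ k) ≫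
          (FSch.lvPushSq f h𝔛'.1 h𝔜'.1 k).hom.app ((FSch.ModSys.pullback f 𝔐).F k) =
        FSch.realProj 𝔜 h𝔜'.1 _ _ k ≫
          (FSch.levelMor 𝔜 h𝔜'.1 k).push.map
            ((ModSite.RMor.ofScheme ((f : FSch.Hom 𝔛 𝔜).app k)).adj.unit.app (𝔐.F k)) := by
  have hsys : (FSch.ModSys.pullback f 𝔐).IsCoh := fun k => by
    haveI := h𝔛'.2.2 k
    haveI := h𝔜'.2.2 k
    exact ZClosLib.isCoh_pullback ((f : FSch.Hom 𝔛 𝔜).app k) (h𝔐 k)
  have hA : FSch.IsCohF 𝔛 h𝔛'.1 ((FSch.pullF f h𝔛'.1 h𝔜'.1).obj (𝔐.realMod h𝔜'.1)) :=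
    isFinitePresentation_pull (O' := 𝔜.Osh h𝔜'.1) (O := 𝔛.Osh h𝔛'.1) ((f : FSch.Hom 𝔛 𝔜).app 0).base
      (FSch.Hom.sharp f h𝔛'.1 h𝔜'.1) fun y => by
      obtain ⟨U, n, m, t, g, hy, hP⟩ := exists_isPres (isCohF_realMod h𝔜' 𝔐 h𝔐) y
      exact ⟨U, n, m, t, g, hy, hP⟩
  haveI : IsIso (pullGamma f 𝔐 h𝔛'.1 h𝔜'.1) := by
    refine isIso_of_lev h𝔛' hA (isCohF_realMod h𝔛' _ hsys) _ fun k => ?_
    let A := (FSch.levelMor 𝔛 h𝔛'.1 k).adj
    have e := (A.homEquiv_naturality_left_symm _ _).symm.trans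
      (congrArg (A.homEquiv _ _).symm (pullGamma_proj f 𝔐 h𝔛'.1 h𝔜'.1 k))
    exact @IsIso.of_isIso_fac_right _ _ _ _ _ _ _ _ (isIso_adjunct k h𝔛' (FSch.ModSys.pullback f 𝔐) hsys)
      (isIso_adjunct_square A (FSch.homMor f h𝔛'.1 h𝔜'.1).adj
        (ModSite.RMor.ofScheme ((f : FSch.Hom 𝔛 𝔜).app k)).adj (FSch.levelMor 𝔜 h𝔜'.1 k).adj
        (FSch.lvPushSq f h𝔛'.1 h𝔜'.1 k) _ (isIso_adjunct k h𝔜' 𝔐 h𝔐)) e
  refine ⟨asIso (pullGamma f 𝔐 h𝔛'.1 h𝔜'.1), fun k => ?_⟩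
  rw [asIso_hom, ← Category.assoc, ← (FSch.homMor f h𝔛'.1 h𝔜'.1).adj.homEquiv_naturality_right, pullGamma_proj,
    Equiv.apply_symm_apply, pullComp, Category.assoc, Category.assoc, Iso.inv_hom_id_app]
  exact congrArg (_ ≫ ·) (Category.comp_id _)

end Groth.Agent.FModLib
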