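import Groth.Agent.FModLib.Formal
import Groth.Agent.SiteBase.ModColim
import Groth.Prelude.Def_CohCx

/-!
# The direct image of a completed module is the limit of the quotients
-/

set_option backward.isDefEq.respectTransparency false
set_option backward.isDefEq.respectTransparency.types false
set_option linter.style.haveILetI false

universe u

open CategoryTheory CategoryTheory.Limits AlgebraicGeometry TopologicalSpace Opposite

noncomputable section

namespace Groth.Agent.FModLib

open Groth.Agent

variable {A : Type u} [CommRing A] {X : Scheme.{u}} [X.Over (Spec (CommRingCat.of A))]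
  {𝔛 : FSch.Sys.{u}} (h : 𝔛.IsFormal) (p : ∀ n, 𝔛.X n ⟶ X) [∀ n, IsClosedImmersion (p n)]
  (hp : ∀ n, 𝔛.ι n ≫ p (n + 1) = p n) {I : Ideal A} (hk : ∀ n, (p n).ker = Algz7.baseIdeal (I ^ (n + 1)))

/-- The adjunct components of `u^* F ⟶ lim F_k`. -/
def theta (F : X.Modules) (k : ℕ) :
    F ⟶ (toY h p hp).push.obj ((FSch.levelMor 𝔛 h k).push.obj ((Scheme.Modules.pullback (p k)).obj F)) :=
  (Scheme.Modules.pullbackPushforwardAdjunction (p k)).unit.app F ≫
    (FSch.schPushCompare 𝔛 h p hp k).app ((Scheme.Modules.pullback (p k)).obj F)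

include hk in
theorem isQuot_theta {F : X.Modules} (hF : Coh.IsQCoh F) (k : ℕ) :
    Algz7.IsQuot (I ^ (k + 1)) (theta h p hp F k) := by
  haveI := isIso_schPushCompare_app h p hp k ((Scheme.Modules.pullback (p k)).obj F)
  exact isQuot_comp_iso (isQuot_unit (p k) (hk k) hF) _

theorem theta_trans (F : X.Modules) (k : ℕ) :
    theta h p hp F (k + 1) ≫ (toY h p hp).push.map
        ((FSch.levelMor 𝔛 h (k + 1)).push.map ((sysOf p hp F).toPush k) ≫
          (FSch.pushCompare 𝔛 h k).app ((sysOf p hp F).F k)) = theta h p hp F k := by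
  have h1 := congrArg ((toY h p hp).adj.homEquiv _ _) (psi_trans h p hp F k)
  rw [psi, psi] at h1
  refine Eq.trans ?_ (h1.trans (Equiv.apply_symm_apply _ _))
  exact (congrArg (· ≫ _) (Equiv.apply_symm_apply _ _).symm).trans
    ((toY h p hp).adj.homEquiv_naturality_right _ _).symm

include hk in
/-- The quotients are the direct images of the levels. -/
theorem nonempty_completion_iso_push {F : X.Modules} (hF : Coh.IsQCoh F) :
    Nonempty (Formal.completion I F ≅
      FSch.levelSysOf 𝔛 h (sysOf p hp F).F (sysOf p hp F).toPush ⋙ (toY h p hp).push) := by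
  choose hz hi using isQuot_theta h p hp hk hF
  haveI := hi
  let η : Formal.completion I F ⟶ FSch.levelSysOf 𝔛 h (sysOf p hp F).F (sysOf p hp F).toPush ⋙ (toY h p hp).push :=
    NatTrans.ofOpSequence (fun n => cokernel.desc _ _ (hz n)) fun n => by
      haveI := (Algz7.isQuot_modPowπ I (n + 1 + 1) F).epi
      refine (cancel_epi (Formal.modPowπ I (n + 1 + 1) F)).1 ?_
      refine (congrArg (Formal.modPowπ I (n + 1 + 1) F ≫ ·)
        (congrArg (· ≫ cokernel.desc _ _ (hz n)) (Algz7.completion_map_succ I F n))).trans ?_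
      refine (Category.assoc _ _ _).symm.trans ((congrArg (· ≫ _) (Formal.modPowπ_trans I (n + 1) F)).trans ?_)
      refine (cokernel.π_desc _ _ _).trans (Eq.trans ?_ (Category.assoc _ _ _))
      refine Eq.trans ?_ (congrArg (· ≫ _) (cokernel.π_desc _ _ (hz (n + 1))).symm)
      refine (theta_trans h p hp F n).symm.trans ?_
      exact congrArg (fun f => theta h p hp F (n + 1) ≫ (toY h p hp).push.map f)
        (FSch.levelSysOf_map_succ 𝔛 h (sysOf p hp F).F (sysOf p hp F).toPush n).symm
  haveI : ∀ n : ℕᵒᵖ, IsIso (η.app n) := fun n => hi n.unop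
  haveI : IsIso η := NatIso.isIso_of_isIso_app η
  exact ⟨asIso η⟩

include hk in
/-- The sheaf of the direct image of the inverse image. -/
theorem nonempty_toSheaf_push_pull_iso (h𝔛 : 𝔛.IsLocNoethFormal) [IsLocallyNoetherian X] {F : X.Modules}
    (hF : Coh.IsCoh F) :
    Nonempty ((SheafOfModules.toSheaf X.ringCatSheaf).obj ((toY h𝔛.1 p hp).push.obj ((toY h𝔛.1 p hp).pull.obj F)) ≅
      limit (CohCx.opSequence (fun n => (SheafOfModules.toSheaf X.ringCatSheaf).obj (Formal.modPow I (n + 1) F))
        fun n => (SheafOfModules.toSheaf X.ringCatSheaf).map (Formal.modPowTrans I (n + 1) F))) := by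
  haveI := isIso_gamma p hp F h𝔛 hF
  obtain ⟨e⟩ := nonempty_completion_iso_push h𝔛.1 p hp hk hF.1
  haveI : PreservesLimitsOfSize.{0, 0} (toY h𝔛.1 p hp).push := (toY h𝔛.1 p hp).adj.rightAdjoint_preservesLimits
  haveI := SiteBase.preservesLimitsOfSize_toSheaf (R := X.ringCatSheaf)
  haveI : PreservesLimitsOfSize.{0, 0} (SheafOfModules.toSheaf.{u} X.ringCatSheaf) :=
    preservesLimitsOfSize_shrink.{0, u, 0, u} _
  let D := CohCx.opSequence (fun n => (SheafOfModules.toSheaf X.ringCatSheaf).obj (Formal.modPow I (n + 1) F))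
      fun n => (SheafOfModules.toSheaf X.ringCatSheaf).map (Formal.modPowTrans I (n + 1) F)
  let c : Formal.completion I F ⋙ SheafOfModules.toSheaf X.ringCatSheaf ⟶ D :=
    NatTrans.ofOpSequence (fun n => 𝟙 _) fun n => by
      refine (Category.comp_id _).trans (Eq.trans ?_ (Category.id_comp _).symm)
      exact (congrArg (SheafOfModules.toSheaf X.ringCatSheaf).map (Algz7.completion_map_succ I F n)).trans
        (Functor.ofOpSequence_map_homOfLE_succ
          (X := fun n => (SheafOfModules.toSheaf X.ringCatSheaf).obj (Formal.modPow I (n + 1) F))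
          (fun n => (SheafOfModules.toSheaf X.ringCatSheaf).map (Formal.modPowTrans I (n + 1) F)) n).symm
  haveI : ∀ n : ℕᵒᵖ, IsIso (c.app n) := fun n => inferInstanceAs (IsIso (𝟙 _))
  haveI : IsIso c := NatIso.isIso_of_isIso_app c
  exact ⟨(SheafOfModules.toSheaf X.ringCatSheaf).mapIso
      ((toY h𝔛.1 p hp).push.mapIso (asIso (gamma h𝔛.1 p hp F)) ≪≫ preservesLimitIso (toY h𝔛.1 p hp).push _ ≪≫
        HasLimit.isoOfNatIso e.symm) ≪≫
    preservesLimitIso (SheafOfModules.toSheaf X.ringCatSheaf) (Formal.completion I F) ≪≫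
      HasLimit.isoOfNatIso (asIso c)⟩

end Groth.Agent.FModLib
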