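import Groth.Agent.FModLib.Abel2
import Groth.Agent.FModLib.Free

/-!
# Quasi-coherent modules of finite type on a locally Noetherian formal scheme
-/

set_option backward.isDefEq.respectTransparency false
set_option backward.isDefEq.respectTransparency.types false
set_option linter.style.haveILetI false

universe u

open CategoryTheory CategoryTheory.Limits AlgebraicGeometry TopologicalSpace Opposite

noncomputable section

namespace Groth.Agent.FModLib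

section general

variable {X : TopCat.{u}} {O : TopCat.Sheaf CommRingCat.{u} X} {F : ModSite.Mod O}

theorem mres_finset_sum_smul {U V : Opens X} (e : V ≤ U) {ι : Type*} (f : Finset ι) (c : ι → O.obj.obj (op U))
    (t : ι → ModSite.sect F U) : mres F e (∑ i ∈ f, c i • t i) = ∑ i ∈ f, ores O e (c i) • mres F e (t i) :=
  (map_sum (F.val.map (homOfLE e).op).hom _ _).trans (Finset.sum_congr rfl fun i _ => mres_smul F e (c i) (t i))

/-- A quasi-coherent module near a point: families of generators and relations of any rank. -/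
theorem exists_families (hF : SheafOfModules.IsQuasicoherent.{u} (R := ModSite.ringSh O) F) (x : X) :
    ∃ (U : Opens X) (I K : Type u) (p : I → ModSite.sect F U) (ψ : K → I → O.obj.obj (op U)), x ∈ U ∧
      (∀ (W : Opens X) (hW : W ≤ U) (s : ModSite.sect F W), ∀ y ∈ W, ∃ (V : Opens X) (e : V ≤ W), y ∈ V ∧
        ∃ (f : Finset I) (c : I → O.obj.obj (op V)), ∑ i ∈ f, c i • mres F (e.trans hW) (p i) = mres F e s) ∧
      (∀ (W : Opens X) (hW : W ≤ U) (f : Finset I) (c : I → O.obj.obj (op W)), (∀ i ∉ f, c i = 0) →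
        ∑ i ∈ f, c i • mres F hW (p i) = 0 → ∀ y ∈ W, ∃ (V : Opens X) (e : V ≤ W), y ∈ V ∧
          ∃ (f' : Finset K) (d : K → O.obj.obj (op V)),
            ∀ i, ∑ j ∈ f', d j * ores O (e.trans hW) (ψ j i) = ores O e (c i)) ∧
      ∀ (W : Opens X) (hW : W ≤ U) (f : Finset I) (c : I → O.obj.obj (op W)) (f' : Finset K) (d : K → O.obj.obj (op W)),
        (∀ i ∉ f, c i = 0) → (∀ i, ∑ j ∈ f', d j * ores O hW (ψ j i) = c i) →
          ∑ i ∈ f, c i • mres F hW (p i) = 0 := by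
  obtain ⟨⟨σ⟩⟩ := hF
  have hcov := (_root_.Opens.coversTop_iff _ σ.X).mp σ.coversTop
  obtain ⟨a, hxa⟩ := Opens.mem_iSup.mp (hcov.ge (Opens.mem_top x))
  obtain ⟨I, K, p, ψ, hgen, hrel, h0⟩ := exists_families_of_presentation (C := Over (σ.X a))
    (O := O.over (σ.X a)) (T := Over.mk (𝟙 (σ.X a))) (G := (ModSite.restr O (σ.X a)).obj F)
    Over.mkIdTerminal (σ.presentation a)
  refine ⟨σ.X a, I, K, p, ψ, hxa, fun W hW s y hy => ?_, fun W hW f c hf hc y hy => ?_,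
    fun W hW => h0 (Over.mk (homOfLE hW))⟩
  · obtain ⟨S, hS, h⟩ := hgen (Over.mk (homOfLE hW)) s
    rw [GrothendieckTopology.mem_over_iff] at hS
    obtain ⟨V, g, hg, hyV⟩ := hS y hy
    obtain ⟨f, c, hc⟩ := h _ ((Sieve.overEquiv_iff _ _).mp hg)
    exact ⟨V, g.le, hyV, f, c, hc⟩
  · obtain ⟨S, hS, h⟩ := hrel (Over.mk (homOfLE hW)) f c hf hc
    rw [GrothendieckTopology.mem_over_iff] at hS
    obtain ⟨V, g, hg, hyV⟩ := hS y hy
    obtain ⟨f', d, hd⟩ := h _ ((Sieve.overEquiv_iff _ _).mp hg)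
    exact ⟨V, g.le, hyV, f', d, hd⟩

/-- Finitely many generators as combinations of a family. -/
theorem exists_finset_gens {x : X} {U₀ : Opens X} (hx : x ∈ U₀) {I : Type u} {p : I → ModSite.sect F U₀} {n : ℕ}
    {t : ULift.{u} (Fin n) → ModSite.sect F U₀}
    (hp : ∀ (W : Opens X) (hW : W ≤ U₀) (s : ModSite.sect F W), ∀ y ∈ W, ∃ (V : Opens X) (e : V ≤ W), y ∈ V ∧
        ∃ (f : Finset I) (c : I → O.obj.obj (op V)), ∑ i ∈ f, c i • mres F (e.trans hW) (p i) = mres F e s) :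
    ∃ (U : Opens X) (e : U ≤ U₀) (f : Finset I) (c : ULift.{u} (Fin n) → I → O.obj.obj (op U)), x ∈ U ∧
      ∀ l, ∑ i ∈ f, c l i • mres F e (p i) = mres F e (t l) := by
  classical
  choose V e hxV f c hc using fun l => hp U₀ le_rfl (t l) x hx
  let U := U₀ ⊓ (Finset.univ : Finset (ULift.{u} (Fin n))).inf V
  have hU : ∀ l, U ≤ V l := fun l => inf_le_right.trans (Finset.inf_le (Finset.mem_univ l))
  refine ⟨U, inf_le_left, Finset.univ.biUnion f,
    fun l i => if i ∈ f l then ores O (hU l) (c l i) else 0, ⟨hx, ?_⟩, fun l => ?_⟩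
  · show x ∈ ((Finset.univ : Finset (ULift.{u} (Fin n))).inf V : Opens X)
    induction (Finset.univ : Finset (ULift.{u} (Fin n))) using Finset.induction with
    | empty => exact trivial
    | insert a s _ ih => rw [Finset.inf_insert]; exact ⟨hxV a, ih⟩
  · simp only [ite_smul, zero_smul]
    rw [Finset.sum_ite_mem, Finset.inter_eq_right.mpr (Finset.subset_biUnion_of_mem f (Finset.mem_univ l))]
    have := congrArg (mres F (hU l)) (hc l)
    rw [mres_finset_sum_smul] at this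
    simp only [mres_mres] at this
    exact this

end general

variable {𝔛 : FSch.Sys.{u}} (h𝔛 : 𝔛.IsLocNoethFormal) {𝔊 : FSch.ModF 𝔛 h𝔛.1}

/-- Combinations killed by the relation family vanish. -/
theorem sum_fam_eq_zero {U₁ U : (𝔛.X 0).Opens} (e₁ : U ≤ U₁) {I K : Type u} {p₁ : I → FSect h𝔛 𝔊 U₁}
    {ψ₁ : K → I → Rng h𝔛 U₁}
    (h0₁ : ∀ (f : Finset I) (c : I → Rng h𝔛 U) (f' : Finset K) (d : K → Rng h𝔛 U),
      (∀ i ∉ f, c i = 0) → (∀ i, ∑ j ∈ f', d j * ores (𝔛.Osh h𝔛.1) e₁ (ψ₁ j i) = c i) →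
        ∑ i ∈ f, c i • mres 𝔊 e₁ (p₁ i) = 0)
    (f : Finset I) (f' : Finset K) (b : f' → Rng h𝔛 U) (cb : I → Rng h𝔛 U) (hout : ∀ i ∉ f, cb i = 0)
    (hcb : ∀ i, cb i = ∑ j, b j * ores (𝔛.Osh h𝔛.1) e₁ (ψ₁ j i)) :
    ∑ i ∈ f, cb i • mres 𝔊 e₁ (p₁ i) = 0 := by
  classical
  refine h0₁ f cb f' (fun j => if hj : j ∈ f' then b ⟨j, hj⟩ else 0) hout fun i => ?_
  rw [hcb, ← Finset.sum_coe_sort f']
  refine Finset.sum_congr rfl fun j _ => ?_
  simp only [Finset.coe_mem, dite_true]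

set_option maxHeartbeats 1000000 in
/-- A quasi-coherent module with finitely many generators near every point is coherent. -/
theorem isCohF_of_qcoh_gens
    (hq : SheafOfModules.IsQuasicoherent.{u} (R := ModSite.ringSh (𝔛.Osh h𝔛.1)) 𝔊)
    (hgens : ∀ x : 𝔛.X 0, ∃ (U : (𝔛.X 0).Opens) (n : ℕ) (t : ULift.{u} (Fin n) → FSect h𝔛 𝔊 U), x ∈ U ∧
      ∀ (W : (𝔛.X 0).Opens) (hW : W ≤ U) (s : FSect h𝔛 𝔊 W), ∀ y ∈ W,
        ∃ (V : (𝔛.X 0).Opens) (e : V ≤ W), y ∈ V ∧ ∃ c : ULift.{u} (Fin n) → Rng h𝔛 V,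
          ∑ i, c i • mres 𝔊 (e.trans hW) (t i) = mres 𝔊 e s) : FSch.IsCohF 𝔛 h𝔛.1 𝔊 := by
  classical
  refine isFinitePresentation_of_isPres (O := 𝔛.Osh h𝔛.1) fun x => ?_
  obtain ⟨U₁, I, K, p₁, ψ₁, hxU₁, hp₁, hr₁, h0₁⟩ := exists_families (O := 𝔛.Osh h𝔛.1) hq x
  obtain ⟨U₂, n, t₂, hxU₂, ht₂⟩ := hgens x
  let U₀ := U₁ ⊓ U₂
  let p₀ : I → FSect h𝔛 𝔊 U₀ := fun i => mres 𝔊 inf_le_left (p₁ i)
  obtain ⟨U', e', f, a, hxU', ha⟩ := exists_finset_gens (O := 𝔛.Osh h𝔛.1) (F := 𝔊) (U₀ := U₀) (x := x)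
    ⟨hxU₁, hxU₂⟩ (p := p₀) (t := fun l => mres 𝔊 inf_le_right (t₂ l)) fun W hW s y hy => by
      obtain ⟨V, e, hyV, f, c, hc⟩ := hp₁ W (hW.trans inf_le_left) s y hy
      exact ⟨V, e, hyV, f, c, by simp only [p₀, mres_mres]; exact hc⟩
  obtain ⟨U, hU, hxU, eU'⟩ := exists_affine_le (𝔛 := 𝔛) hxU'
  let e₁ : U ≤ U₁ := eU'.trans (e'.trans inf_le_left)
  let m := Fintype.card f
  let ν : ULift.{u} (Fin m) ≃ f := Equiv.ulift.trans (Fintype.equivFin f).symm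
  let T : ULift.{u} (Fin m) → FSect h𝔛 𝔊 U := fun i => mres 𝔊 e₁ (p₁ (ν i))
  obtain ⟨hN, -, -⟩ := affRing h𝔛 hU
  let L : (ULift.{u} (Fin m) → Rng h𝔛 U) →ₗ[Rng h𝔛 U] FSect h𝔛 𝔊 U := Fintype.linearCombination _ T
  have hL : ∀ c, L c = ∑ i, c i • T i := fun c => Fintype.linearCombination_apply _ _ _
  obtain ⟨q, g₀, hg₀⟩ := Submodule.fg_iff_exists_fin_generating_family.mp (IsNoetherian.noetherian (LinearMap.ker L))
  refine ⟨U, m, q, T, fun j => g₀ j.down, hxU, fun j => ?_, fun W hW s y hy => ?_, fun W hW c hc y hy => ?_⟩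
  · rw [← hL, ← LinearMap.mem_ker, ← hg₀]
    exact Submodule.subset_span ⟨j.down, rfl⟩
  · obtain ⟨V, e, hyV, b, hb⟩ := ht₂ W (hW.trans (eU'.trans (e'.trans inf_le_right))) s y hy
    let eV : V ≤ U' := (e.trans hW).trans eU'
    refine ⟨V, e, hyV, fun i => ∑ l, b l * ores (𝔛.Osh h𝔛.1) eV (a l (ν i)), ?_⟩
    refine Eq.trans ?_ hb
    simp only [Finset.sum_smul, mul_smul]
    rw [Finset.sum_comm]
    refine Finset.sum_congr rfl fun l _ => ?_
    rw [← Finset.smul_sum]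
    refine congrArg (b l • ·) ?_
    have := congrArg (mres 𝔊 eV) (ha l)
    rw [mres_finset_sum_smul] at this
    simp only [p₀, mres_mres] at this
    simp only [T, mres_mres]
    exact ((Equiv.sum_comp ν fun i => ores (𝔛.Osh h𝔛.1) eV (a l i) • mres 𝔊 ((e.trans hW).trans e₁) (p₁ i)).trans
      (Finset.sum_coe_sort f fun i => ores (𝔛.Osh h𝔛.1) eV (a l i) • mres 𝔊 ((e.trans hW).trans e₁) (p₁ i))).trans this
  · let c' : I → Rng h𝔛 W := fun i => if hi : i ∈ f then c (ν.symm ⟨i, hi⟩) else 0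
    have hc' : ∑ i ∈ f, c' i • mres 𝔊 (hW.trans e₁) (p₁ i) = 0 := by
      rw [← Finset.sum_coe_sort, ← Equiv.sum_comp ν]
      simp only [T, mres_mres] at hc
      refine Eq.trans (Finset.sum_congr rfl fun i _ => ?_) hc
      simp only [c', Finset.coe_mem, dite_true, Subtype.coe_eta, Equiv.symm_apply_apply]
    obtain ⟨V₁, e₂, hyV₁, f', d, hd⟩ := hr₁ W (hW.trans e₁) f c' (fun i hi => dif_neg hi) hc' y hy
    obtain ⟨r, hyr, hr⟩ := exists_basic h𝔛.1 hU (W := V₁) y (hW (e₂ hyV₁)) hyV₁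
    let eW : basic h𝔛.1 U r ≤ W := hr.trans e₂
    refine ⟨_, eW, hyr, ?_⟩
    let row : I → f' → Rng h𝔛 U := fun i j => ores (𝔛.Osh h𝔛.1) e₁ (ψ₁ j i)
    obtain ⟨N, rw₀, hrw, hspan⟩ : ∃ (N : ℕ) (iN : Fin N → I), (∀ l, iN l ∉ f) ∧
        ∀ i ∉ f, row i ∈ Submodule.span (Rng h𝔛 U) (Set.range fun l => row (iN l)) := by
      obtain ⟨s, hs, hs'⟩ := (Submodule.fg_span_iff_fg_span_finset_subset (row '' {i | i ∉ f})).mp
        (IsNoetherian.noetherian (Submodule.span (Rng h𝔛 U) (row '' {i | i ∉ f})))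
      choose iN hiN hrow using fun v : s => hs v.2
      refine ⟨Fintype.card s, fun l => iN ((Fintype.equivFin s).symm l), fun l => hiN _, fun i hi => ?_⟩
      refine Submodule.span_mono ?_ (hs'.le (Submodule.subset_span ⟨i, hi, rfl⟩))
      intro v hv
      exact ⟨Fintype.equivFin s ⟨v, hv⟩, by simp only [Equiv.symm_apply_apply]; exact hrow ⟨v, hv⟩⟩
    have hsol := solutions_basic h𝔛 hU r (fun l j => row (rw₀ l) j)
      (fun j : f' => ores (𝔛.Osh h𝔛.1) hr (d j)) fun l => by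
        have h1 := congrArg (ores (𝔛.Osh h𝔛.1) hr) (hd (rw₀ l))
        simp only [c', dif_neg (hrw l), map_zero, map_sum, map_mul, ores_ores] at h1
        refine Eq.trans ?_ h1
        rw [← Finset.sum_coe_sort f']
        refine Finset.sum_congr rfl fun j _ => ?_
        rw [mul_comm]
        exact congrArg (_ * ·) (ores_ores (O := 𝔛.Osh h𝔛.1) _ _ _)
    let π : (f' → Rng h𝔛 (basic h𝔛.1 U r)) →ₗ[Rng h𝔛 (basic h𝔛.1 U r)]
        (ULift.{u} (Fin m) → Rng h𝔛 (basic h𝔛.1 U r)) :=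
      Fintype.linearCombination _ fun j i => bres h𝔛 r (fun i : ULift.{u} (Fin m) => row (ν i) j) i
    have hπ : ∀ b i, π b i = ∑ j, b j * rres h𝔛 (basic_le h𝔛.1 U r) (row (ν i) j) := fun b i => by
      simp only [π, Fintype.linearCombination_apply, Finset.sum_apply, Pi.smul_apply, smul_eq_mul, bres]
    have hπd : π (fun j : f' => ores (𝔛.Osh h𝔛.1) hr (d j)) = fun i => ores (𝔛.Osh h𝔛.1) eW (c i) := by
      funext i
      rw [hπ]
      have h1 := congrArg (ores (𝔛.Osh h𝔛.1) hr) (hd (ν i))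
      simp only [c', Finset.coe_mem, dite_true, Subtype.coe_eta, Equiv.symm_apply_apply, map_sum, map_mul,
        ores_ores] at h1
      refine Eq.trans ?_ h1
      rw [← Finset.sum_coe_sort f']
      exact Finset.sum_congr rfl fun j _ => congrArg (_ * ·) (ores_ores (O := 𝔛.Osh h𝔛.1) _ _ _)
    have h3 : (fun i => ores (𝔛.Osh h𝔛.1) eW (c i)) ∈ Submodule.span (Rng h𝔛 (basic h𝔛.1 U r))
        (Set.range fun j : Fin q => bres h𝔛 r (g₀ j)) := by
      rw [← hπd]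
      refine Submodule.span_le.mpr ?_ (Submodule.apply_mem_span_image_of_mem_span π hsol)
      rintro _ ⟨_, ⟨b, hb, rfl⟩, rfl⟩
      let cb : I → Rng h𝔛 U := fun i => ∑ j, b j * row i j
      have hout : ∀ i ∉ f, cb i = 0 := by
        intro i hi
        obtain ⟨w, hw⟩ := (Submodule.mem_span_range_iff_exists_fun _).mp (hspan i hi)
        simp only [cb, ← hw, Finset.sum_apply, Pi.smul_apply, smul_eq_mul, Finset.mul_sum]
        rw [Finset.sum_comm]
        refine Finset.sum_eq_zero fun l _ => ?_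
        simp only [mul_left_comm (b _) (w l), ← Finset.mul_sum]
        rw [show ∑ j, b j * row (rw₀ l) j = 0 from (Finset.sum_congr rfl fun j _ => mul_comm _ _).trans (hb l), mul_zero]
      have hker : (fun i => cb (ν i)) ∈ LinearMap.ker L := by
        rw [LinearMap.mem_ker, hL]
        refine (Equiv.sum_comp ν fun i => cb i • mres 𝔊 e₁ (p₁ i)).trans
          ((Finset.sum_coe_sort f fun i => cb i • mres 𝔊 e₁ (p₁ i)).trans ?_)
        refine eq_of_locally (O := 𝔛.Osh h𝔛.1) 𝔊 fun z hz => ⟨U, le_rfl, hz, ?_⟩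
        rw [mres_rfl, mres_zero]
        exact sum_fam_eq_zero h𝔛 e₁ (h0₁ U e₁) f f' b cb hout (fun i => rfl)
      rw [← hg₀, Submodule.mem_span_range_iff_exists_fun] at hker
      obtain ⟨v, hv⟩ := hker
      refine (Submodule.mem_span_range_iff_exists_fun _).mpr
        ⟨fun j => rres h𝔛 (basic_le h𝔛.1 U r) (v j), funext fun i => ?_⟩
      rw [hπ]
      have hvi := congrArg (rres h𝔛 (basic_le h𝔛.1 U r)) (congrFun hv i)
      simp only [Finset.sum_apply, Pi.smul_apply, smul_eq_mul, map_sum, map_mul, cb] at hvi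
      simp only [Finset.sum_apply, Pi.smul_apply, smul_eq_mul, bres]
      exact hvi
    obtain ⟨v, hv⟩ := (Submodule.mem_span_range_iff_exists_fun _).mp h3
    refine ⟨fun j => v j.down, fun i => ?_⟩
    refine Eq.trans ?_ (congrFun hv i)
    rw [Finset.sum_apply]
    exact Fintype.sum_equiv Equiv.ulift _ _ fun j => rfl

/-- A quasi-coherent submodule of a coherent module is coherent. -/
theorem isCohF_of_mono_qcoh {𝔎 : FSch.ModF 𝔛 h𝔛.1} (ι : 𝔎 ⟶ 𝔊) [Mono ι] (h𝔊 : FSch.IsCohF 𝔛 h𝔛.1 𝔊)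
    (hq : SheafOfModules.IsQuasicoherent.{u} (R := ModSite.ringSh (𝔛.Osh h𝔛.1)) 𝔎) : FSch.IsCohF 𝔛 h𝔛.1 𝔎 := by
  classical
  refine isFinitePresentation_of_isPres (O := 𝔛.Osh h𝔛.1) fun x => ?_
  obtain ⟨U₁, I, K, p₁, ψ₁, hxU₁, hp₁, -, -⟩ := exists_families (O := 𝔛.Osh h𝔛.1) hq x
  obtain ⟨U, hU, hxU, e⟩ := exists_affine_le (𝔛 := 𝔛) hxU₁
  obtain ⟨hN, -, -⟩ := affRing h𝔛 hU
  obtain ⟨n, m, t, g, hP⟩ := affPres h𝔛 h𝔊 hU
  haveI : Module.Finite (Rng h𝔛 U) (FSect h𝔛 𝔊 U) := by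
    refine Module.Finite.of_surjective (Fintype.linearCombination (Rng h𝔛 U) t) fun s => ?_
    obtain ⟨c, hc⟩ := hP.gen_aff h𝔛 h𝔊 hU s
    exact ⟨c, (Fintype.linearCombination_apply _ _ _).trans hc⟩
  let P : I → FSect h𝔛 𝔊 U := fun i => ι.val.app (op U) (mres 𝔎 e (p₁ i))
  obtain ⟨s, hs, hs'⟩ := (Submodule.fg_span_iff_fg_span_finset_subset (Set.range P)).mp
    (IsNoetherian.noetherian (Submodule.span (Rng h𝔛 U) (Set.range P)))
  choose i₀ hi₀ using fun v : s => hs v.2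
  let ν : ULift.{u} (Fin (Fintype.card s)) ≃ s := Equiv.ulift.trans (Fintype.equivFin s).symm
  let k : ULift.{u} (Fin (Fintype.card s)) → FSect h𝔛 𝔎 U := fun l => mres 𝔎 e (p₁ (i₀ (ν l)))
  have hall : ∀ i, ∃ b : ULift.{u} (Fin (Fintype.card s)) → Rng h𝔛 U, ∑ l, b l • k l = mres 𝔎 e (p₁ i) := by
    intro i
    have h1 : P i ∈ Submodule.span (Rng h𝔛 U) (Set.range fun l => P (i₀ (ν l))) := by
      refine Submodule.span_mono ?_ (hs'.le (Submodule.subset_span ⟨i, rfl⟩))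
      intro v hv
      exact ⟨ν.symm ⟨v, hv⟩, by simp only [Equiv.apply_symm_apply]; exact hi₀ ⟨v, hv⟩⟩
    obtain ⟨b, hb⟩ := (Submodule.mem_span_range_iff_exists_fun _).mp h1
    exact ⟨b, sect_injective_of_mono (O := 𝔛.Osh h𝔛.1) ι U ((mapp_sum_smul 𝔎 ι b k).trans hb)⟩
  choose b hb using hall
  obtain ⟨q, z, hP'⟩ := IsPres.of_mono h𝔛 ι h𝔊 hU k fun W hW y w hw => by
    obtain ⟨V, e', hwV, f, c, hc⟩ := hp₁ W (hW.trans e) y w hw
    refine ⟨V, e'.trans hW, e', hwV, fun l => ∑ i ∈ f, c i * ores (𝔛.Osh h𝔛.1) (e'.trans hW) (b i l), ?_⟩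
    refine Eq.trans ?_ hc
    simp only [Finset.sum_smul, mul_smul]
    rw [Finset.sum_comm]
    refine Finset.sum_congr rfl fun i _ => ?_
    rw [← Finset.smul_sum]
    refine congrArg (c i • ·) ?_
    rw [← mres_sum_smul, hb i, mres_mres]
  exact ⟨U, _, _, k, z, hxU, hP'⟩

/-- A quasi-coherent module of finite type is coherent. -/
theorem isCohF_of_qcoh_finiteType
    (hq : SheafOfModules.IsQuasicoherent.{u} (R := ModSite.ringSh (𝔛.Osh h𝔛.1)) 𝔊)
    (hft : SheafOfModules.IsFiniteType.{u} (R := ModSite.ringSh (𝔛.Osh h𝔛.1)) 𝔊) : FSch.IsCohF 𝔛 h𝔛.1 𝔊 :=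
  isCohF_of_qcoh_gens h𝔛 hq (exists_gens (O := 𝔛.Osh h𝔛.1) hft)

/-- A quasi-coherent quotient of a coherent module is coherent. -/
theorem isCohF_of_epi_qcoh {𝔉 : FSch.ModF 𝔛 h𝔛.1} (h𝔉 : FSch.IsCohF 𝔛 h𝔛.1 𝔉) (π : 𝔉 ⟶ 𝔊) [Epi π]
    (hq : SheafOfModules.IsQuasicoherent.{u} (R := ModSite.ringSh (𝔛.Osh h𝔛.1)) 𝔊) : FSch.IsCohF 𝔛 h𝔛.1 𝔊 := by
  refine isCohF_of_qcoh_gens h𝔛 hq fun x => ?_
  obtain ⟨U, n, m, t, g, hxU, hP⟩ := exists_isPres (O := 𝔛.Osh h𝔛.1) h𝔉 x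
  refine ⟨U, n, fun i => π.val.app (op U) (t i), hxU, fun W hW s y hy => ?_⟩
  obtain ⟨S, hS, h⟩ := SuppCore.exists_cover_lift π s
  obtain ⟨V₁, f, hf, hyV₁⟩ := hS y hy
  obtain ⟨b, hb⟩ := h f hf
  obtain ⟨V, e, hyV, c, hc⟩ := hP.gen V₁ (f.le.trans hW) b y hyV₁
  refine ⟨V, e.trans f.le, hyV, c, ?_⟩
  simp only [← mapp_res]
  rw [← mapp_sum_smul, hc, mapp_res]
  exact (congrArg (mres 𝔊 e) hb).trans (mres_mres 𝔊 f.le e s)

end Groth.Agent.FModLib
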