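import Groth.Agent.FModLib.RlimSeq
import Groth.Agent.SiteBase.ModColim
import Groth.Agent.QCoh.Bound
import Groth.Agent.QCoh.Support
import Groth.Agent.QCoh.Ab.Restrict
import Groth.Agent.SiteBase.DLim.Single
import Groth.Agent.Algz7.Restrict
import Groth.Agent.H9Misc.BrownGroth
import Groth.Agent.TriCat.KInjRes
import Groth.Prelude.Def_Formal2

/-!
# Cohomology of the limit of a quasi-coherent formal system
-/

set_option linter.style.haveILetI false
set_option backward.isDefEq.respectTransparency false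
set_option backward.isDefEq.respectTransparency.types false

universe u

open CategoryTheory CategoryTheory.Limits AlgebraicGeometry TopologicalSpace Opposite Topology

noncomputable section

namespace Groth.Agent.FModLib

open Groth.Agent

variable {A : Type u} [CommRing A] {I : Ideal A} {X : Scheme.{u}} [X.Over (Spec (CommRingCat.of A))]
  {G : ℕᵒᵖ ⥤ X.Modules} (hG : Formal2.IsQCohFormal I G)

/-- The underlying abelian sheaves of a system. -/
abbrev gAb (G : ℕᵒᵖ ⥤ X.Modules) (n : ℕ) : CohTop.Ab X.toPresheafedSpace.carrier :=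
  (SheafOfModules.toSheaf X.ringCatSheaf).obj (G.obj (op n))

/-- Their transitions. -/
abbrev gAbTrans (G : ℕᵒᵖ ⥤ X.Modules) (n : ℕ) : gAb G (n + 1) ⟶ gAb G n :=
  (SheafOfModules.toSheaf X.ringCatSheaf).map (G.map (homOfLE (Nat.le_succ n)).op)

include hG in
theorem limOne_gAb {U : X.Opens} (hU : IsAffineOpen U) :
    CohCx.LimOneIsZero (fun n => (gAb G n).obj.obj (op U)) (fun n => ((gAbTrans G n).hom.app (op U)).hom) := by
  intro b
  obtain ⟨w, hw⟩ := DLim.limOne_of_eventually_surjective 0 (fun n => (gAb G n).obj.obj (op U))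
    (fun n => ((gAbTrans G n).hom.app (op U)).hom) (fun n _ => by
      let g : G.obj (op (n + 1)) ⟶ G.obj (op n) := G.map (homOfLE (Nat.le_succ n)).op
      haveI : Epi g := Algz7.IsQuot.epi (hG.2.2 n)
      exact QCoh.app_surjective_of_epi (hG.1 (n + 1)) (hG.1 n) g hU) b
  exact ⟨w, funext hw⟩

theorem exists_toSheaf_limit_iso (G : ℕᵒᵖ ⥤ X.Modules) :
    ∃ E : (SheafOfModules.toSheaf X.ringCatSheaf).obj (limit G) ≅ limit (CohCx.opSequence (gAb G) (gAbTrans G)),
      ∀ n, E.hom ≫ limit.π (CohCx.opSequence (gAb G) (gAbTrans G)) (op n) =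
        (SheafOfModules.toSheaf X.ringCatSheaf).map (limit.π G (op n)) := by
  let T := SheafOfModules.toSheaf.{u} X.ringCatSheaf
  haveI := SiteBase.preservesLimitsOfSize_toSheaf (R := X.ringCatSheaf)
  haveI : PreservesLimitsOfSize.{0, 0} T := preservesLimitsOfSize_shrink.{0, u, 0, u} _
  let c : G ⋙ T ⟶ CohCx.opSequence (gAb G) (gAbTrans G) :=
    NatTrans.ofOpSequence (fun n => 𝟙 _) fun n => by
      refine (Category.comp_id _).trans (Eq.trans ?_ (Category.id_comp _).symm)
      exact (Functor.ofOpSequence_map_homOfLE_succ (X := gAb G) (gAbTrans G) n).symm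
  haveI : ∀ n : ℕᵒᵖ, IsIso (c.app n) := fun n => inferInstanceAs (IsIso (𝟙 _))
  haveI : IsIso c := NatIso.isIso_of_isIso_app c
  refine ⟨preservesLimitIso T G ≪≫ HasLimit.isoOfNatIso (asIso c), fun n => ?_⟩
  rw [Iso.trans_hom, Category.assoc, HasLimit.isoOfNatIso_hom_π, preservesLimitIso_hom_π_assoc]
  exact Category.comp_id _

include hG in
theorem subsingleton_HHon_limit (U : X.Opens) (hU : IsAffineOpen U) (p : ℕ) (hp : 0 < p) :
    Subsingleton (Coh.HHon X (limit G) U p) := by
  obtain ⟨q, rfl⟩ : ∃ q, p = q + 1 := ⟨p - 1, by omega⟩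
  letI : HasDerivedCategory.{u} (CohTop.Ab X.toPresheafedSpace.carrier) :=
    Groth.Agent.H9Misc.BrownGroth.smallDerived _ fun K => by
      obtain ⟨J, s, hJ, hs, -, -⟩ := Groth.Agent.TriCat.exists_kInjective_resolution'.{u} K
      exact ⟨J, s, hJ, hs⟩
  haveI : HasProduct fun n => (DerivedCategory.singleFunctor (CohTop.Ab X.toPresheafedSpace.carrier) 0).obj (gAb G n) :=
    DLim.hasProduct_nat _
  obtain ⟨-, hv⟩ := DLim.isRlim_single (gAb G) (gAbTrans G)
    (DLim.isCoveredBy_of_isBasis (B := {V : X.Opens | IsAffineOpen V}) X.isBasis_affineOpens)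
    (fun V hV p n => QCoh.subsingleton_HU_of_isAffineOpen (hG.1 n) hV p) (fun V hV => limOne_gAb hG hV)
  obtain ⟨E, -⟩ := exists_toSheaf_limit_iso G
  have h1 : Subsingleton (CohTop.HU (X := X.toPresheafedSpace.carrier) (QCoh.abSheaf (limit G)) (q + 1) U) :=
    ((((Sheaf.cohomologyPresheafFunctor (Opens.grothendieckTopology X.toPresheafedSpace.carrier) (q + 1)).mapIso E).app
      (op U)).addCommGroupIsoToAddEquiv.toEquiv.subsingleton_congr).2 (hv U hU q)
  have e : (U.ι.isOpenEmbedding.isOpenMap.functor.obj ⊤ : X.Opens) = U :=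
    Opens.ext (Set.image_univ.trans U.range_ι)
  have h2 := (QCoh.Ab.subsingleton_HU_restr_iff (U.ι.isOpenEmbedding) q (QCoh.abSheaf (limit G)) ⊤).2
    (by rw [e]; exact h1)
  exact (SiteBase.huTerminalEquiv isTerminalTop _ (q + 1)).toEquiv.subsingleton_congr.1 h2

include hG in
set_option maxHeartbeats 1000000 in
theorem exists_limit_six_term (p : ℕ) :
    ∃ (α : Formal2.limOne (fun n => Coh.HH X (G.obj (op n)) p) (Formal2.HHsysMap G p) →+
        Coh.HH X (limit G) (p + 1))
      (β : Coh.HH X (limit G) (p + 1) →+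
        Formal2.limZero (fun n => Coh.HH X (G.obj (op n)) (p + 1)) (Formal2.HHsysMap G (p + 1))),
      Function.Injective α ∧ Function.Surjective β ∧ α.range = β.ker ∧
      ∀ (x : Coh.HH X (limit G) (p + 1)) (n : ℕ),
        (β x : ∀ n, Coh.HH X (G.obj (op n)) (p + 1)) n =
          Sheaf.H.map ((SheafOfModules.toSheaf _).map (limit.π G (op n))) (p + 1) x := by
  letI : HasDerivedCategory.{u} (CohTop.Ab X.toPresheafedSpace.carrier) :=
    Groth.Agent.H9Misc.BrownGroth.smallDerived _ fun K => by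
      obtain ⟨J, s, hJ, hs, -, -⟩ := Groth.Agent.TriCat.exists_kInjective_resolution'.{u} K
      exact ⟨J, s, hJ, hs⟩
  obtain ⟨α₀, hker, hran, hsurj⟩ := exists_six_term (gAb G) (gAbTrans G) {V : X.Opens | IsAffineOpen V} X.isBasis_affineOpens
    (fun V hV p n => QCoh.subsingleton_HU_of_isAffineOpen (hG.1 n) hV p) (fun V hV => limOne_gAb hG hV) p
  obtain ⟨E, hE⟩ := exists_toSheaf_limit_iso G
  let D := CohCx.opSequence (gAb G) (gAbTrans G)
  let eH : Coh.HH X (limit G) (p + 1) ≃+ Sheaf.H (limit D) (p + 1) :=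
    ((Sheaf.functorH _ (p + 1)).mapIso E).addCommGroupIsoToAddEquiv
  have hπ : ∀ x n, Sheaf.H.map ((SheafOfModules.toSheaf _).map (limit.π G (op n))) (p + 1) x =
      Sheaf.H.map (limit.π D (op n)) (p + 1) (eH x) := fun x n =>
    (congrArg (fun φ => Sheaf.H.map φ (p + 1) x) (hE n).symm).trans (Sheaf.H.map_comp_apply _ _ _)
  let α₁ : (∀ n, Coh.HH X (G.obj (op n)) p) →+ Coh.HH X (limit G) (p + 1) := eH.symm.toAddMonoidHom.comp α₀
  have hkerα : α₁.ker = (Formal2.towerDiff (fun n => Coh.HH X (G.obj (op n)) p) (Formal2.HHsysMap G p)).range := by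
    ext b
    refine Iff.trans (eH.symm.map_eq_zero_iff.trans (hker b)) ?_
    exact ⟨fun ⟨w, hw⟩ => ⟨w, funext hw⟩, fun ⟨w, hw⟩ => ⟨w, congrFun hw⟩⟩
  let α := QuotientAddGroup.lift _ α₁ hkerα.ge
  let β₀ : Coh.HH X (limit G) (p + 1) →+ ∀ n, Coh.HH X (G.obj (op n)) (p + 1) :=
    AddMonoidHom.mk' (fun x n => Sheaf.H.map ((SheafOfModules.toSheaf _).map (limit.π G (op n))) (p + 1) x)
      fun x y => funext fun n => map_add _ x y
  let β := β₀.codRestrict (Formal2.limZero (fun n => Coh.HH X (G.obj (op n)) (p + 1)) (Formal2.HHsysMap G (p + 1)))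
    fun x => funext fun n => by
      show β₀ x n - Formal2.HHsysMap G (p + 1) n (β₀ x (n + 1)) = 0
      rw [sub_eq_zero]
      refine (congrArg (fun φ => Sheaf.H.map ((SheafOfModules.toSheaf _).map φ) (p + 1) x)
        (limit.w G (homOfLE (Nat.le_succ n)).op).symm).trans ?_
      exact (congrArg (fun φ => Sheaf.H.map φ (p + 1) x) (Functor.map_comp _ _ _)).trans (Sheaf.H.map_comp_apply _ _ _)
  refine ⟨α, β, ?_, fun z => ?_, ?_, fun x n => rfl⟩
  · refine (injective_iff_map_eq_zero _).2 fun q => ?_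
    induction q using QuotientAddGroup.induction_on with
    | _ b => exact fun hb => (QuotientAddGroup.eq_zero_iff _).2 (hkerα ▸ hb)
  · obtain ⟨y, hy⟩ := hsurj z.1 fun n => (sub_eq_zero.1 (congrFun z.2 n)).symm
    exact ⟨eH.symm y, Subtype.ext (funext fun n => ((hπ _ n).trans (by rw [eH.apply_symm_apply])).trans (hy n))⟩
  · ext y
    refine Iff.trans ?_ (Iff.trans (hran (eH y)).symm ?_)
    · constructor
      · rintro ⟨q, rfl⟩
        induction q using QuotientAddGroup.induction_on with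
        | _ b => exact ⟨b, (eH.apply_symm_apply _).symm⟩
      · rintro ⟨b, hb⟩
        exact ⟨(b : _), (congrArg eH.symm hb).trans (eH.symm_apply_apply y)⟩
    · refine ⟨fun h => Subtype.ext (funext fun n => (hπ y n).trans (h n)), fun h n => ?_⟩
      exact (hπ y n).symm.trans (congrFun (congrArg Subtype.val h) n)

end Groth.Agent.FModLib
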