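import Groth.Agent.FModLib.Formal
import Groth.Agent.Adic7.Limit
import Groth.Agent.IdealSub.OfMono
import Groth.Agent.SiteBase.ModColim
import Groth.Agent.QCoh.Support
import Groth.Agent.Algz7.Restrict
import Groth.Prelude.Def_Formal2
import Mathlib.RingTheory.Ideal.Maps

/-!
# Truncations of the limit of a quasi-coherent formal system
-/

set_option linter.style.haveILetI false
set_option backward.isDefEq.respectTransparency false
set_option backward.isDefEq.respectTransparency.types false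

universe u

open CategoryTheory CategoryTheory.Limits AlgebraicGeometry TopologicalSpace Opposite

noncomputable section

namespace Groth.Agent.FModLib

open Groth.Agent

variable {A : Type u} [CommRing A] {X : Scheme.{u}} [X.Over (Spec (CommRingCat.of A))]

/-- Sections over an open, as abelian groups. -/
abbrev secAb (U : X.Opens) : X.Modules ⥤ AddCommGrpCat.{u} :=
  SheafOfModules.forget X.ringCatSheaf ⋙ PresheafOfModules.toPresheaf X.ringCatSheaf.obj ⋙
    (evaluation (X.Opensᵒᵖ) AddCommGrpCat.{u}).obj (op U)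

theorem preservesLimitsOfShape_secAb (U : X.Opens) : PreservesLimitsOfShape ℕᵒᵖ (secAb U) := by
  haveI : PreservesLimitsOfSize.{u, u} (SheafOfModules.forget X.ringCatSheaf ⋙
      PresheafOfModules.toPresheaf X.ringCatSheaf.obj) := inferInstance
  haveI : PreservesLimitsOfSize.{u, u} (secAb U) :=
    inferInstanceAs (PreservesLimitsOfSize.{u, u} ((SheafOfModules.forget X.ringCatSheaf ⋙
      PresheafOfModules.toPresheaf X.ringCatSheaf.obj) ⋙ (evaluation (X.Opensᵒᵖ) AddCommGrpCat.{u}).obj (op U)))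
  haveI : PreservesLimitsOfSize.{0, 0} (secAb U) := preservesLimitsOfSize_shrink.{0, u, 0, u} _
  infer_instance

theorem limit_sec_ext (G : ℕᵒᵖ ⥤ X.Modules) (U : X.Opens) (x : Γ(limit G, U))
    (hx : ∀ n, (limit.π G (op n)).app U x = 0) : x = 0 := by
  haveI := preservesLimitsOfShape_secAb (X := X) U
  refine Concrete.isLimit_ext _ (isLimitOfPreserves (secAb U) (limit.isLimit G)) x 0 fun j => ?_
  exact (hx j.unop).trans (map_zero ((secAb U).map (limit.π G j)).hom).symm

theorem limit_sec_lift (G : ℕᵒᵖ ⥤ X.Modules) (U : X.Opens) (y : ∀ n, Γ(G.obj (op n), U))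
    (hy : ∀ n, (G.map (homOfLE (Nat.le_succ n)).op).app U (y (n + 1)) = y n) :
    ∃ x : Γ(limit G, U), ∀ n, (limit.π G (op n)).app U x = y n := by
  haveI := preservesLimitsOfShape_secAb (X := X) U
  let ψ : ∀ n, AddCommGrpCat.of (ULift.{u} ℤ) ⟶ (G ⋙ secAb U).obj (op n) := fun n =>
    AddCommGrpCat.ofHom ((zmultiplesHom _ (y n)).comp AddEquiv.ulift.toAddMonoidHom)
  have hψ : ∀ n, ψ (n + 1) ≫ (G ⋙ secAb U).map (homOfLE (Nat.le_succ n)).op = ψ n := fun n => by
    refine AddCommGrpCat.hom_ext (AddMonoidHom.ext fun r => ?_)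
    exact (map_zsmul ((G.map (homOfLE (Nat.le_succ n)).op).app U).hom r.down (y (n + 1))).trans
      (congrArg (r.down • ·) (hy n))
  let π' : (Functor.const ℕᵒᵖ).obj (AddCommGrpCat.of (ULift.{u} ℤ)) ⟶ G ⋙ secAb U :=
    NatTrans.ofOpSequence ψ fun n => (Category.id_comp _).trans (hψ n).symm
  let c : Cone (G ⋙ secAb U) := { pt := _, π := π' }
  let hl := isLimitOfPreserves (secAb U) (limit.isLimit G)
  refine ⟨(hl.lift c).hom (ULift.up 1), fun n => ?_⟩
  exact (congr($(hl.fac c (op n)) (ULift.up 1))).trans (one_zsmul (y n))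

/-- The scalar action of the base ring on sections. -/
abbrev secModA (A : Type u) [CommRing A] [X.Over (Spec (CommRingCat.of A))] (M : X.Modules) (U : X.Opens) :
    Module A Γ(M, U) :=
  Module.compHom _ (AmpleVan.scal A U)

theorem smul_top_scal (J : Ideal A) (M : X.Modules) (U : X.Opens) :
    letI := secModA A M U
    ∀ x : Γ(M, U), x ∈ J.map (AmpleVan.scal A U) • (⊤ : Submodule Γ(X, U) Γ(M, U)) ↔
      x ∈ J • (⊤ : Submodule A Γ(M, U)) := by
  letI := secModA A M U
  letI : Algebra A Γ(X, U) := (AmpleVan.scal A U).toAlgebra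
  haveI : IsScalarTower A Γ(X, U) Γ(M, U) := IsScalarTower.of_compHom A Γ(X, U) Γ(M, U)
  intro x
  exact (congr(x ∈ $(Ideal.smul_restrictScalars (S := Γ(X, U)) J (⊤ : Submodule Γ(X, U) Γ(M, U))))).to_iff

variable {I : Ideal A} {G : ℕᵒᵖ ⥤ X.Modules}

theorem sec_ker_of_isQuot {J : Ideal A} {M N : X.Modules} (hM : Coh.IsQCoh M) {g : M ⟶ N}
    (hg : Algz7.IsQuot J g) {U : X.Opens} (hU : IsAffineOpen U) (x : Γ(M, U)) :
    g.app U x = 0 ↔ x ∈ J.map (AmpleVan.scal A U) • (⊤ : Submodule Γ(X, U) Γ(M, U)) := by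
  let i := (Algz7.baseIdeal (X := X) J).subschemeι
  have hk : i.ker = Algz7.baseIdeal J := (Algz7.baseIdeal (X := X) J).ker_subschemeι
  let η := (Scheme.Modules.pullbackPushforwardAdjunction i).unit.app M
  have hη : Algz7.IsQuot J η := isQuot_unit i hk hM
  obtain ⟨h0, hiso⟩ := hg
  obtain ⟨h1, hiso1⟩ := hη
  let ψ : N ⟶ _ := inv (cokernel.desc _ g h0) ≫ cokernel.desc _ η h1
  have hψ : g ≫ ψ = η := by
    calc g ≫ ψ = cokernel.π _ ≫ cokernel.desc _ g h0 ≫ inv (cokernel.desc _ g h0) ≫ cokernel.desc _ η h1 := by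
          rw [cokernel.π_desc_assoc]
      _ = η := by rw [IsIso.hom_inv_id_assoc, cokernel.π_desc]
  haveI : IsIso (cokernel.desc _ η h1) := hiso1
  haveI : IsIso ψ := @IsIso.comp_isIso _ _ _ _ _ _ _ inferInstance hiso1
  have hker : i.ker.ideal ⟨U, hU⟩ = J.map (AmpleVan.scal A U) := by rw [hk]; rfl
  have h2 := (QCoh.unit_app_closed i hM hU).2 x
  rw [hker] at h2
  refine Iff.trans ?_ h2
  have e : η.app U x = ψ.app U (g.app U x) := congr(($hψ).app U x).symm
  constructor
  · intro h
    rw [e, h, map_zero]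
  · intro h
    rw [e] at h
    have hid : (inv ψ).app U (ψ.app U (g.app U x)) = g.app U x := congr(($(IsIso.hom_inv_id ψ)).app U (g.app U x))
    rw [← hid, h, map_zero]

theorem limit_trunc_affine (hI : I.FG) (hG : Formal2.IsQCohFormal I G) {U : X.Opens} (hU : IsAffineOpen U) (n : ℕ) :
    Function.Surjective ((limit.π G (op n)).app U) ∧
      letI := secModA A (limit G) U
      ∀ x, (limit.π G (op n)).app U x = 0 → x ∈ I ^ (n + 1) • (⊤ : Submodule A Γ(limit G, U)) := by
  letI : ∀ k, Module A Γ(G.obj (op k), U) := fun k => secModA A _ U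
  letI := secModA A (limit G) U
  let g : ∀ k, G.obj (op (k + 1)) ⟶ G.obj (op k) := fun k => G.map (homOfLE (Nat.le_succ k)).op
  let f : ∀ k, Γ(G.obj (op (k + 1)), U) →ₗ[A] Γ(G.obj (op k), U) := fun k =>
    { toFun := (g k).app U
      map_add' := fun a b => map_add ((g k).app U).hom a b
      map_smul' := fun a s => Scheme.Modules.Hom.app_smul (g k) (AmpleVan.scal A U a) s }
  let π : ∀ k, Γ(limit G, U) →ₗ[A] Γ(G.obj (op k), U) := fun k =>
    { toFun := (limit.π G (op k)).app U
      map_add' := fun a b => map_add ((limit.π G (op k)).app U).hom a b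
      map_smul' := fun a s => Scheme.Modules.Hom.app_smul (limit.π G (op k)) (AmpleVan.scal A U a) s }
  have hf : ∀ k, Function.Surjective (f k) := fun k => by
    haveI : Epi (g k) := Algz7.IsQuot.epi (hG.2.2 k)
    exact QCoh.app_surjective_of_epi (hG.1 (k + 1)) (hG.1 k) (g k) hU
  have hker : ∀ k, LinearMap.ker (f k) = I ^ (k + 1) • (⊤ : Submodule A Γ(G.obj (op (k + 1)), U)) := fun k => by
    ext x
    exact (sec_ker_of_isQuot (hG.1 (k + 1)) (g := g k) (hG.2.2 k) hU x).trans (smul_top_scal _ _ U x)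
  obtain ⟨hs, hk⟩ := (Adic7.limit_quotient_system A I hI (fun k => Γ(G.obj (op k), U)) f hf hker
    Γ(limit G, U) π (fun k => LinearMap.ext fun x => congr(($(limit.w G (homOfLE (Nat.le_succ k)).op)).app U x))
    (fun x hx => limit_sec_ext G U x hx) (fun y hy => limit_sec_lift G U y hy)).2.1 n
  exact ⟨hs, fun x hx => hk.le hx⟩

theorem isQuot_limit_π (hI : I.FG) (hG : Formal2.IsQCohFormal I G) (n : ℕ) :
    Algz7.IsQuot (I ^ (n + 1)) (limit.π G (op n)) := by
  haveI : Epi (limit.π G (op n)) :=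
    IdealSub.epi_of_affine _ fun U => (limit_trunc_affine hI hG U.2 n).1
  refine Algz7.IsQuot.mk' _ (hG.2.1 n) fun {P} φ hφ => ?_
  have h0 : kernel.ι (limit.π G (op n)) ≫ φ = 0 := by
    refine IdealSub.hom_eq_of_affine _ _ fun U s => ?_
    letI := secModA A (limit G) U.1
    let y := (kernel.ι (limit.π G (op n))).app U.1 s
    have hy : (limit.π G (op n)).app U.1 y = 0 := congr(($(kernel.condition (limit.π G (op n)))).app U.1 s)
    change φ.app U.1 y = 0
    refine Submodule.smul_induction_on ((limit_trunc_affine hI hG U.2 n).2 y hy) (fun a ha z _ => ?_)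
      (fun a b ha hb => by rw [map_add, ha, hb, add_zero])
    exact congr(($(Algz7.smulMod_comp_eq_zero hφ ha)).app U.1 z)
  exact ⟨Abelian.epiDesc _ φ h0, Abelian.comp_epiDesc _ _ _⟩

end Groth.Agent.FModLib
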