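import Groth.Agent.FModLib.Sections
import Groth.Agent.FComplLib.AffineSys
import Groth.Agent.FComplLib.OshSurj
import Groth.Agent.FComplLib.Restrict

/-!
# The ring of an affine open of a locally Noetherian formal scheme
-/

set_option backward.isDefEq.respectTransparency false
set_option backward.isDefEq.respectTransparency.types false
set_option linter.style.haveILetI false

universe u

open CategoryTheory CategoryTheory.Limits AlgebraicGeometry TopologicalSpace Opposite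

noncomputable section

namespace Groth.Agent.FModLib

open FComplLib

variable {𝔛 : FSch.Sys.{u}} (h : 𝔛.IsFormal)

theorem isAffineOpen_lvU (k : ℕ) {U : (𝔛.X 0).Opens} (hU : IsAffineOpen U) :
    IsAffineOpen (𝔛.lvU h k U) := by
  have := isClosedImmersion_toX h k
  refine MorLib.Thick.isAffineOpen_of_preimage (𝔛.toX k) (surjective_toX h k).surj ?_
  convert hU using 1
  change (TopologicalSpace.Opens.map ((𝔛.toX k).base ≫ 𝔛.gInv h k)).obj U = U
  rw [FSch.Sys.toX_base_gInv]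
  rfl

/-- The transition on the rings of levels. -/
def rtr (k : ℕ) (U : (𝔛.X 0).Opens) :
    Γ(𝔛.X (k + 1), 𝔛.lvU h (k + 1) U) →+* Γ(𝔛.X k, 𝔛.lvU h k U) :=
  ((𝔛.ι k).appLE (𝔛.lvU h (k + 1) U) (𝔛.lvU h k U) (𝔛.lvU_le h k U)).hom

theorem rproj_rtr (k : ℕ) (U : (𝔛.X 0).Opens) (r : (𝔛.Osh h).obj.obj (op U)) :
    rtr h k U (rproj h (k + 1) U r) = rproj h k U r :=
  congrArg (fun φ : 𝔛.Osh h ⟶ 𝔛.levelObj h k => φ.hom.app (op U) r) (𝔛.OshProj_levelMap h k)

theorem rproj_res (k : ℕ) {U V : (𝔛.X 0).Opens} (i : V ⟶ U) (r : (𝔛.Osh h).obj.obj (op U)) :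
    rproj h k V ((𝔛.Osh h).obj.map i.op r) =
      (𝔛.X k).presheaf.map ((Opens.map (𝔛.gInv h k)).map i).op (rproj h k U r) :=
  ConcreteCategory.congr_hom ((𝔛.OshProj h k).hom.naturality i.op) r

/-- The evaluation of a sheaf of rings at an open, as a functor to types. -/
abbrev evalR (U : (𝔛.X 0).Opens) :
    Sheaf (Opens.grothendieckTopology (𝔛.X 0)) CommRingCat.{u} ⥤ Type u :=
  sheafToPresheaf _ _ ⋙ (evaluation _ _).obj (op U) ⋙ CategoryTheory.forget CommRingCat.{u}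

/-- The sections of the structure sheaf are the limit. -/
def isLimitRing (U : (𝔛.X 0).Opens) :
    IsLimit ((evalR U).mapCone (limit.cone (𝔛.levelRing h))) :=
  isLimitOfPreserves _ (limit.isLimit _)

theorem ext_rproj (U : (𝔛.X 0).Opens) {x y : (𝔛.Osh h).obj.obj (op U)}
    (hxy : ∀ k, rproj h k U x = rproj h k U y) : x = y :=
  (Types.isLimitEquivSections (isLimitRing h U)).injective
    (Subtype.ext (funext fun j => hxy j.unop))

theorem surjective_rproj (k : ℕ) {U : (𝔛.X 0).Opens} (hU : IsAffineOpen U) :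
    Function.Surjective (rproj h k U) := surjective_OshProj_app 𝔛 h k U hU

omit h in
/-- An affine open of a locally Noetherian formal scheme carries an adic Noetherian ring. -/
theorem exists_ring_model (h𝔛 : 𝔛.IsLocNoethFormal) {U : (𝔛.X 0).Opens} (hU : IsAffineOpen U) :
    ∃ (A : Type u) (_ : CommRing A) (J : Ideal A)
      (σ : ∀ k, A →+* Γ(𝔛.X k, 𝔛.lvU h𝔛.1 k U)), IsNoetherianRing A ∧ IsAdicComplete J A ∧
      (∀ k a, rtr h𝔛.1 k U (σ (k + 1) a) = σ k a) ∧ (∀ k, Function.Surjective (σ k)) ∧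
      ∀ k, RingHom.ker (σ k) = J ^ (k + 1) := by
  have hι := isAdicHom_restrictOpenι 𝔛 h𝔛.1 U
  have := isLocallyNoetherian_restrictOpen_zero 𝔛 h𝔛.1 U (h𝔛.2.2 0)
  have hN : (𝔛.restrictOpen h𝔛.1 U).IsLocNoethFormal := isLocNoethFormal_of_isAdicHom hι h𝔛
  have : IsAffine ((𝔛.restrictOpen h𝔛.1 U).X 0) := isAffineOpen_lvU h𝔛.1 0 hU
  have : IsLocallyNoetherian ((𝔛.restrictOpen h𝔛.1 U).X 1) := hN.2.2 1
  obtain ⟨A, cA, J, hA, hJ, ⟨e⟩⟩ := exists_iso_spf hN.1 hN.2.1
    (locFG_of_isLocallyNoetherian ((𝔛.restrictOpen h𝔛.1 U).ι 0).ker)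
  have hiso : ∀ k, IsIso ((e.hom : FSch.Hom _ _).app k) := fun k =>
    ⟨(e.inv : FSch.Hom _ _).app k,
      congrArg (fun f : FSch.Hom _ _ => f.app k) e.hom_inv_id,
      congrArg (fun f : FSch.Hom _ _ => f.app k) e.inv_hom_id⟩
  let φ : ∀ k, CommRingCat.of (A ⧸ J ^ (k + 1)) ⟶ Γ(𝔛.X k, 𝔛.lvU h𝔛.1 k U) := fun k =>
    (Scheme.ΓSpecIso (CommRingCat.of (A ⧸ J ^ (k + 1)))).inv ≫ ((e.hom : FSch.Hom _ _).app k).appTop ≫
      (𝔛.lvU h𝔛.1 k U).topIso.hom
  have hφi : ∀ k, IsIso (φ k) := fun k => by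
    have := hiso k
    infer_instance
  refine ⟨A, cA, J, fun k => (φ k).hom.comp (Ideal.Quotient.mk (J ^ (k + 1))), hA, hJ, fun k a => ?_,
    fun k => ?_, fun k => ?_⟩
  · have hc : φ (k + 1) ≫ (𝔛.ι k).appLE (𝔛.lvU h𝔛.1 (k + 1) U) (𝔛.lvU h𝔛.1 k U) (𝔛.lvU_le h𝔛.1 k U) =
        CommRingCat.ofHom (Ideal.Quotient.factor (Ideal.pow_le_pow_right (Nat.le_succ (k + 1)))) ≫ φ k := by
      have h1 : (CohB1.specQuotTrans J k).appTop ≫ ((e.hom : FSch.Hom _ _).app k).appTop =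
          ((e.hom : FSch.Hom _ _).app (k + 1)).appTop ≫
            ((𝔛.ι k).resLE (𝔛.lvU h𝔛.1 (k + 1) U) (𝔛.lvU h𝔛.1 k U) (𝔛.lvU_le h𝔛.1 k U)).appTop := by
        rw [← Scheme.Hom.comp_appTop, ← Scheme.Hom.comp_appTop]
        exact congrArg Scheme.Hom.appTop ((e.hom : FSch.Hom _ _).comm k)
      have h2 : ((𝔛.ι k).resLE (𝔛.lvU h𝔛.1 (k + 1) U) (𝔛.lvU h𝔛.1 k U) (𝔛.lvU_le h𝔛.1 k U)).appTop ≫
          (𝔛.lvU h𝔛.1 k U).topIso.hom = (𝔛.lvU h𝔛.1 (k + 1) U).topIso.hom ≫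
          (𝔛.ι k).appLE (𝔛.lvU h𝔛.1 (k + 1) U) (𝔛.lvU h𝔛.1 k U) (𝔛.lvU_le h𝔛.1 k U) := by
        rw [Scheme.Hom.appTop, Scheme.Hom.resLE_app_top]
        simp
      simp only [φ, Category.assoc]
      rw [← h2, ← reassoc_of% h1, CohB1.specQuotTrans, ← Category.assoc (Scheme.ΓSpecIso _).inv,
        ← Scheme.ΓSpecIso_inv_naturality]
      simp only [Category.assoc]
    exact ConcreteCategory.congr_hom hc (Ideal.Quotient.mk (J ^ (k + 1 + 1)) a)
  · exact (ConcreteCategory.bijective_of_isIso (φ k)).2.comp Ideal.Quotient.mk_surjective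
  · rw [RingHom.ker_comp_of_injective _ (ConcreteCategory.bijective_of_isIso (φ k)).1, Ideal.mk_ker]

omit h in
/-- The ring of sections over an affine open is adic Noetherian, with the levels as quotients. -/
theorem affRing (h𝔛 : 𝔛.IsLocNoethFormal) {U : (𝔛.X 0).Opens} (hU : IsAffineOpen U) :
    IsNoetherianRing ((𝔛.Osh h𝔛.1).obj.obj (op U)) ∧
      IsAdicComplete (RingHom.ker (rproj h𝔛.1 0 U)) ((𝔛.Osh h𝔛.1).obj.obj (op U)) ∧
      ∀ k, RingHom.ker (rproj h𝔛.1 k U) = RingHom.ker (rproj h𝔛.1 0 U) ^ (k + 1) := by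
  obtain ⟨A, cA, J, σ, hA, hJ, hσ, hs, hk⟩ := exists_ring_model h𝔛 hU
  -- the family of `a` as a section
  let F := 𝔛.levelRing h𝔛.1 ⋙ evalR U
  have hcomp : ∀ (a : A) i j (hij : i ≤ j), F.map (homOfLE hij).op (σ j a) = σ i a := by
    intro a i j hij
    induction j, hij using Nat.le_induction with
    | base =>
      rw [show (homOfLE (le_refl i)).op = 𝟙 (op i) from rfl, F.map_id]
      rfl
    | succ j hij ih =>
      rw [show (homOfLE (hij.trans (Nat.le_succ j))).op =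
        (homOfLE (Nat.le_add_right j 1)).op ≫ (homOfLE hij).op from rfl, F.map_comp]
      refine Eq.trans (congrArg (F.map (homOfLE hij).op) ?_) ih
      refine Eq.trans ?_ (hσ j a)
      dsimp only [F, Functor.comp_map]
      rw [FSch.Sys.levelRing_map_succ]
      rfl
  let sec : A → F.sections := fun a => ⟨fun j => σ j.unop a, fun {i j} f => by
    have : f = (homOfLE (leOfHom f.unop)).op := Subsingleton.elim _ _
    rw [this]
    exact hcomp a _ _ _⟩
  let θ₀ : A → (𝔛.Osh h𝔛.1).obj.obj (op U) := fun a =>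
    (Types.isLimitEquivSections (isLimitRing h𝔛.1 U)).symm (sec a)
  have hθ₀ : ∀ k a, rproj h𝔛.1 k U (θ₀ a) = σ k a := fun k a =>
    Types.isLimitEquivSections_symm_apply (isLimitRing h𝔛.1 U) (sec a) (op k)
  let θ : A →+* (𝔛.Osh h𝔛.1).obj.obj (op U) :=
    { toFun := θ₀
      map_zero' := ext_rproj _ U fun k => by rw [hθ₀, map_zero, map_zero]
      map_one' := ext_rproj _ U fun k => by rw [hθ₀, map_one, map_one]
      map_add' := fun a b => ext_rproj _ U fun k => by rw [hθ₀, map_add, map_add, hθ₀, hθ₀]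
      map_mul' := fun a b => ext_rproj _ U fun k => by rw [hθ₀, map_mul, map_mul, hθ₀, hθ₀] }
  have hθ : ∀ k a, rproj h𝔛.1 k U (θ a) = σ k a := hθ₀
  have hsurj : Function.Surjective θ := by
    intro r
    choose a ha using fun k => hs k (rproj h𝔛.1 k U r)
    have hd : ∀ {m n : ℕ}, m ≤ n → σ m (a n) = σ m (a m) := by
      intro m n hmn
      induction hmn using Nat.decreasingInduction with
      | self => rfl
      | of_succ m _ ih => rw [← hσ m (a n), ih, ha, rproj_rtr, ha]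
    obtain ⟨x, hx⟩ := IsPrecomplete.prec' (I := J) a (fun {m n} hmn => by
      rw [SModEq.sub_mem, smul_eq_mul, Ideal.mul_top]
      refine Ideal.pow_le_pow_right (Nat.le_succ m) ?_
      rw [← hk, RingHom.sub_mem_ker_iff]
      exact (hd hmn).symm)
    refine ⟨x, ext_rproj _ U fun k => ?_⟩
    have h1 := hx (k + 1)
    rw [SModEq.sub_mem, smul_eq_mul, Ideal.mul_top, ← hk, RingHom.sub_mem_ker_iff] at h1
    rw [hθ, ← h1, hd (Nat.le_succ k), ha]
  letI : Algebra A ((𝔛.Osh h𝔛.1).obj.obj (op U)) := θ.toAlgebra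
  have hI : J.map θ = RingHom.ker (rproj h𝔛.1 0 U) := by
    refine le_antisymm (Ideal.map_le_iff_le_comap.mpr fun a ha => ?_) fun r hr => ?_
    · rw [Ideal.mem_comap, RingHom.mem_ker, hθ, ← RingHom.mem_ker, hk, pow_one]
      exact ha
    · obtain ⟨a, rfl⟩ := hsurj r
      refine Ideal.mem_map_of_mem θ ?_
      rwa [← pow_one J, ← hk 0, RingHom.mem_ker, ← hθ]
  haveI : Module.Finite A ((𝔛.Osh h𝔛.1).obj.obj (op U)) :=
    Module.Finite.of_surjective (Algebra.linearMap A _) hsurj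
  refine ⟨isNoetherianRing_of_surjective A _ θ hsurj, ?_, fun k => ?_⟩
  · rw [← hI]
    exact (IsAdicComplete.map_algebraMap_iff (R := A) (S := (𝔛.Osh h𝔛.1).obj.obj (op U))
      (M := (𝔛.Osh h𝔛.1).obj.obj (op U)) (I := J)).mpr (Adic7.isAdicComplete_of_finite (I := J) _)
  · rw [← hI, ← Ideal.map_pow]
    refine le_antisymm (fun r hr => ?_) (Ideal.map_le_iff_le_comap.mpr fun a ha => ?_)
    · obtain ⟨a, rfl⟩ := hsurj r
      refine Ideal.mem_map_of_mem θ ?_
      rwa [← hk, RingHom.mem_ker, ← hθ]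
    · rw [Ideal.mem_comap, RingHom.mem_ker, hθ, ← RingHom.mem_ker, hk]
      exact ha

end Groth.Agent.FModLib
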