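import Groth.Agent.FModLib.LimHCan

/-!
# The short exact sequence of a derived limit
-/

set_option linter.style.haveILetI false
set_option backward.isDefEq.respectTransparency false
set_option backward.isDefEq.respectTransparency.types false

universe u

open CategoryTheory CategoryTheory.Limits TopologicalSpace Opposite Abelian DerivedCategory Pretriangulated

noncomputable section

namespace Groth.Agent.FModLib

open Groth.Agent

/-- The long exact sequence of a derived limit, around its connecting map. -/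
theorem exists_rlim_connecting {T : Type*} [Category T] [Preadditive T] [HasZeroObject T] [HasShift T ℤ]
    [∀ n : ℤ, (shiftFunctor T n).Additive] [Pretriangulated T] {K : ℕ → T} {t : ∀ n, K (n + 1) ⟶ K n}
    [HasProduct K] {L : T} {a : ∀ n, L ⟶ K n} (hL : CohCx.IsRlimVia K t L a) (m m' : ℤ) (h : 1 + m = m') (S : T) :
    ∃ α : (∀ n, S ⟶ (K n)⟦m⟧) →+ (S ⟶ L⟦m'⟧),
      (∀ b, α b = 0 ↔ ∃ w : ∀ n, S ⟶ (K n)⟦m⟧, ∀ n, w n - w (n + 1) ≫ (t n)⟦m⟧' = b n) ∧
      (∀ y, (∀ n, y ≫ (a n)⟦m'⟧' = 0) ↔ y ∈ α.range) := by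
  obtain ⟨c, hc⟩ := hL
  let Δ := Triangle.mk (Pi.lift a) (Pi.lift fun n => Pi.π K n - Pi.π K (n + 1) ≫ t n) c
  let e := shiftFunctorAdd' T 1 m m' h
  choose B hB using fun b : ∀ n, S ⟶ (K n)⟦m⟧ => DLim.exists_shiftPi_lift m b
  have hBu : ∀ b X, (∀ n, X ≫ (Pi.π K n)⟦m⟧' = b n) → B b = X := fun b X hX =>
    DLim.shiftPi_hom_ext m _ _ fun n => (hB b n).trans (hX n).symm
  let α : (∀ n, S ⟶ (K n)⟦m⟧) →+ (S ⟶ L⟦m'⟧) :=
    AddMonoidHom.mk' (fun b => (B b ≫ c⟦m⟧') ≫ e.inv.app L) fun b b' => by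
      rw [hBu (b + b') (B b + B b') fun n => by rw [Preadditive.add_comp, hB, hB]; rfl, Preadditive.add_comp,
        Preadditive.add_comp]
  refine ⟨α, fun b => ⟨fun hb => ?_, fun ⟨w, hw⟩ => ?_⟩, fun y => ⟨fun hy => ?_, ?_⟩⟩
  · have hb' : B b ≫ c⟦m⟧' = 0 := (cancel_mono (e.inv.app L)).1 (hb.trans zero_comp.symm)
    obtain ⟨W, hW⟩ := DLim.exact₂_shift Δ.rotate (rot_of_distTriang _ hc) m (B b) hb'
    refine ⟨fun n => W ≫ (Pi.π K n)⟦m⟧', fun n => ?_⟩
    refine (DLim.shiftPi_oneSubShift t m W n).symm.trans ?_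
    refine Eq.trans ?_ (hB b n)
    exact congrArg (· ≫ (Pi.π K n)⟦m⟧') hW
  · obtain ⟨W, hW⟩ := DLim.exists_shiftPi_lift m w
    have hBW : B b = W ≫ (Pi.lift fun n => Pi.π K n - Pi.π K (n + 1) ≫ t n)⟦m⟧' := hBu b _ fun n => by
      rw [DLim.shiftPi_oneSubShift, hW, hW, hw]
    show (B b ≫ c⟦m⟧') ≫ e.inv.app L = 0
    rw [hBW, Category.assoc W, ← Functor.map_comp]
    have h0 : (Pi.lift fun n => Pi.π K n - Pi.π K (n + 1) ≫ t n) ≫ c = 0 := comp_distTriang_mor_zero₂₃ _ hc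
    rw [h0, Functor.map_zero, comp_zero, zero_comp]
  · have hy' : y ≫ (Pi.lift a)⟦m'⟧' = 0 := DLim.shiftPi_hom_ext m' _ _ fun n => by
      rw [Category.assoc, ← Functor.map_comp, Pi.lift_π, hy, zero_comp]
    have hn := e.hom.naturality (Pi.lift a)
    have h3 : (y ≫ e.hom.app L) ≫ Δ.rotate.rotate.mor₂⟦m⟧' = 0 := by
      show (y ≫ e.hom.app L) ≫ (-((Pi.lift a)⟦(1 : ℤ)⟧'))⟦m⟧' = 0
      rw [Functor.map_neg, Preadditive.comp_neg, neg_eq_zero, Category.assoc]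
      exact (congrArg (y ≫ ·) hn.symm).trans (((Category.assoc _ _ _).symm.trans (congrArg (· ≫ _) hy')).trans zero_comp)
    obtain ⟨X, hX⟩ := DLim.exact₂_shift Δ.rotate.rotate (rot_of_distTriang _ (rot_of_distTriang _ hc)) m
      (y ≫ e.hom.app L) h3
    refine ⟨fun n => X ≫ (Pi.π K n)⟦m⟧', ?_⟩
    show (B _ ≫ c⟦m⟧') ≫ e.inv.app L = y
    rw [hBu _ X fun n => rfl]
    refine (congrArg (· ≫ e.inv.app L) hX).trans ?_
    rw [Category.assoc, e.hom_inv_id_app]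
    exact Category.comp_id _
  · rintro ⟨b, rfl⟩ n
    show ((B b ≫ c⟦m⟧') ≫ e.inv.app L) ≫ (a n)⟦m'⟧' = 0
    have hn : (shiftFunctor T (1 : ℤ) ⋙ shiftFunctor T m).map (a n) ≫ e.inv.app (K n) = e.inv.app L ≫ (a n)⟦m'⟧' :=
      e.inv.naturality (a n)
    rw [Category.assoc, ← hn]
    show (B b ≫ c⟦m⟧') ≫ ((a n)⟦(1 : ℤ)⟧')⟦m⟧' ≫ _ = 0
    have h0 : c ≫ (Pi.lift a)⟦(1 : ℤ)⟧' = 0 := comp_distTriang_mor_zero₃₁ _ hc
    rw [← Category.assoc, Category.assoc (B b), ← Functor.map_comp,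
      show a n = Pi.lift a ≫ Pi.π K n from (Pi.lift_π _ _).symm, Functor.map_comp (shiftFunctor T (1 : ℤ)),
      ← Category.assoc c, h0, zero_comp, Functor.map_zero, comp_zero, zero_comp]

variable {X : TopCat.{u}} [HasDerivedCategory.{u} (CohTop.Ab X)]

/-- The derived limit of an acyclic system with surjective transitions is the limit, through the projections. -/
theorem rlimVia_limit_π (F : ℕ → CohTop.Ab X) (t : ∀ n, F (n + 1) ⟶ F n) (B : Set (Opens X)) (hB : Opens.IsBasis B)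
    (h1 : ∀ U ∈ B, ∀ (p n : ℕ), Subsingleton (CohTop.HU (F n) (p + 1) U))
    (h2 : ∀ U ∈ B, CohCx.LimOneIsZero (fun n => (F n).obj.obj (op U))
      (fun n => ((t n).hom.app (op U)).hom))
    [HasProduct fun n => (singleFunctor (CohTop.Ab X) 0).obj (F n)] :
    CohCx.IsRlimVia (fun n => (singleFunctor (CohTop.Ab X) 0).obj (F n)) (fun n => (singleFunctor (CohTop.Ab X) 0).map (t n))
      ((singleFunctor (CohTop.Ab X) 0).obj (limit (CohCx.opSequence F t)))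
      (fun n => (singleFunctor (CohTop.Ab X) 0).map (limit.π (CohCx.opSequence F t) (op n))) := by
  let Φ := singleFunctor (CohTop.Ab X) 0
  obtain ⟨⟨a₀, c, hT⟩, -⟩ := DLim.isRlim_single F t (DLim.isCoveredBy_of_isBasis hB) h1 h2
  let a : ∀ n, Φ.obj (limit (CohCx.opSequence F t)) ⟶ Φ.obj (F n) := fun n => a₀ ≫ Pi.π _ n
  have ha : Pi.lift a = a₀ := Pi.hom_ext _ _ fun n => Pi.lift_π _ _
  have hL : CohCx.IsRlimVia (fun n => Φ.obj (F n)) (fun n => Φ.map (t n)) (Φ.obj (limit (CohCx.opSequence F t))) a := by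
    refine ⟨c, ?_⟩
    rw [ha]
    exact hT
  let D := CohCx.opSequence F t
  have hπt : ∀ n, limit.π D (op (n + 1)) ≫ t n = limit.π D (op n) := fun n => by
    have h := limit.w D (homOfLE (Nat.le_add_right n 1)).op
    erw [Functor.ofOpSequence_map_homOfLE_succ] at h
    exact h
  obtain ⟨φ, hφiso, hφ⟩ := rlim_cone_iso (F := F) (t := t) Φ (fun n => limit.π D (op n)) hπt
    (fun g hg => ⟨limit.lift D ⟨_, NatTrans.ofOpSequence g fun n => by
        erw [Functor.ofOpSequence_map_homOfLE_succ]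
        exact (Category.id_comp _).trans (hg n).symm⟩, fun n => limit.lift_π _ _⟩)
    (fun u v h => limit.hom_ext fun n => h n.unop) hL (fun n b => single_zero_of_neg b)
  refine ⟨c ≫ (Φ.map φ)⟦(1 : ℤ)⟧', isomorphic_distinguished _ hT _
    (Triangle.isoMk (Triangle.mk a₀ (Pi.lift fun n => Pi.π (fun n => Φ.obj (F n)) n -
        Pi.π (fun n => Φ.obj (F n)) (n + 1) ≫ Φ.map (t n)) c)
      (Triangle.mk (Pi.lift (f := fun n => Φ.obj (F n)) fun n => Φ.map (limit.π D (op n))) (Pi.lift fun n => Pi.π (fun n => Φ.obj (F n)) n -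
        Pi.π (fun n => Φ.obj (F n)) (n + 1) ≫ Φ.map (t n)) (c ≫ (Φ.map φ)⟦(1 : ℤ)⟧'))
      (asIso (Φ.map φ)) (Iso.refl _) (Iso.refl _) ?_ ?_ ?_).symm⟩
  · refine (Category.comp_id _).trans ?_
    refine ha.symm.trans (Pi.hom_ext _ _ fun n => ?_)
    refine (Pi.lift_π _ _).trans ?_
    show _ = (Φ.map φ ≫ Pi.lift _) ≫ _
    rw [Category.assoc, Pi.lift_π, ← hφ, Functor.map_comp]
  · exact (Category.comp_id _).trans (Category.id_comp _).symm
  all_goals exact (Category.id_comp _).symm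

set_option maxHeartbeats 1000000 in
/-- The short exact sequence `0 → R¹lim H^p → H^{p+1}(lim) → lim H^{p+1} → 0`. -/
theorem exists_six_term (F : ℕ → CohTop.Ab X) (t : ∀ n, F (n + 1) ⟶ F n) (B : Set (Opens X)) (hB : Opens.IsBasis B)
    (h1 : ∀ U ∈ B, ∀ (p n : ℕ), Subsingleton (CohTop.HU (F n) (p + 1) U))
    (h2 : ∀ U ∈ B, CohCx.LimOneIsZero (fun n => (F n).obj.obj (op U))
      (fun n => ((t n).hom.app (op U)).hom)) (p : ℕ) :
    ∃ α : (∀ n, Sheaf.H (F n) p) →+ Sheaf.H (limit (CohCx.opSequence F t)) (p + 1),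
      (∀ b, α b = 0 ↔ ∃ w : ∀ n, Sheaf.H (F n) p, ∀ n, w n - Sheaf.H.map (t n) p (w (n + 1)) = b n) ∧
      (∀ y, (∀ n, Sheaf.H.map (limit.π (CohCx.opSequence F t) (op n)) (p + 1) y = 0) ↔ y ∈ α.range) ∧
      (∀ x : ∀ n, Sheaf.H (F n) (p + 1), (∀ n, Sheaf.H.map (t n) (p + 1) (x (n + 1)) = x n) →
        ∃ y, ∀ n, Sheaf.H.map (limit.π (CohCx.opSequence F t) (op n)) (p + 1) y = x n) := by
  let Φ := singleFunctor (CohTop.Ab X) 0
  haveI : HasProduct fun n => Φ.obj (F n) := DLim.hasProduct_nat _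
  have hL := rlimVia_limit_π F t B hB h1 h2
  obtain ⟨α₀, hker, hran⟩ := exists_rlim_connecting hL (p : ℤ) ((p + 1 : ℕ) : ℤ) (by push_cast; ring) (Φ.obj (cst X))
  let eL : Sheaf.H (limit (CohCx.opSequence F t)) (p + 1) ≃+
      (Φ.obj (cst X) ⟶ (Φ.obj (limit (CohCx.opSequence F t)))⟦((p + 1 : ℕ) : ℤ)⟧) := Ext.homAddEquiv
  let eK : ∀ n, Sheaf.H (F n) p ≃+ (Φ.obj (cst X) ⟶ (Φ.obj (F n))⟦(p : ℤ)⟧) := fun n => Ext.homAddEquiv
  let α : (∀ n, Sheaf.H (F n) p) →+ Sheaf.H (limit (CohCx.opSequence F t)) (p + 1) :=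
    eL.symm.toAddMonoidHom.comp (α₀.comp (AddMonoidHom.mk' (fun b n => eK n (b n)) fun b b' =>
      funext fun n => map_add (eK n) _ _))
  have hα : ∀ b, eL (α b) = α₀ fun n => eK n (b n) := fun b => eL.apply_symm_apply _
  refine ⟨α, fun b => ?_, fun y => ?_, fun x hx => ?_⟩
  · rw [← eL.map_eq_zero_iff, hα, hker]
    refine ⟨fun ⟨w, hw⟩ => ⟨fun n => (eK n).symm (w n), fun n => (eK n).injective ?_⟩,
      fun ⟨w, hw⟩ => ⟨fun n => eK n (w n), fun n => ?_⟩⟩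
    · rw [map_sub, AddEquiv.apply_symm_apply]
      exact ((congrArg (w n - ·) ((hom_map (t n) p _).trans (congrArg (· ≫ _) ((eK (n + 1)).apply_symm_apply _))))).trans (hw n)
    · refine Eq.trans ?_ (congrArg (eK n) (hw n))
      rw [map_sub]
      exact congrArg (eK n (w n) - ·) (hom_map (t n) p (w (n + 1))).symm
  · have hy : (∀ n, Sheaf.H.map (limit.π (CohCx.opSequence F t) (op n)) (p + 1) y = 0) ↔
        ∀ n, eL y ≫ (Φ.map (limit.π (CohCx.opSequence F t) (op n)))⟦((p + 1 : ℕ) : ℤ)⟧' = 0 := by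
      refine forall_congr' fun n => ?_
      rw [← hom_map]
      exact Ext.homAddEquiv.map_eq_zero_iff.symm
    rw [hy, hran]
    refine ⟨fun ⟨b, hb⟩ => ⟨fun n => (eK n).symm (b n), eL.injective ?_⟩, fun ⟨b, hb⟩ => ⟨fun n => eK n (b n), ?_⟩⟩
    · rw [hα]
      simp only [AddEquiv.apply_symm_apply]
      exact hb
    · rw [← hb, hα]
  · obtain ⟨y, hy⟩ := DLim.rlim_exists_lift hL ((p + 1 : ℕ) : ℤ) (fun n => Ext.homAddEquiv (x n)) fun n => by
      rw [← hom_map, hx n]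
    refine ⟨eL.symm y, fun n => Ext.homAddEquiv.injective ?_⟩
    rw [hom_map]
    exact (congrArg (· ≫ _) (eL.apply_symm_apply y)).trans (hy n)

end Groth.Agent.FModLib
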