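import Groth.Agent.FComplLib.Sys
import Groth.Agent.QCoh.ClosedPush
import Groth.Prelude.Def_FSch5
import Mathlib.Algebra.Category.ModuleCat.Sheaf.Limits

/-!
# Sections of the module of a system on a formal scheme
-/

set_option backward.isDefEq.respectTransparency false
set_option backward.isDefEq.respectTransparency.types false

universe u

open CategoryTheory CategoryTheory.Limits AlgebraicGeometry TopologicalSpace Opposite

noncomputable section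

namespace Groth.Agent.FModLib

variable {𝔛 : FSch.Sys.{u}} (h : 𝔛.IsFormal)

/-- The scalars of level `k`. -/
def rproj (k : ℕ) (U : (𝔛.X 0).Opens) : (𝔛.Osh h).obj.obj (op U) →+* Γ(𝔛.X k, 𝔛.lvU h k U) :=
  ((𝔛.OshProj h k).hom.app (op U)).hom

variable (𝔐 : FSch.ModSys 𝔛)

/-- Sections of the module of a system. -/
abbrev Sec (U : (𝔛.X 0).Opens) : Type u := ModSite.sect (𝔐.realMod h) U

/-- The components of a section. -/
def pr (k : ℕ) (U : (𝔛.X 0).Opens) : Sec h 𝔐 U →+ Γ(𝔐.F k, 𝔛.lvU h k U) where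
  toFun x := (FSch.realProj 𝔛 h 𝔐.F 𝔐.toPush k).val.app (op U) x
  map_zero' := map_zero ((FSch.realProj 𝔛 h 𝔐.F 𝔐.toPush k).val.app (op U)).hom
  map_add' x y := map_add ((FSch.realProj 𝔛 h 𝔐.F 𝔐.toPush k).val.app (op U)).hom x y

/-- The transition map on sections over the common space. -/
def tr (k : ℕ) (U : (𝔛.X 0).Opens) :
    Γ(𝔐.F (k + 1), 𝔛.lvU h (k + 1) U) →+ Γ(𝔐.F k, 𝔛.lvU h k U) :=
  ((𝔐.F k).presheaf.map (homOfLE (𝔛.lvU_le h k U)).op).hom.comp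
    ((𝔐.toPush k).app (𝔛.lvU h (k + 1) U)).hom

theorem pr_tr (k : ℕ) (U : (𝔛.X 0).Opens) (x : Sec h 𝔐 U) :
    tr h 𝔐 k U (pr h 𝔐 (k + 1) U x) = pr h 𝔐 k U x := by
  exact congrArg (fun φ : 𝔐.realMod h ⟶ (FSch.levelMor 𝔛 h k).push.obj (𝔐.F k) => φ.val.app (op U) x)
    (FSch.realProj_map 𝔛 h 𝔐.F 𝔐.toPush k)

theorem pr_smul (k : ℕ) (U : (𝔛.X 0).Opens) (r : (𝔛.Osh h).obj.obj (op U)) (x : Sec h 𝔐 U) :
    pr h 𝔐 k U (r • x) = rproj h k U r • pr h 𝔐 k U x :=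
  map_smul ((FSch.realProj 𝔛 h 𝔐.F 𝔐.toPush k).val.app (op U)).hom r x

theorem pr_res (k : ℕ) {U V : (𝔛.X 0).Opens} (i : V ⟶ U) (x : Sec h 𝔐 U) :
    pr h 𝔐 k V ((𝔐.realMod h).val.map i.op x) =
      (𝔐.F k).presheaf.map ((Opens.map (𝔛.gInv h k)).map i).op (pr h 𝔐 k U x) :=
  PresheafOfModules.naturality_apply (FSch.realProj 𝔛 h 𝔐.F 𝔐.toPush k).val i.op x

theorem tr_res (k : ℕ) {U V : (𝔛.X 0).Opens} (i : V ⟶ U) (x : Γ(𝔐.F (k + 1), 𝔛.lvU h (k + 1) U)) :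
    (𝔐.F k).presheaf.map ((Opens.map (𝔛.gInv h k)).map i).op (tr h 𝔐 k U x) =
      tr h 𝔐 k V ((𝔐.F (k + 1)).presheaf.map ((Opens.map (𝔛.gInv h (k + 1))).map i).op x) :=
  (PresheafOfModules.naturality_apply ((FSch.levelMor 𝔛 h (k + 1)).push.map (𝔐.toPush k) ≫
    (FSch.pushCompare 𝔛 h k).app (𝔐.F k)).val i.op x).symm

theorem tr_smul (k : ℕ) (U : (𝔛.X 0).Opens) (r : (𝔛.Osh h).obj.obj (op U))
    (x : Γ(𝔐.F (k + 1), 𝔛.lvU h (k + 1) U)) :
    tr h 𝔐 k U (rproj h (k + 1) U r • x) = rproj h k U r • tr h 𝔐 k U x :=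
  map_smul (((FSch.levelMor 𝔛 h (k + 1)).push.map (𝔐.toPush k) ≫
    (FSch.pushCompare 𝔛 h k).app (𝔐.F k)).val.app (op U)).hom r
    (show ((FSch.levelMor 𝔛 h (k + 1)).push.obj (𝔐.F (k + 1))).val.obj (op U) from x)

/-- The evaluation at an open as a functor to types. -/
abbrev evalT (U : (𝔛.X 0).Opens) : FSch.ModF 𝔛 h ⥤ Type u :=
  SheafOfModules.evaluation (ModSite.ringSh (𝔛.Osh h)) (op U) ⋙ forget _

/-- The sections are the limit. -/
def isLimitSec (U : (𝔛.X 0).Opens) :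
    IsLimit ((evalT h U).mapCone (limit.cone (FSch.levelSysOf 𝔛 h 𝔐.F 𝔐.toPush))) :=
  isLimitOfPreserves _ (limit.isLimit _)

theorem ext_pr (U : (𝔛.X 0).Opens) {x y : Sec h 𝔐 U}
    (hxy : ∀ k, pr h 𝔐 k U x = pr h 𝔐 k U y) : x = y :=
  (Types.isLimitEquivSections (isLimitSec h 𝔐 U)).injective
    (Subtype.ext (funext fun j => hxy j.unop))

theorem exists_pr (U : (𝔛.X 0).Opens) (z : ∀ k, Γ(𝔐.F k, 𝔛.lvU h k U))
    (hz : ∀ k, tr h 𝔐 k U (z (k + 1)) = z k) : ∃ x : Sec h 𝔐 U, ∀ k, pr h 𝔐 k U x = z k := by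
  let F := FSch.levelSysOf 𝔛 h 𝔐.F 𝔐.toPush ⋙ evalT h U
  have hs : ∀ a b (hab : a ≤ b), F.map (homOfLE hab).op (z b) = z a := by
    intro a b hab
    induction b, hab using Nat.le_induction with
    | base =>
      rw [show (homOfLE (le_refl a)).op = 𝟙 (op a) from rfl, F.map_id]
      rfl
    | succ b hab ih =>
      rw [show (homOfLE (hab.trans (Nat.le_succ b))).op =
        (homOfLE (Nat.le_add_right b 1)).op ≫ (homOfLE hab).op from rfl, F.map_comp]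
      refine Eq.trans (congrArg (F.map (homOfLE hab).op) ?_) ih
      refine Eq.trans ?_ (hz b)
      dsimp only [F, Functor.comp_map]
      rw [FSch.levelSysOf_map_succ]
      rfl
  let s : F.sections := ⟨fun j => z j.unop, fun {a b} f => by
    have : f = (homOfLE (leOfHom f.unop)).op := Subsingleton.elim _ _
    rw [this]
    exact hs _ _ _⟩
  exact ⟨(Types.isLimitEquivSections (isLimitSec h 𝔐 U)).symm s,
    fun k => Types.isLimitEquivSections_symm_apply (isLimitSec h 𝔐 U) s (op k)⟩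

end Groth.Agent.FModLib
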