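import Groth.Agent.FModLib.QFormalTrunc
import Groth.Agent.FFun.Basic
import Groth.Agent.Algz7.CohFormal
import Mathlib.RingTheory.Ideal.Operations

/-!
# Systems with short exact sequences `0 → G_n → G_{n+1} → G_0 → 0` given by multiplication by an element
-/

set_option linter.style.haveILetI false
set_option backward.isDefEq.respectTransparency false
set_option backward.isDefEq.respectTransparency.types false

universe u

open CategoryTheory CategoryTheory.Limits AlgebraicGeometry TopologicalSpace Opposite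

noncomputable section

namespace Groth.Agent.FModLib

open Groth.Agent

variable {A : Type u} [CommRing A] {X : Scheme.{u}} [X.Over (Spec (CommRingCat.of A))]

theorem smulMod_naturality'' {M N P : X.Modules} (φ : M ⟶ N) (b : A) (g : N ⟶ P) :
    Formal.smulMod A M b ≫ φ ≫ g = φ ≫ Formal.smulMod A N b ≫ g := by
  rw [← Category.assoc, FFun.smulMod_naturality, Category.assoc]

/-- The transition from the next term. -/
abbrev nTr (G : ℕᵒᵖ ⥤ X.Modules) (n : ℕ) : G.obj (op (n + 1)) ⟶ G.obj (op n) :=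
  G.map (homOfLE (Nat.le_succ n)).op

/-- The transition to the first term. -/
abbrev nTz (G : ℕᵒᵖ ⥤ X.Modules) (n : ℕ) : G.obj (op n) ⟶ G.obj (op 0) :=
  G.map (homOfLE (Nat.zero_le n)).op

/-- Multiplication by `f` on a system factors through the transitions by monomorphisms, with short exact
sequences to the first term. -/
structure TFSys (f : A) (G : ℕᵒᵖ ⥤ X.Modules) where
  i : ∀ n, G.obj (op n) ⟶ G.obj (op (n + 1))
  mono : ∀ n, Mono (i n)
  fac : ∀ n, nTr G n ≫ i n = Formal.smulMod A (G.obj (op (n + 1))) f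
  w : ∀ n, i n ≫ nTz G (n + 1) = 0
  exact : ∀ n, (ShortComplex.mk (i n) (nTz G (n + 1)) (w n)).ShortExact

namespace TFSys

variable {f : A} {G : ℕᵒᵖ ⥤ X.Modules} (S : TFSys f G)

theorem T_succ (G : ℕᵒᵖ ⥤ X.Modules) (n : ℕ) : (nTz G (n + 1)) = (nTr G n) ≫ (nTz G n) := by
  exact ((congrArg G.map (Subsingleton.elim _ _)).trans (G.map_comp _ _))

include S in
theorem epi_T (n : ℕ) : Epi (nTz G (n + 1)) := (S.exact n).epi_g

theorem desc (n : ℕ) {P : X.Modules} (φ : G.obj (op (n + 1)) ⟶ P) (h : S.i n ≫ φ = 0) :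
    ∃ χ : G.obj (op 0) ⟶ P, (nTz G (n + 1)) ≫ χ = φ := by
  haveI : Balanced X.Modules := inferInstance
  exact ⟨CokernelCofork.IsColimit.desc' (S.exact n).gIsCokernel φ h |>.1,
    (CokernelCofork.IsColimit.desc' (S.exact n).gIsCokernel φ h).2⟩

include S in
theorem smulMod_pow_eq_zero (m : ℕ) : Formal.smulMod A (G.obj (op m)) (f ^ (m + 1)) = 0 := by
  induction m with
  | zero =>
    haveI : Epi (nTr G 0) := S.epi_T 0
    rw [pow_one, ← cancel_epi (nTr G 0), comp_zero, ← FFun.smulMod_naturality, ← S.fac 0, Category.assoc]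
    exact (congrArg ((nTr G 0) ≫ ·) (S.w 0)).trans comp_zero
  | succ m ihm =>
    rw [pow_succ', FFun.smulMod_mul, ← S.fac m, ← Category.assoc, FFun.smulMod_naturality, ihm, comp_zero,
      zero_comp]

include S in
theorem epi_t : ∀ n, Epi (nTr G n) := fun n => by
  induction n with
  | zero => exact S.epi_T 0
  | succ n ih =>
    haveI := ih
    let q := cokernel.π (nTr G (n + 1))
    have hq : (nTr G (n + 1)) ≫ q = 0 := cokernel.condition _
    haveI : Epi (S.i n ≫ q) := Preadditive.epi_of_cancel_zero _ fun {P} ψ hψ => by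
      rw [Category.assoc] at hψ
      obtain ⟨χ, hχ⟩ := S.desc n (q ≫ ψ) hψ
      haveI := S.epi_T (n + 1)
      have h0 : (nTz G (n + 1 + 1)) ≫ χ = 0 := by
        rw [T_succ G, Category.assoc, hχ, ← Category.assoc, hq, zero_comp]
      have hχ0 : χ = 0 := (cancel_epi (nTz G (n + 1 + 1))).1 (h0.trans comp_zero.symm)
      rw [hχ0, comp_zero] at hχ
      rw [← cancel_epi q, comp_zero]
      exact hχ.symm
    haveI : Epi (Formal.smulMod A (cokernel (nTr G (n + 1))) f) := by
      have e : q ≫ Formal.smulMod A (cokernel (nTr G (n + 1))) f = (nTr G n) ≫ S.i n ≫ q := by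
        rw [← FFun.smulMod_naturality, ← S.fac n, Category.assoc]
      haveI : Epi (q ≫ Formal.smulMod A (cokernel (nTr G (n + 1))) f) := by rw [e]; infer_instance
      exact epi_of_epi q _
    have hpow : ∀ k, Epi (Formal.smulMod A (cokernel (nTr G (n + 1))) (f ^ k)) := by
      intro k
      induction k with
      | zero => rw [pow_zero, FFun.smulMod_one]; infer_instance
      | succ k ihk => rw [pow_succ, FFun.smulMod_mul]; infer_instance
    haveI := hpow (n + 1 + 1)
    refine Preadditive.epi_of_cokernel_zero ?_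
    show q = 0
    have h0 : Formal.smulMod A (cokernel (nTr G (n + 1))) (f ^ (n + 1 + 1)) = 0 := by
      rw [← cancel_epi q, comp_zero, ← FFun.smulMod_naturality, S.smulMod_pow_eq_zero, zero_comp]
    have hid : 𝟙 (cokernel (nTr G (n + 1))) = 0 := by
      rw [← cancel_epi (Formal.smulMod A (cokernel (nTr G (n + 1))) (f ^ (n + 1 + 1))), Category.comp_id, h0, zero_comp]
    exact (Category.comp_id q).symm.trans (hid ▸ comp_zero)

include S in
theorem killed (m : ℕ) : Formal.KilledBy (Ideal.span ({f} : Set A) ^ (m + 1)) (G.obj (op m)) := fun a ha => by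
  rw [Ideal.span_singleton_pow, Ideal.mem_span_singleton'] at ha
  obtain ⟨b, rfl⟩ := ha
  rw [FFun.smulMod_mul, S.smulMod_pow_eq_zero, zero_comp]

include S in
theorem factor : ∀ (n : ℕ) {P : X.Modules} (φ : G.obj (op (n + 1)) ⟶ P),
    Formal.smulMod A (G.obj (op (n + 1))) (f ^ (n + 1)) ≫ φ = 0 → ∃ χ, (nTr G n) ≫ χ = φ := by
  intro n
  induction n with
  | zero =>
    intro P φ hφ
    haveI := S.epi_T 0
    refine S.desc 0 φ ?_
    haveI := S.epi_t 0
    rw [pow_one, ← S.fac 0, Category.assoc] at hφ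
    rw [← cancel_epi (nTr G 0), comp_zero]
    exact hφ
  | succ n ih =>
    intro P φ hφ
    haveI := S.epi_t (n + 1)
    haveI := S.mono n
    have hφ' : Formal.smulMod A (G.obj (op (n + 1))) (f ^ (n + 1)) ≫ S.i (n + 1) ≫ φ = 0 := by
      rw [← cancel_epi (nTr G (n + 1)), comp_zero, ← smulMod_naturality'', ← Category.assoc (nTr G (n + 1)), S.fac,
        ← Category.assoc, ← FFun.smulMod_mul, ← pow_succ']
      exact hφ
    obtain ⟨χ, hχ⟩ := ih (S.i (n + 1) ≫ φ) hφ'
    have hcomm : S.i (n + 1) ≫ (nTr G (n + 1)) = (nTr G n) ≫ S.i n := by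
      rw [← cancel_epi (nTr G (n + 1)), ← Category.assoc, S.fac, FFun.smulMod_naturality, ← S.fac]
    haveI := S.mono (n + 1)
    let k := kernel.ι (nTr G (n + 1))
    have hk : k ≫ φ = 0 := by
      have h0 : k ≫ (nTz G (n + 1 + 1)) = 0 := by
        rw [T_succ G, ← Category.assoc, kernel.condition, zero_comp]
      obtain ⟨a, ha⟩ : ∃ a, a ≫ S.i (n + 1) = k :=
        ⟨(KernelFork.IsLimit.lift' (S.exact (n + 1)).fIsKernel k h0).1,
          (KernelFork.IsLimit.lift' (S.exact (n + 1)).fIsKernel k h0).2⟩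
      have h1 : a ≫ (nTr G n) = 0 := by
        rw [← cancel_mono (S.i n), zero_comp, Category.assoc, ← hcomm, ← Category.assoc, ha, kernel.condition]
      rw [← ha, Category.assoc, ← hχ, ← Category.assoc, h1, zero_comp]
    exact ⟨Abelian.epiDesc _ φ hk, Abelian.comp_epiDesc _ _ _⟩

include S in
theorem isQCohFormal (hqc : ∀ n : ℕᵒᵖ, Coh.IsQCoh (G.obj n)) :
    Formal2.IsQCohFormal (Ideal.span ({f} : Set A)) G := by
  refine ⟨fun n => hqc (op n), S.killed, fun n => ?_⟩
  haveI := S.epi_t n
  refine Algz7.IsQuot.mk' (nTr G n) (S.killed n) fun {P} φ hφ => ?_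
  refine TFSys.factor S n φ (Algz7.smulMod_comp_eq_zero hφ ?_)
  rw [Ideal.span_singleton_pow]
  exact Ideal.mem_span_singleton_self _

include S in
theorem mono_smul_limit : Mono (Formal.smulMod A (limit G) f) := by
  refine Preadditive.mono_of_cancel_zero _ fun {P} k hk => limit.hom_ext fun j => ?_
  obtain ⟨n, rfl⟩ : ∃ n, j = op n := ⟨j.unop, rfl⟩
  rw [zero_comp]
  haveI := S.mono n
  rw [← cancel_mono (S.i n), zero_comp, ← limit.w G (homOfLE (Nat.le_succ n)).op, Category.assoc, Category.assoc,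
    S.fac, ← Category.assoc]
  calc (k ≫ limit.π G (op (n + 1))) ≫ Formal.smulMod A (G.obj (op (n + 1))) f
      = (k ≫ Formal.smulMod A (limit G) f) ≫ limit.π G (op (n + 1)) := by
        rw [Category.assoc, Category.assoc, FFun.smulMod_naturality]
    _ = 0 := by rw [hk, zero_comp]

end TFSys

theorem completion_limit_iso {I : Ideal A} (hI : I.FG) {G : ℕᵒᵖ ⥤ X.Modules} (hG : Formal2.IsQCohFormal I G) :
    Nonempty (Formal.completion I (limit G) ≅ G) := by
  let c : ∀ n, Formal.modPow I (n + 1) (limit G) ⟶ G.obj (op n) := fun n =>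
    cokernel.desc _ (limit.π G (op n)) (isQuot_limit_π hI hG n).choose
  haveI : ∀ n, IsIso (c n) := fun n => (isQuot_limit_π hI hG n).choose_spec
  let α : Formal.completion I (limit G) ⟶ G := NatTrans.ofOpSequence c fun n => by
    refine (congrArg (· ≫ c n) (Functor.ofOpSequence_map_homOfLE_succ
      (X := fun k => Formal.modPow I (k + 1) (limit G)) (fun k => Formal.modPowTrans I (k + 1) (limit G)) n)).trans ?_
    haveI : Epi (Formal.modPowπ I (n + 1 + 1) (limit G)) := inferInstanceAs (Epi (cokernel.π _))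
    rw [← cancel_epi (Formal.modPowπ I (n + 1 + 1) (limit G)), ← Category.assoc, Formal.modPowπ_trans]
    refine (cokernel.π_desc _ _ _).trans ?_
    refine ((limit.w G (homOfLE (Nat.le_succ n)).op).symm.trans ?_)
    exact (congrArg (· ≫ G.map (homOfLE (Nat.le_succ n)).op) (cokernel.π_desc _ _ _).symm).trans (Category.assoc _ _ _)
  haveI : ∀ j : ℕᵒᵖ, IsIso (α.app j) := fun j => inferInstanceAs (IsIso (c j.unop))
  haveI : IsIso α := NatIso.isIso_of_isIso_app α
  exact ⟨asIso α⟩

end Groth.Agent.FModLib
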