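import Groth.Agent.FModLib.PullFP
import Groth.Agent.FModLib.OpenMaps
import Groth.Agent.QCoh.FT
import Groth.Agent.FComplLib.AffMod
import Groth.Agent.ZClosLib.CohDescent

/-!
# The morphism from a formal scheme to a scheme
-/

set_option backward.isDefEq.respectTransparency false
set_option backward.isDefEq.respectTransparency.types false
set_option linter.style.haveILetI false

universe u

open CategoryTheory CategoryTheory.Limits AlgebraicGeometry TopologicalSpace Opposite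

noncomputable section

namespace Groth.Agent.FModLib

/-- A coherent module on a locally Noetherian scheme has presentations on affine opens. -/
theorem exists_isPres_scheme {Y : Scheme.{u}} [IsLocallyNoetherian Y] {F : Y.Modules} (hF : Coh.IsCoh F)
    {U : Y.Opens} (hU : IsAffineOpen U) :
    ∃ (n m : ℕ) (t : ULift.{u} (Fin n) → Γ(F, U)) (g : ULift.{u} (Fin m) → ULift.{u} (Fin n) → Γ(Y, U)),
      IsPres (O := Y.sheaf) F U t g := by
  classical
  haveI : IsNoetherianRing Γ(Y, U) := IsLocallyNoetherian.component_noetherian ⟨U, hU⟩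
  haveI hfin : Module.Finite Γ(Y, U) Γ(F, U) := QCoh.finite_of_isFT hF.1 hF.2 hU
  obtain ⟨n, t₀, ht₀⟩ := Module.Finite.exists_fin (R := Γ(Y, U)) (M := Γ(F, U))
  let t : ULift.{u} (Fin n) → Γ(F, U) := fun i => t₀ i.down
  let L : (ULift.{u} (Fin n) → Γ(Y, U)) →ₗ[Γ(Y, U)] Γ(F, U) := Fintype.linearCombination _ t
  have hL : ∀ c, L c = ∑ i, c i • t i := fun c => Fintype.linearCombination_apply _ _ _
  have hsp : ∀ y, ∃ c : ULift.{u} (Fin n) → Γ(Y, U), ∑ i, c i • t i = y := fun y => by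
    obtain ⟨c, hc⟩ := (Submodule.mem_span_range_iff_exists_fun Γ(Y, U)).mp (ht₀.ge (Submodule.mem_top : y ∈ ⊤))
    refine ⟨fun i => c i.down, ?_⟩
    rw [← hc]
    exact Fintype.sum_equiv Equiv.ulift _ _ fun i => rfl
  obtain ⟨m, g₀, hg₀⟩ := Submodule.fg_iff_exists_fin_generating_family.mp (IsNoetherian.noetherian (LinearMap.ker L))
  have hrel : ∀ c : ULift.{u} (Fin n) → Γ(Y, U), ∑ i, c i • t i = 0 →
      ∃ d : ULift.{u} (Fin m) → Γ(Y, U), ∀ i, ∑ j, d j * g₀ j.down i = c i := fun c hc => by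
    rw [← hL, ← LinearMap.mem_ker, ← hg₀, Submodule.mem_span_range_iff_exists_fun] at hc
    obtain ⟨d, rfl⟩ := hc
    refine ⟨fun j => d j.down, fun i => ?_⟩
    rw [Finset.sum_apply]
    exact Fintype.sum_equiv Equiv.ulift _ _ fun j => rfl
  refine ⟨n, m, t, fun j => g₀ j.down, fun j => ?_, fun W hW s x hx => ?_, fun W hW c hc x hx => ?_⟩
  · have hm : g₀ j.down ∈ LinearMap.ker L := hg₀ ▸ Submodule.subset_span ⟨j.down, rfl⟩
    exact (hL (g₀ j.down)).symm.trans (LinearMap.mem_ker.mp hm)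
  · obtain ⟨f, hf, hxf⟩ := hU.exists_basicOpen_le (V := W) ⟨x, hx⟩ (hW hx)
    obtain ⟨c, hc⟩ := gen_basic hF.1 hU f rfl (hf.trans hW) t hsp (F.presheaf.map (homOfLE hf).op s)
    exact ⟨_, hf, hxf, c, hc⟩
  · obtain ⟨f, hf, hxf⟩ := hU.exists_basicOpen_le (V := W) ⟨x, hx⟩ (hW hx)
    obtain ⟨d, hd⟩ := rel_basic hF.1 hU f rfl (hf.trans hW) t (fun j : ULift.{u} (Fin m) => g₀ j.down) hrel
      (fun i => ores Y.sheaf hf (c i)) (by
        have h1 := congrArg (mres (O := Y.sheaf) F hf) hc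
        rw [mres_sum_smul, mres_zero] at h1
        simp only [mres_mres] at h1
        exact h1)
    exact ⟨_, hf, hxf, d, hd⟩

variable {𝔛 : FSch.Sys.{u}} (h : 𝔛.IsFormal) {Y : Scheme.{u}} (p : ∀ n, 𝔛.X n ⟶ Y)
  (hp : ∀ n, 𝔛.ι n ≫ p (n + 1) = p n) (F : Y.Modules)

/-- The morphism to the scheme. -/
abbrev toY : ModSite.RMor (𝔛.Osh h) Y.sheaf := FSch.toSchemeMor 𝔛 h p hp

/-- Inverse images of coherent modules are coherent. -/
theorem isCohF_pull [IsLocallyNoetherian Y] (hF : Coh.IsCoh F) :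
    FSch.IsCohF 𝔛 h ((toY h p hp).pull.obj F) :=
  isFinitePresentation_pull (O' := Y.sheaf) (O := 𝔛.Osh h) (p 0).base (FSch.schSharp 𝔛 h p hp) fun y => by
    obtain ⟨_, ⟨U, hU, rfl⟩, hyU, -⟩ := Y.isBasis_affineOpens.exists_subset_of_mem_open (Set.mem_univ y) isOpen_univ
    obtain ⟨n, m, t, g, hP⟩ := exists_isPres_scheme hF hU
    exact ⟨U, n, m, t, g, hyU, hP⟩

theorem isIso_schPushCompare_app (k : ℕ) (N : (𝔛.X k).Modules) :
    IsIso ((FSch.schPushCompare 𝔛 h p hp k).app N) := by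
  have hb : ∀ V : Y.Opens, Function.Bijective (((FSch.schPushCompare 𝔛 h p hp k).app N).val.app (op V)) := by
    intro V
    let e : 𝔛.lvU h k (p 0 ⁻¹ᵁ V) ≤ p k ⁻¹ᵁ V := (FSch.lvU_p 𝔛 h p hp k V).ge
    let e' : p k ⁻¹ᵁ V ≤ 𝔛.lvU h k (p 0 ⁻¹ᵁ V) := (FSch.lvU_p 𝔛 h p hp k V).le
    show Function.Bijective (N.presheaf.map (homOfLE e).op)
    exact Function.bijective_iff_has_inverse.mpr ⟨N.presheaf.map (homOfLE e').op,
      fun x => (QCoh.map_map _ _ _).trans (QCoh.map_id' _ _), fun x => (QCoh.map_map _ _ _).trans (QCoh.map_id' _ _)⟩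
  haveI : Mono ((FSch.schPushCompare 𝔛 h p hp k).app N) := by
    refine Preadditive.mono_of_cancel_zero _ fun {P} φ hφ => ?_
    apply SheafOfModules.hom_ext
    refine PresheafOfModules.hom_ext fun W => ModuleCat.hom_ext (LinearMap.ext fun z => ?_)
    refine (hb W.unop).1 ?_
    exact (congrArg (fun f : P ⟶ _ => f.val.app W z) hφ).trans (map_zero _).symm
  haveI : Epi ((FSch.schPushCompare 𝔛 h p hp k).app N) := epi_of_locally (O := Y.sheaf) _ fun W s =>
    ⟨⊤, GrothendieckTopology.top_mem _ _, fun W' a _ => (hb W').2 _⟩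
  exact isIso_of_mono_of_epi _

/-- The composite of the unit and the comparison, adjunct: the map to a level. -/
def psi (k : ℕ) :
    (toY h p hp).pull.obj F ⟶ (FSch.levelMor 𝔛 h k).push.obj ((Scheme.Modules.pullback (p k)).obj F) :=
  ((toY h p hp).adj.homEquiv _ _).symm
    ((Scheme.Modules.pullbackPushforwardAdjunction (p k)).unit.app F ≫
      (FSch.schPushCompare 𝔛 h p hp k).app ((Scheme.Modules.pullback (p k)).obj F))

theorem isIso_adjunct_psi (k : ℕ) :
    IsIso (((FSch.levelMor 𝔛 h k).adj.homEquiv _ _).symm (psi h p hp F k)) := by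
  let A := (FSch.levelMor 𝔛 h k).adj
  let B := (toY h p hp).adj
  let C := Scheme.Modules.pullbackPushforwardAdjunction (p k)
  refine isIso_of_coyoneda_map_bijective _ fun N => ?_
  haveI := isIso_schPushCompare_app h p hp k N
  have key : ∀ φ, B.homEquiv _ _ (A.homEquiv _ _ ((A.homEquiv _ _).symm (psi h p hp F k) ≫ φ)) =
      C.homEquiv F N φ ≫ (FSch.schPushCompare 𝔛 h p hp k).app N := by
    intro φ
    rw [Adjunction.homEquiv_naturality_right, Equiv.apply_symm_apply, Adjunction.homEquiv_naturality_right,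
      psi, Equiv.apply_symm_apply, Adjunction.homEquiv_unit, Category.assoc, Category.assoc]
    exact congrArg (C.unit.app F ≫ ·) ((FSch.schPushCompare 𝔛 h p hp k).naturality φ).symm
  refine ⟨fun φ φ' e => ?_, fun ξ => ?_⟩
  · have e' := congrArg (fun f => B.homEquiv _ _ (A.homEquiv _ _ f)) e
    exact (C.homEquiv _ _).injective ((cancel_mono _).mp ((key φ).symm.trans (e'.trans (key φ'))))
  · refine ⟨(C.homEquiv _ _).symm (B.homEquiv _ _ (A.homEquiv _ _ ξ) ≫ inv ((FSch.schPushCompare 𝔛 h p hp k).app N)), ?_⟩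
    refine (A.homEquiv _ _).injective ((B.homEquiv _ _).injective ((key _).trans ?_))
    rw [Equiv.apply_symm_apply, Category.assoc, IsIso.inv_hom_id, Category.comp_id]

/-- The system of inverse images to the levels. -/
def sysOf : FSch.ModSys 𝔛 where
  F n := (Scheme.Modules.pullback (p n)).obj F
  e n := (Scheme.Modules.pullbackComp (𝔛.ι n) (p (n + 1))).app F ≪≫ (Scheme.Modules.pullbackCongr (hp n)).app F

theorem unit_comp_app {W X Z : Scheme.{u}} (f : W ⟶ X) (g : X ⟶ Z) (G : Z.Modules) (V : Z.Opens) (x : Γ(G, V)) :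
    ((Scheme.Modules.pullbackComp f g).hom.app G).app ((f ≫ g) ⁻¹ᵁ V)
        (((Scheme.Modules.pullbackPushforwardAdjunction f).unit.app ((Scheme.Modules.pullback g).obj G)).app (g ⁻¹ᵁ V)
          (((Scheme.Modules.pullbackPushforwardAdjunction g).unit.app G).app V x)) =
      ((Scheme.Modules.pullbackPushforwardAdjunction (f ≫ g)).unit.app G).app V x := by
  have h := unit_conjugateEquiv
    ((Scheme.Modules.pullbackPushforwardAdjunction g).comp (Scheme.Modules.pullbackPushforwardAdjunction f))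
    (Scheme.Modules.pullbackPushforwardAdjunction (f ≫ g)) (Scheme.Modules.pullbackComp f g).inv G
  rw [Scheme.Modules.conjugateEquiv_pullbackComp_inv] at h
  have h' := congrArg (fun φ => Scheme.Modules.Hom.app φ V x) h
  replace h' : (((Scheme.Modules.pullbackPushforwardAdjunction f).unit.app ((Scheme.Modules.pullback g).obj G)).app (g ⁻¹ᵁ V)
      (((Scheme.Modules.pullbackPushforwardAdjunction g).unit.app G).app V x) :) =
      ((Scheme.Modules.pullbackComp f g).inv.app G).app ((f ≫ g) ⁻¹ᵁ V)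
        (((Scheme.Modules.pullbackPushforwardAdjunction (f ≫ g)).unit.app G).app V x) := h'
  rw [h']
  exact congrArg (fun φ => Scheme.Modules.Hom.app φ ((f ≫ g) ⁻¹ᵁ V)
      (((Scheme.Modules.pullbackPushforwardAdjunction (f ≫ g)).unit.app G).app V x))
    ((Scheme.Modules.pullbackComp f g).inv_hom_id_app G)

theorem unit_congr_app {W Z : Scheme.{u}} {f g : W ⟶ Z} (e : f = g) (G : Z.Modules) (V : Z.Opens) (x : Γ(G, V)) :
    ((Scheme.Modules.pullbackCongr e).hom.app G).app (g ⁻¹ᵁ V)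
      (((Scheme.Modules.pullback f).obj G).presheaf.map (homOfLE (e ▸ le_rfl : g ⁻¹ᵁ V ≤ f ⁻¹ᵁ V)).op
        (((Scheme.Modules.pullbackPushforwardAdjunction f).unit.app G).app V x)) =
      ((Scheme.Modules.pullbackPushforwardAdjunction g).unit.app G).app V x := by
  subst e
  exact (congrArg (((Scheme.Modules.pullbackCongr rfl).hom.app G).app (f ⁻¹ᵁ V)) (QCoh.map_id' _ _)).trans rfl

/-- The adjunct of the transition isomorphism carries the unit to the unit. -/
theorem adjunct_comp_congr_app {W X Z : Scheme.{u}} (f : W ⟶ X) (g : X ⟶ Z) {k : W ⟶ Z} (e : f ≫ g = k)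
    (G : Z.Modules) (V : Z.Opens) (x : Γ(G, V)) :
    ((Scheme.Modules.pullbackPushforwardAdjunction f).homEquiv _ _
        ((Scheme.Modules.pullbackComp f g).hom.app G ≫ (Scheme.Modules.pullbackCongr e).hom.app G)).app (g ⁻¹ᵁ V)
        (((Scheme.Modules.pullbackPushforwardAdjunction g).unit.app G).app V x) =
      ((Scheme.Modules.pullback k).obj G).presheaf.map
        (homOfLE (e ▸ le_rfl : f ⁻¹ᵁ (g ⁻¹ᵁ V) ≤ k ⁻¹ᵁ V)).op
        (((Scheme.Modules.pullbackPushforwardAdjunction k).unit.app G).app V x) := by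
  subst e
  rw [Adjunction.homEquiv_unit]
  refine Eq.trans ?_ (QCoh.map_id' (M := (Scheme.Modules.pullback (f ≫ g)).obj G)
    (homOfLE (le_refl ((f ≫ g) ⁻¹ᵁ V))) _).symm
  exact (congrArg (fun z => ((Scheme.Modules.pullbackCongr (rfl : f ≫ g = f ≫ g)).hom.app G).app _ z)
    (unit_comp_app f g G V x)).trans rfl

/-- The transition carries the unit to the unit. -/
theorem toPush_sysOf_unit (k : ℕ) (V : Y.Opens) (x : Γ(F, V)) :
    ((sysOf p hp F).toPush k).app (p (k + 1) ⁻¹ᵁ V)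
        (((Scheme.Modules.pullbackPushforwardAdjunction (p (k + 1))).unit.app F).app V x) =
      ((Scheme.Modules.pullback (p k)).obj F).presheaf.map
        (homOfLE ((hp k) ▸ le_rfl : 𝔛.ι k ⁻¹ᵁ (p (k + 1) ⁻¹ᵁ V) ≤ p k ⁻¹ᵁ V)).op
        (((Scheme.Modules.pullbackPushforwardAdjunction (p k)).unit.app F).app V x) :=
  adjunct_comp_congr_app (𝔛.ι k) (p (k + 1)) (hp k) F V x

set_option maxHeartbeats 1000000 in
theorem psi_trans (k : ℕ) :
    psi h p hp F (k + 1) ≫ ((FSch.levelMor 𝔛 h (k + 1)).push.map ((sysOf p hp F).toPush k) ≫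
      (FSch.pushCompare 𝔛 h k).app ((sysOf p hp F).F k)) = psi h p hp F k := by
  apply ((toY h p hp).adj.homEquiv _ _).injective
  rw [Adjunction.homEquiv_naturality_right, psi, psi]
  refine Eq.trans (congrArg (· ≫ _) (Equiv.apply_symm_apply _ _)) (Eq.trans ?_ (Equiv.apply_symm_apply _ _).symm)
  apply SheafOfModules.hom_ext
  refine PresheafOfModules.hom_ext fun V => ModuleCat.hom_ext (LinearMap.ext fun x => ?_)
  obtain ⟨V⟩ := V
  let W := (Scheme.Modules.pullback (p k)).obj F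
  let a : 𝔛.lvU h (k + 1) (p 0 ⁻¹ᵁ V) ⟶ p (k + 1) ⁻¹ᵁ V := homOfLE (FSch.lvU_p 𝔛 h p hp (k + 1) V).ge
  let b : 𝔛.lvU h k (p 0 ⁻¹ᵁ V) ⟶ 𝔛.ι k ⁻¹ᵁ 𝔛.lvU h (k + 1) (p 0 ⁻¹ᵁ V) := homOfLE (𝔛.lvU_le h k _)
  let c : 𝔛.lvU h k (p 0 ⁻¹ᵁ V) ⟶ p k ⁻¹ᵁ V := homOfLE (FSch.lvU_p 𝔛 h p hp k V).ge
  let y := ((Scheme.Modules.pullbackPushforwardAdjunction (p (k + 1))).unit.app F).app V x
  show W.presheaf.map b.op (((sysOf p hp F).toPush k).app (𝔛.lvU h (k + 1) (p 0 ⁻¹ᵁ V))
      (((Scheme.Modules.pullback (p (k + 1))).obj F).presheaf.map a.op y)) =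
    W.presheaf.map c.op (((Scheme.Modules.pullbackPushforwardAdjunction (p k)).unit.app F).app V x)
  rw [show ((sysOf p hp F).toPush k).app (𝔛.lvU h (k + 1) (p 0 ⁻¹ᵁ V))
      (((Scheme.Modules.pullback (p (k + 1))).obj F).presheaf.map a.op y) =
    W.presheaf.map ((Opens.map (𝔛.ι k).base).map a).op (((sysOf p hp F).toPush k).app (p (k + 1) ⁻¹ᵁ V) y) from
    PresheafOfModules.naturality_apply ((sysOf p hp F).toPush k).val a.op y]
  have key := toPush_sysOf_unit p hp F k V x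
  dsimp only [y]
  rw [key, QCoh.map_map, QCoh.map_map]
  exact congrArg (fun i => W.presheaf.map (Quiver.Hom.op i) _) (Subsingleton.elim _ _)

/-- The canonical map to the limit of inverse images. -/
def gamma : (toY h p hp).pull.obj F ⟶ (sysOf p hp F).realMod h :=
  limit.lift (FSch.levelSysOf 𝔛 h (sysOf p hp F).F (sysOf p hp F).toPush)
    { pt := (toY h p hp).pull.obj F
      π := NatTrans.ofOpSequence (psi h p hp F) fun k => by
        rw [FSch.levelSysOf_map_succ]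
        exact (Category.id_comp _).trans (psi_trans h p hp F k).symm }

theorem gamma_proj (k : ℕ) :
    gamma h p hp F ≫ FSch.realProj 𝔛 h (sysOf p hp F).F (sysOf p hp F).toPush k = psi h p hp F k :=
  limit.lift_π _ (op k)

/-- A map of coherent modules inducing isomorphisms on all levels is an isomorphism. -/
theorem isIso_of_lev (h𝔛 : 𝔛.IsLocNoethFormal) {A B : FSch.ModF 𝔛 h𝔛.1} (hA : FSch.IsCohF 𝔛 h𝔛.1 A)
    (hB : FSch.IsCohF 𝔛 h𝔛.1 B) (θ : A ⟶ B) (hθ : ∀ k, IsIso ((FSch.levelMor 𝔛 h𝔛.1 k).pull.map θ)) : IsIso θ := by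
  haveI : Epi θ := (epi_iff_epi_lev h𝔛 θ hA hB).mpr (haveI := hθ 0; inferInstance)
  haveI : Mono θ := by
    refine Preadditive.mono_of_cancel_zero _ fun {P} φ hφ => ?_
    apply SheafOfModules.hom_ext
    refine PresheafOfModules.hom_ext fun W => ModuleCat.hom_ext (LinearMap.ext fun z => ?_)
    show (φ.val.app W z : FSect h𝔛 A W.unop) = 0
    refine eq_of_locally (O := 𝔛.Osh h𝔛.1) A fun x hx => ?_
    obtain ⟨U, hU, hxU, e⟩ := exists_affine_le (𝔛 := 𝔛) hx
    refine ⟨U, e, hxU, ?_⟩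
    rw [mres_zero]
    obtain ⟨hfin, hlev⟩ := affModule h𝔛 hA hU
    obtain ⟨hN, hC, -⟩ := affRing h𝔛 hU
    haveI := hfin
    let I := RingHom.ker (rproj h𝔛.1 0 U)
    haveI : IsHausdorff I (FSect h𝔛 A U) := IsHausdorff.of_le_jacobson I _ (IsAdicComplete.le_jacobson_bot I)
    let a := mres A e (show FSect h𝔛 A W.unop from φ.val.app W z)
    have ha0 : θ.val.app (op U) a = 0 :=
      (mapp_res A θ e _).trans ((congrArg (mres B e)
        (congrArg (fun f : P ⟶ B => f.val.app W z) hφ)).trans (mres_zero e))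
    refine IsHausdorff.haus' (I := I) a fun j => SModEq.zero.mpr ?_
    refine Submodule.smul_mono (Ideal.pow_le_pow_right (Nat.le_succ j)) le_rfl ((hlev j a).mp ?_)
    haveI := hθ j
    let L : lev h𝔛.1 j A ⟶ lev h𝔛.1 j B := (FSch.levelMor 𝔛 h𝔛.1 j).pull.map θ
    have h1 : L.app (𝔛.lvU h𝔛.1 j U) (toLev h𝔛.1 j A U a) = toLev h𝔛.1 j B U (θ.val.app (op U) a) :=
      (congrArg (fun f : A ⟶ (FSch.levelMor 𝔛 h𝔛.1 j).push.obj (lev h𝔛.1 j B) => f.val.app (op U) a)
        ((FSch.levelMor 𝔛 h𝔛.1 j).adj.unit.naturality θ)).symm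
    rw [ha0, map_zero] at h1
    have h2 := congrArg ((inv L).app (𝔛.lvU h𝔛.1 j U)) h1
    rw [map_zero] at h2
    exact (congrArg (fun f : lev h𝔛.1 j A ⟶ lev h𝔛.1 j A => f.app (𝔛.lvU h𝔛.1 j U) (toLev h𝔛.1 j A U a))
      (IsIso.hom_inv_id L)).symm.trans h2
  exact isIso_of_mono_of_epi θ

/-- The canonical map to the limit of inverse images is an isomorphism. -/
theorem isIso_gamma (h𝔛 : 𝔛.IsLocNoethFormal) [IsLocallyNoetherian Y] (hF : Coh.IsCoh F) :
    IsIso (gamma h𝔛.1 p hp F) := by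
  have hsys : (sysOf p hp F).IsCoh := fun k => by
    haveI := h𝔛.2.2 k
    exact ZClosLib.isCoh_pullback (p k) hF
  refine isIso_of_lev h𝔛 (isCohF_pull h𝔛.1 p hp F hF) (isCohF_realMod h𝔛 _ hsys) _ fun k => ?_
  let A := (FSch.levelMor 𝔛 h𝔛.1 k).adj
  haveI := isIso_adjunct k h𝔛 (sysOf p hp F) hsys
  haveI := isIso_adjunct_psi h𝔛.1 p hp F k
  have e : (FSch.levelMor 𝔛 h𝔛.1 k).pull.map (gamma h𝔛.1 p hp F) ≫
      (A.homEquiv _ _).symm (FSch.realProj 𝔛 h𝔛.1 (sysOf p hp F).F (sysOf p hp F).toPush k) =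
      (A.homEquiv _ _).symm (psi h𝔛.1 p hp F k) :=
    (A.homEquiv_naturality_left_symm _ _).symm.trans
      (congrArg (A.homEquiv _ _).symm (gamma_proj h𝔛.1 p hp F k))
  exact @IsIso.of_isIso_fac_right _ _ _ _ _ _ _ _ (isIso_adjunct k h𝔛 (sysOf p hp F) hsys)
    (isIso_adjunct_psi h𝔛.1 p hp F k) e

theorem homEquiv_gamma (k : ℕ) :
    ((toY h p hp).adj.homEquiv _ _ (gamma h p hp F)) ≫
        (toY h p hp).push.map (FSch.realProj 𝔛 h (sysOf p hp F).F (sysOf p hp F).toPush k) =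
      (Scheme.Modules.pullbackPushforwardAdjunction (p k)).unit.app F ≫
        (FSch.schPushCompare 𝔛 h p hp k).app _ := by
  exact ((toY h p hp).adj.homEquiv_naturality_right _ _).symm.trans
    ((congrArg ((toY h p hp).adj.homEquiv _ _) (gamma_proj h p hp F k)).trans (Equiv.apply_symm_apply _ _))

end Groth.Agent.FModLib
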