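import Groth.Agent.FModLib.Abel2

/-!
# Nakayama for coherent modules on a formal scheme
-/

set_option backward.isDefEq.respectTransparency false
set_option backward.isDefEq.respectTransparency.types false
set_option linter.style.haveILetI false

universe u

open CategoryTheory CategoryTheory.Limits AlgebraicGeometry TopologicalSpace Opposite

noncomputable section

namespace Groth.Agent.FModLib

variable {𝔛 : FSch.Sys.{u}} (h𝔛 : 𝔛.IsLocNoethFormal) {𝔊 : FSch.ModF 𝔛 h𝔛.1}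

theorem toLev_zero_of_isZero (k : ℕ) (hz : IsZero (lev h𝔛.1 k 𝔊)) (U : (𝔛.X 0).Opens) (x : FSect h𝔛 𝔊 U) :
    toLev h𝔛.1 k 𝔊 U x = 0 := by
  have := congrArg (fun f : lev h𝔛.1 k 𝔊 ⟶ lev h𝔛.1 k 𝔊 => f.app (𝔛.lvU h𝔛.1 k U) (toLev h𝔛.1 k 𝔊 U x))
    (hz.eq_of_src (𝟙 _) 0)
  exact this

/-- Nakayama: a coherent module vanishing on the bottom level is zero. -/
theorem isZero_of_isZero_lev (h𝔊 : FSch.IsCohF 𝔛 h𝔛.1 𝔊) (hz : IsZero (lev h𝔛.1 0 𝔊)) : IsZero 𝔊 := by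
  rw [IsZero.iff_id_eq_zero]
  apply SheafOfModules.hom_ext
  refine PresheafOfModules.hom_ext fun W => ModuleCat.hom_ext (LinearMap.ext fun s => ?_)
  show (s : FSect h𝔛 𝔊 W.unop) = 0
  refine eq_of_locally (O := 𝔛.Osh h𝔛.1) 𝔊 fun x hx => ?_
  obtain ⟨U, hU, hxU, eW⟩ := exists_affine_le (𝔛 := 𝔛) hx
  obtain ⟨n, m, t, g, hP⟩ := affPres h𝔛 h𝔊 hU
  refine ⟨U, eW, hxU, ?_⟩
  rw [mres_zero]
  haveI := isIso_toReal h𝔛 𝔊 h𝔊
  let M := Sec h𝔛.1 (levSys h𝔛.1 𝔊) U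
  obtain ⟨hN, hC, -⟩ := affRing h𝔛 hU
  obtain ⟨hfin, hlev⟩ := affSec h𝔛 (levSys h𝔛.1 𝔊) (isCoh_levSys h𝔛 𝔊 h𝔊) hU
  haveI := hfin
  have hle : (⊤ : Submodule (Rng h𝔛 U) M) ≤ ⊥ := by
    refine Submodule.le_of_le_smul_of_le_jacobson_bot (I := RingHom.ker (rproj h𝔛.1 0 U)) hfin.fg_top
      (IsAdicComplete.le_jacobson_bot _) (le_sup_of_le_right fun y _ => ?_)
    rw [← pow_one (RingHom.ker (rproj h𝔛.1 0 U)), ← (hlev 0).2]
    obtain ⟨z, rfl⟩ : ∃ z, (toReal h𝔛.1 𝔊).val.app (op U) z = y :=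
      ⟨(inv (toReal h𝔛.1 𝔊)).val.app (op U) y,
        congrArg (fun f => f.val.app (op U) y) (IsIso.inv_hom_id (toReal h𝔛.1 𝔊))⟩
    exact (pr_toReal h𝔛.1 𝔊 0 U z).trans (toLev_zero_of_isZero h𝔛 0 hz U z)
  refine sect_injective_of_mono (O := 𝔛.Osh h𝔛.1) (toReal h𝔛.1 𝔊) U ?_
  rw [map_zero]
  exact (Submodule.mem_bot _).mp (hle Submodule.mem_top)

/-- Surjectivity of a map of coherent modules is checked on the bottom level. -/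
theorem epi_iff_epi_lev {𝔉 : FSch.ModF 𝔛 h𝔛.1} (θ : 𝔉 ⟶ 𝔊) (h𝔉 : FSch.IsCohF 𝔛 h𝔛.1 𝔉)
    (h𝔊 : FSch.IsCohF 𝔛 h𝔛.1 𝔊) : Epi θ ↔ Epi ((FSch.levelMor 𝔛 h𝔛.1 0).pull.map θ) := by
  haveI : (FSch.levelMor 𝔛 h𝔛.1 0).pull.IsLeftAdjoint := (FSch.levelMor 𝔛 h𝔛.1 0).adj.isLeftAdjoint
  refine ⟨fun h => inferInstance, fun h => ?_⟩
  have h0 : (FSch.levelMor 𝔛 h𝔛.1 0).pull.map (cokernel.π θ) = 0 := by
    rw [← cancel_epi ((FSch.levelMor 𝔛 h𝔛.1 0).pull.map θ), ← Functor.map_comp, cokernel.condition, comp_zero,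
      Functor.map_zero]
  have hz : IsZero (lev h𝔛.1 0 (cokernel θ)) := by
    rw [IsZero.iff_id_eq_zero, ← cancel_epi ((FSch.levelMor 𝔛 h𝔛.1 0).pull.map (cokernel.π θ)), h0, zero_comp,
      zero_comp]
  exact Preadditive.epi_of_isZero_cokernel θ (isZero_of_isZero_lev h𝔛 (isCohF_cokernel h𝔛 θ h𝔉 h𝔊) hz)

set_option maxHeartbeats 1000000 in
theorem toLev_unitF_eq_zero_iff (k : ℕ) {V : (𝔛.X 0).Opens} (hV : IsAffineOpen V) (c : Rng h𝔛 V) :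
    toLev h𝔛.1 k (FSch.unitF 𝔛 h𝔛.1) V (show FSect h𝔛 (FSch.unitF 𝔛 h𝔛.1) V from c) = 0 ↔
      rproj h𝔛.1 k V c = 0 := by
  have hP : IsPres (O := 𝔛.Osh h𝔛.1) (FSch.unitF 𝔛 h𝔛.1) V
      (fun _ : ULift.{u} (Fin 1) => (show FSect h𝔛 (FSch.unitF 𝔛 h𝔛.1) V from (1 : Rng h𝔛 V)))
      (fun j : ULift.{u} (Fin 0) => Fin.elim0 j.down) := by
    refine ⟨fun j => Fin.elim0 j.down, fun W hW s y hy => ⟨W, le_rfl, hy, fun _ => s, ?_⟩,
      fun W hW c hc y hy => ⟨W, le_rfl, hy, fun j => Fin.elim0 j.down, fun i => ?_⟩⟩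
    · rw [Fintype.sum_subsingleton _ (default : ULift.{u} (Fin 1))]
      exact (congrArg (fun z : Rng h𝔛 W => (show Rng h𝔛 W from s) * z) (map_one (ores (𝔛.Osh h𝔛.1) hW))).trans
        ((mul_one (show Rng h𝔛 W from s)).trans (mres_rfl _ s).symm)
    · rw [Fintype.sum_subsingleton _ i] at hc
      have h1 : c i = 0 := ((mul_one _).symm.trans (congrArg (fun z : Rng h𝔛 W => c i * z)
        (map_one (ores (𝔛.Osh h𝔛.1) hW)).symm)).trans hc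
      rw [h1, map_zero]
      exact Finset.sum_eq_zero fun j _ => Fin.elim0 j.down
  have e : toLev h𝔛.1 k (FSch.unitF 𝔛 h𝔛.1) V (show FSect h𝔛 (FSch.unitF 𝔛 h𝔛.1) V from c) =
      rproj h𝔛.1 k V c • toLev h𝔛.1 k (FSch.unitF 𝔛 h𝔛.1) V (show FSect h𝔛 (FSch.unitF 𝔛 h𝔛.1) V from (1 : Rng h𝔛 V)) := by
    refine Eq.trans ?_ (toLev_smul h𝔛.1 k (FSch.unitF 𝔛 h𝔛.1) V c _)
    exact congrArg (toLev h𝔛.1 k (FSch.unitF 𝔛 h𝔛.1) V) (mul_one c).symm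
  rw [e]
  refine ⟨fun h0 => ?_, fun h0 => by rw [h0, zero_smul]⟩
  obtain ⟨d, hd⟩ := (levelPres h𝔛.1 k _ (h𝔛.2.2 k) hP hV).2.2 (fun _ => rproj h𝔛.1 k V c) (by
    rw [Fintype.sum_subsingleton _ (default : ULift.{u} (Fin 1))]
    exact h0)
  exact (hd default).symm.trans (Finset.sum_eq_zero fun j _ => Fin.elim0 j.down)

set_option maxHeartbeats 1000000 in
/-- The kernel of the unit from the structure sheaf to a level is coherent. -/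
theorem isCohF_kernel_unit (k : ℕ) :
    FSch.IsCohF 𝔛 h𝔛.1 (kernel ((FSch.levelMor 𝔛 h𝔛.1 k).adj.unit.app (FSch.unitF 𝔛 h𝔛.1))) := by
  classical
  let η := (FSch.levelMor 𝔛 h𝔛.1 k).adj.unit.app (FSch.unitF 𝔛 h𝔛.1)
  refine isFinitePresentation_of_isPres (O := 𝔛.Osh h𝔛.1) fun x => ?_
  obtain ⟨U, hU, hxU, -⟩ := exists_affine_le (𝔛 := 𝔛) (W := ⊤) (x := x) trivial
  obtain ⟨hN, -, -⟩ := affRing h𝔛 hU
  have hker := fun (V : (𝔛.X 0).Opens) (hV : IsAffineOpen V) => toLev_unitF_eq_zero_iff h𝔛 k hV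
  obtain ⟨q, a₀, ha₀⟩ := Submodule.fg_iff_exists_fin_generating_family.mp
    (IsNoetherian.noetherian (RingHom.ker (rproj h𝔛.1 k U)))
  let a : ULift.{u} (Fin q) → Rng h𝔛 U := fun j => a₀ j.down
  have ha : Ideal.span (Set.range a) = RingHom.ker (rproj h𝔛.1 k U) := by
    refine Eq.trans ?_ ha₀
    exact congrArg (Ideal.span) (Equiv.ulift.surjective.range_comp a₀)
  choose s hs using fun j => exists_kernel_lift (O := 𝔛.Osh h𝔛.1) η U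
    (show FSect h𝔛 (FSch.unitF 𝔛 h𝔛.1) U from a j)
    ((hker U hU (a j)).mpr (by rw [← RingHom.mem_ker, ← ha]; exact Submodule.subset_span ⟨j, rfl⟩))
  obtain ⟨q', z, hP⟩ := IsPres.of_mono h𝔛 (kernel.ι η) (isCohF_unitF h𝔛) hU s fun W hW y p hp => by
    obtain ⟨r, hpr, hr⟩ := exists_basic h𝔛.1 hU (W := W) p (hW hp) hp
    let c : Rng h𝔛 (basic h𝔛.1 U r) := mres (FSch.unitF 𝔛 h𝔛.1) hr ((kernel.ι η).val.app (op W) y)
    have hc : rproj h𝔛.1 k (basic h𝔛.1 U r) c = 0 := by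
      refine (hker _ (isAffineOpen_basic h𝔛.1 hU r) c).mp ?_
      refine (mapp_res (O := 𝔛.Osh h𝔛.1) (FSch.unitF 𝔛 h𝔛.1) η hr ((kernel.ι η).val.app (op W) y)).trans ?_
      refine (congrArg (mres _ hr) (congrArg (fun f : kernel η ⟶ _ => f.val.app (op W) y) (kernel.condition η))).trans ?_
      exact mres_zero hr
    obtain ⟨d, hd⟩ := ker_toLev_gen h𝔛 k hU r c hc ha
    refine ⟨_, basic_le h𝔛.1 U r, hr, hpr, d, sect_injective_of_mono (O := 𝔛.Osh h𝔛.1) (kernel.ι η) _ ?_⟩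
    rw [mapp_sum_smul, mapp_res (kernel η) (kernel.ι η) hr y]
    simp only [mapp_res, hs]
    exact hd
  exact ⟨U, _, _, s, z, hxU, hP⟩

end Groth.Agent.FModLib
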